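import Mathlib
import Groth.Agent.H10.ArtSubMono

set_option autoImplicit false
universe u
open IsLocalRing

namespace Groth.Agent.H75.STI

theorem exists_subalgebra_with_lifts (p : ℕ) [Fact p.Prime] {k K Λ Λb : Type u} [Field k]
    [CharP k p] [Field K] [Algebra k K] [CommRing Λ] [Algebra k Λ] [CommRing Λb] [Algebra k Λb]
    (hH : Module.Finite K (Algebra.H1Cotangent k K)) (πb : Λb →ₐ[k] K)
    (hπ : Function.Surjective πb) {d' : ℕ} (lam : Fin d' → Λb)
    (hlam : Ideal.span (Set.range lam) = RingHom.ker πb) {n : ℕ} (hn : RingHom.ker πb ^ n = ⊥)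
    (ν : Λ →ₐ[k] Λb) (hν : ∀ x : Λb, ∃ l s : Λ, πb (ν s) ≠ 0 ∧ ν s * x = ν l) (E : Finset Λb) :
    ∃ (A₀ : Subalgebra k Λb) (_ : IsLocalRing A₀) (F : IntermediateField k K),
      (↑E : Set Λb) ⊆ A₀ ∧ IsArtinianRing A₀ ∧ Module.Flat A₀ Λb ∧ Algebra.EssFiniteType k A₀ ∧
      (IsLocalRing.maximalIdeal A₀).map (algebraMap A₀ Λb) = RingHom.ker πb ∧
      (∀ x : A₀, IsUnit x ↔ πb x ≠ 0) ∧ (∀ i, lam i ∈ A₀) ∧ (∀ x ∈ A₀, πb x ∈ F) ∧
      (∀ c ∈ F, ∃ x ∈ A₀, πb x = c) ∧
      ∃ (ι : Type) (_ : Fintype ι) (w : ι → Λ), (∀ i, ν (w i) ∈ A₀) ∧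
        IntermediateField.adjoin k (Set.range fun i => πb (ν (w i))) = F := by
  classical
  obtain ⟨σ, T₁, hσ, hx, hT⟩ := Groth.Agent.H10.ArtSubMono.main_mono p hH πb hπ lam hlam hn
  choose Tx hTx using hx
  choose l s hs hls using fun τ : K => hν (σ τ)
  obtain ⟨q, hq⟩ : ∃ q, q = p ^ n := ⟨_, rfl⟩
  have hp : p.Prime := Fact.out
  have hnq : n ≤ q := hq ▸ (Nat.lt_pow_self hp.one_lt).le
  have hq1 : 1 ≤ q := hq ▸ Nat.one_le_pow _ _ hp.pos
  haveI : Nontrivial Λb := πb.toRingHom.domain_nontrivial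
  haveI : CharP Λb p := charP_of_injective_algebraMap (algebraMap k Λb).injective p
  have key : ∀ τ : K, (ν (s τ)) ^ q = σ ((πb (ν (s τ))) ^ q) := by
    intro τ
    have hε : ν (s τ) - σ (πb (ν (s τ))) ∈ RingHom.ker πb := by
      show πb (ν (s τ) - σ (πb (ν (s τ)))) = 0
      rw [map_sub, hσ]
      exact sub_self _
    have hεq : (ν (s τ) - σ (πb (ν (s τ)))) ^ q = 0 := by
      have h1 : (ν (s τ) - σ (πb (ν (s τ)))) ^ q ∈ RingHom.ker πb ^ n :=
        Ideal.pow_le_pow_right hnq (Ideal.pow_mem_pow hε q)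
      rw [hn] at h1
      exact Ideal.mem_bot.mp h1
    calc (ν (s τ)) ^ q = (σ (πb (ν (s τ))) + (ν (s τ) - σ (πb (ν (s τ))))) ^ q := by
          congr 1; ring
      _ = (σ (πb (ν (s τ)))) ^ q + (ν (s τ) - σ (πb (ν (s τ)))) ^ q := by
          rw [hq]; exact add_pow_char_pow _ _ p n
      _ = σ ((πb (ν (s τ))) ^ q) := by rw [hεq, add_zero, map_pow]
  let Ta : Finset K := T₁ ∪ E.biUnion Tx
  let T : Finset K := Ta ∪ Ta.image (fun τ => (πb (ν (s τ))) ^ q)
  have hT₁T : T₁ ⊆ T := fun x hx => Finset.mem_union_left _ (Finset.mem_union_left _ hx)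
  obtain ⟨A₀, hloc, hmem, hart, hflat, hess, hmax, hσA, hπA, hlamA, hunit⟩ := hT T hT₁T
  refine ⟨A₀, hloc, IntermediateField.adjoin k (T : Set K), ?_, hart, hflat, hess, hmax, hunit,
    hlamA, hπA, fun c hc => ⟨σ c, hσA c hc, hσ c⟩, ?_⟩
  · intro x hx
    rw [SetLike.mem_coe, hmem]
    apply hTx x T
    intro t ht
    exact Finset.mem_union_left _ (Finset.mem_union_right _ (Finset.mem_biUnion.mpr ⟨x, hx, ht⟩))
  · let e : Fin Ta.card → K := fun i => ((Ta.equivFin.symm i : {x // x ∈ Ta}) : K)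
    have heTa : ∀ i, e i ∈ Ta := fun i => (Ta.equivFin.symm i).2
    have hesurj : ∀ τ ∈ Ta, ∃ i, e i = τ := fun τ hτ => ⟨Ta.equivFin ⟨τ, hτ⟩, by simp [e]⟩
    let w : Fin Ta.card ⊕ Fin Ta.card → Λ :=
      Sum.elim (fun i => s (e i) ^ q) (fun i => s (e i) ^ (q - 1) * l (e i))
    have hw1 : ∀ i, ν (w (Sum.inl i)) = σ ((πb (ν (s (e i)))) ^ q) := by
      intro i
      show ν (s (e i) ^ q) = _
      rw [map_pow, key]
    have hw2 : ∀ i, ν (w (Sum.inr i)) = σ ((πb (ν (s (e i)))) ^ q * e i) := by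
      intro i
      show ν (s (e i) ^ (q - 1) * l (e i)) = _
      rw [map_mul, map_pow, ← hls, ← mul_assoc, ← pow_succ, Nat.sub_add_cancel hq1, key, map_mul]
    have hcT : ∀ i, (πb (ν (s (e i)))) ^ q ∈ IntermediateField.adjoin k (T : Set K) := fun i =>
      IntermediateField.subset_adjoin k _ (Finset.mem_coe.mpr (Finset.mem_union_right _
        (Finset.mem_image.mpr ⟨e i, heTa i, rfl⟩)))
    have heT : ∀ i, e i ∈ IntermediateField.adjoin k (T : Set K) := fun i =>
      IntermediateField.subset_adjoin k _ (Finset.mem_coe.mpr (Finset.mem_union_left _ (heTa i)))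
    refine ⟨Fin Ta.card ⊕ Fin Ta.card, inferInstance, w, ?_, ?_⟩
    · rintro (i | i)
      · rw [hw1]; exact hσA _ (hcT i)
      · rw [hw2]; exact hσA _ (mul_mem (hcT i) (heT i))
    · apply le_antisymm
      · rw [IntermediateField.adjoin_le_iff]
        rintro _ ⟨(i | i), rfl⟩
        · show πb (ν (w (Sum.inl i))) ∈ _
          rw [hw1, hσ]; exact hcT i
        · show πb (ν (w (Sum.inr i))) ∈ _
          rw [hw2, hσ]; exact mul_mem (hcT i) (heT i)
      · rw [IntermediateField.adjoin_le_iff]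
        intro t ht
        have hgen1 : ∀ i, (πb (ν (s (e i)))) ^ q ∈
            IntermediateField.adjoin k (Set.range fun j => πb (ν (w j))) := by
          intro i
          apply IntermediateField.subset_adjoin
          exact ⟨Sum.inl i, by show πb (ν (w (Sum.inl i))) = _; rw [hw1, hσ]⟩
        have hgen2 : ∀ i, (πb (ν (s (e i)))) ^ q * e i ∈
            IntermediateField.adjoin k (Set.range fun j => πb (ν (w j))) := by
          intro i
          apply IntermediateField.subset_adjoin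
          exact ⟨Sum.inr i, by show πb (ν (w (Sum.inr i))) = _; rw [hw2, hσ]⟩
        rcases Finset.mem_union.mp (Finset.mem_coe.mp ht) with h | h
        · obtain ⟨i, rfl⟩ := hesurj t h
          have hne : (πb (ν (s (e i)))) ^ q ≠ 0 := pow_ne_zero _ (hs _)
          have h3 : e i = ((πb (ν (s (e i)))) ^ q)⁻¹ * ((πb (ν (s (e i)))) ^ q * e i) := by
            rw [← mul_assoc, inv_mul_cancel₀ hne, one_mul]
          rw [SetLike.mem_coe, h3]
          exact mul_mem (inv_mem (hgen1 i)) (hgen2 i)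
        · obtain ⟨τ, hτ, rfl⟩ := Finset.mem_image.mp h
          obtain ⟨i, rfl⟩ := hesurj τ hτ
          exact hgen1 i

end Groth.Agent.H75.STI
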