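import Mathlib
import Groth.Agent.H10.InsepArt
import Groth.Agent.H3.InsepGlue
import Groth.Agent.H3.FlatDescent

set_option autoImplicit false
universe u
open IsLocalRing

namespace Groth.Agent.H75.V6IndSmooth

/-- (V6) ind-smoothness of the Artinian subalgebra over the truncated regular local ring -/
theorem indSmooth_of_subalgebra {k K Λb Pb : Type u} [Field k] [Field K] [Algebra k K]
    [CommRing Λb] [IsLocalRing Λb] [Algebra k Λb] (πb : Λb →ₐ[k] K) (A₀ : Subalgebra k Λb)
    [IsLocalRing A₀] [Module.Flat A₀ Λb]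
    (hmax : (maximalIdeal A₀).map (algebraMap A₀ Λb) = RingHom.ker πb)
    (hunit : ∀ x : A₀, IsUnit x ↔ πb x ≠ 0)
    [CommRing Pb] [Algebra Pb A₀] [Algebra Pb Λb] [IsScalarTower Pb A₀ Λb] [Module.Flat Pb Λb]
    (F κ : IntermediateField k K) (hκF : κ ≤ F) (hsep : ∀ x ∈ F, IsSeparable κ x)
    (hF1 : ∀ x ∈ A₀, πb x ∈ F) (hF2 : ∀ c ∈ F, ∃ x ∈ A₀, πb x = c)
    (hκ1 : ∀ x : Pb, πb (algebraMap Pb Λb x) ∈ κ)
    (hκ2 : ∀ c ∈ κ, ∃ x : Pb, πb (algebraMap Pb Λb x) = c)
    (hnil : IsNilpotent (RingHom.ker (πb.toRingHom.comp (algebraMap Pb Λb))))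
    (hgen : (RingHom.ker (πb.toRingHom.comp (algebraMap Pb Λb))).map (algebraMap Pb Λb) =
      RingHom.ker πb) :
    Smoothing.IndSmooth Pb A₀ := by
  classical
  -- faithfully flat
  haveI : IsLocalHom (algebraMap A₀ Λb) := by
    refine ⟨fun x hx => ?_⟩
    rw [hunit]
    have h1 : IsUnit (πb (algebraMap A₀ Λb x)) := hx.map πb
    exact h1.ne_zero
  haveI : Module.FaithfullyFlat A₀ Λb := Module.FaithfullyFlat.of_flat_of_isLocalHom
  haveI : Module.Flat Pb A₀ := Groth.Agent.H3.flat_of_flat_of_faithfullyFlat Pb A₀ Λb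
  letI : Algebra κ F := (IntermediateField.inclusion hκF).toRingHom.toAlgebra
  haveI : Algebra.IsGeometricallyReduced κ F :=
    Groth.Agent.H3.InsepGlue.isGeometricallyReduced_inclusion κ F hκF hsep
  let ρ : Pb →+* κ := (πb.toRingHom.comp (algebraMap Pb Λb)).codRestrict κ hκ1
  let ρ' : A₀ →+* F := (πb.toRingHom.comp A₀.val.toRingHom).codRestrict F (fun x => hF1 x x.2)
  have hρ : Function.Surjective ρ := by
    intro c
    obtain ⟨x, hx⟩ := hκ2 c.1 c.2
    exact ⟨x, Subtype.ext hx⟩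
  have hρ' : Function.Surjective ρ' := by
    intro c
    obtain ⟨x, hxA, hx⟩ := hF2 c.1 c.2
    exact ⟨⟨x, hxA⟩, Subtype.ext hx⟩
  have hkerρ : RingHom.ker ρ = RingHom.ker (πb.toRingHom.comp (algebraMap Pb Λb)) := by
    ext x
    rw [RingHom.mem_ker, RingHom.mem_ker]
    constructor
    · intro h
      exact congrArg Subtype.val h
    · intro h
      exact Subtype.ext h
  have hkerρ' : RingHom.ker ρ' = maximalIdeal A₀ := by
    ext x
    rw [RingHom.mem_ker, mem_maximalIdeal, mem_nonunits_iff, hunit, not_not]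
    constructor
    · intro h
      exact congrArg Subtype.val h
    · intro h
      exact Subtype.ext h
  have hker : (RingHom.ker ρ).map (algebraMap Pb A₀) = RingHom.ker ρ' := by
    rw [hkerρ', hkerρ]
    have h1 : ((RingHom.ker (πb.toRingHom.comp (algebraMap Pb Λb))).map
        (algebraMap Pb A₀)).map (algebraMap A₀ Λb) =
        (maximalIdeal A₀).map (algebraMap A₀ Λb) := by
      rw [Ideal.map_map, ← IsScalarTower.algebraMap_eq, hgen, hmax]
    have h2 := congrArg (Ideal.comap (algebraMap A₀ Λb)) h1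
    rwa [Ideal.comap_map_eq_self_of_faithfullyFlat, Ideal.comap_map_eq_self_of_faithfullyFlat] at h2
  have hcomm : ∀ r, ρ' (algebraMap Pb A₀ r) = algebraMap κ F (ρ r) := by
    intro r
    apply Subtype.ext
    show πb ((algebraMap Pb A₀ r : A₀) : Λb) = πb (algebraMap Pb Λb r)
    rw [IsScalarTower.algebraMap_apply Pb A₀ Λb]
    rfl
  have hnil' : IsNilpotent (RingHom.ker ρ) := by rw [hkerρ]; exact hnil
  exact Groth.Agent.H10.InsepArt.indSmooth_of_flat_artinian ρ hρ hnil' ρ' hρ' hker hcomm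

end Groth.Agent.H75.V6IndSmooth
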