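import Mathlib

/-!
# (OPEN) for the S0373 squad

For a bounded family `M i` of finite modules over a Noetherian ring, the locus of primes `p` where
exactly one `(M t)_p` is nonzero and that one is free of rank one is open.
-/

set_option autoImplicit false

universe u

open CategoryTheory

namespace Groth.Agent.H75.Gor_OPEN

/-- The locus where a finitely presented module is locally free of rank one is open. -/
theorem isOpen_rankOne {A : Type u} [CommRing A] (N : Type u) [AddCommGroup N] [Module A N]
    [Module.FinitePresentation A N] :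
    IsOpen {p : PrimeSpectrum A | Nonempty (LocalizedModule p.asIdeal.primeCompl N
      ≃ₗ[Localization.AtPrime p.asIdeal] Localization.AtPrime p.asIdeal)} := by
  have hlc := Module.isLocallyConstant_rankAtStalk_freeLocus (R := A) (M := N)
  have hopen := (Module.isOpen_freeLocus (R := A) (M := N)).isOpenMap_subtype_val _
    (hlc.isOpen_fiber 1)
  convert hopen using 1
  ext p
  constructor
  · rintro ⟨e⟩
    have hfree : Module.Free (Localization.AtPrime p.asIdeal)
        (LocalizedModule p.asIdeal.primeCompl N) := Module.Free.of_equiv e.symm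
    refine ⟨⟨p, hfree⟩, ?_, rfl⟩
    show Module.finrank (Localization.AtPrime p.asIdeal)
      (LocalizedModule p.asIdeal.primeCompl N) = 1
    rw [e.finrank_eq, Module.finrank_self]
  · rintro ⟨⟨q, hq⟩, hrank, rfl⟩
    haveI : Module.Free (Localization.AtPrime q.asIdeal)
        (LocalizedModule q.asIdeal.primeCompl N) := hq
    have hrank' : Module.finrank (Localization.AtPrime q.asIdeal)
      (LocalizedModule q.asIdeal.primeCompl N) = 1 := hrank
    exact ⟨LinearEquiv.ofFinrankEq _ _ (by rw [hrank', Module.finrank_self])⟩

theorem isOpen_rankOneLocus {A : Type u} [CommRing A] [IsNoetherianRing A] (M : ℤ → Type u)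
    [∀ i, AddCommGroup (M i)] [∀ i, Module A (M i)] [∀ i, Module.Finite A (M i)] (a b : ℤ)
    (h : ∀ i, (i < a ∨ b < i) → Subsingleton (M i)) :
    IsOpen {p : PrimeSpectrum A | ∃ t : ℤ,
      (∀ i, i ≠ t → Subsingleton (LocalizedModule p.asIdeal.primeCompl (M i))) ∧
      Nonempty (LocalizedModule p.asIdeal.primeCompl (M t) ≃ₗ[Localization.AtPrime p.asIdeal]
        Localization.AtPrime p.asIdeal)} := by
  have hset : {p : PrimeSpectrum A | ∃ t : ℤ,
      (∀ i, i ≠ t → Subsingleton (LocalizedModule p.asIdeal.primeCompl (M i))) ∧
      Nonempty (LocalizedModule p.asIdeal.primeCompl (M t) ≃ₗ[Localization.AtPrime p.asIdeal]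
        Localization.AtPrime p.asIdeal)} =
      ⋃ t : ℤ, ({p : PrimeSpectrum A |
        ∀ i, i ≠ t → Subsingleton (LocalizedModule p.asIdeal.primeCompl (M i))} ∩
        {p : PrimeSpectrum A | Nonempty (LocalizedModule p.asIdeal.primeCompl (M t)
          ≃ₗ[Localization.AtPrime p.asIdeal] Localization.AtPrime p.asIdeal)}) := by
    ext p
    simp only [Set.mem_setOf_eq, Set.mem_iUnion, Set.mem_inter_iff]
  rw [hset]
  have hfp : ∀ i, Module.FinitePresentation A (M i) :=
    fun i => Module.finitePresentation_of_finite A (M i)
  refine isOpen_iUnion fun t => IsOpen.inter ?_ (isOpen_rankOne (M t))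
  have h2 : {p : PrimeSpectrum A |
      ∀ i, i ≠ t → Subsingleton (LocalizedModule p.asIdeal.primeCompl (M i))} =
      ⋂ i ∈ Finset.Icc a b, {p : PrimeSpectrum A |
        i ≠ t → Subsingleton (LocalizedModule p.asIdeal.primeCompl (M i))} := by
    ext p
    simp only [Set.mem_setOf_eq, Set.mem_iInter, Finset.mem_Icc]
    constructor
    · intro hp i _ hit
      exact hp i hit
    · intro hp i hit
      by_cases hi : a ≤ i ∧ i ≤ b
      · exact hp i hi hit
      · have hout : i < a ∨ b < i := by omega
        haveI := h i hout
        infer_instance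
  rw [h2]
  refine isOpen_biInter_finset fun i _ => ?_
  by_cases hit : i = t
  · have : {p : PrimeSpectrum A |
        i ≠ t → Subsingleton (LocalizedModule p.asIdeal.primeCompl (M i))} = Set.univ := by
      ext p
      simp [hit]
    rw [this]
    exact isOpen_univ
  · have : {p : PrimeSpectrum A |
        i ≠ t → Subsingleton (LocalizedModule p.asIdeal.primeCompl (M i))} =
        (Module.support A (M i))ᶜ := by
      ext p
      simp only [Set.mem_setOf_eq, Set.mem_compl_iff, Module.notMem_support_iff]
      exact ⟨fun hp => hp hit, fun hp _ => hp⟩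
    rw [this]
    exact Module.isClosed_support.isOpen_compl

end Groth.Agent.H75.Gor_OPEN
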