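import Mathlib

/-!
Helper lemmas (helper75) on Krull dimension along integral maps, Rees algebras and
algebraically independent elements in finitely generated algebras over a field.
-/

set_option autoImplicit false
set_option linter.style.haveILetI false
universe u

namespace Groth.Agent.H75.Rees

open Polynomial

/-- Krull dimension does not increase along an integral ring hom. -/
theorem ringKrullDim_le_of_isIntegral {A B : Type*} [CommRing A] [CommRing B] (g : A →+* B)
    (hg : g.IsIntegral) : ringKrullDim B ≤ ringKrullDim A := by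
  letI := g.toAlgebra
  refine Order.krullDim_le_of_strictMono
    (fun q : PrimeSpectrum B => (⟨Ideal.comap g q.asIdeal, inferInstance⟩ : PrimeSpectrum A)) ?_
  intro q q' hlt
  have hlt' : q.asIdeal < q'.asIdeal := (PrimeSpectrum.asIdeal_lt_asIdeal q q').mpr hlt
  obtain ⟨x, hx', hx⟩ := SetLike.exists_of_lt hlt'
  have h1 : Ideal.comap (algebraMap A B) q.asIdeal < Ideal.comap (algebraMap A B) q'.asIdeal :=
    Ideal.comap_lt_comap_of_integral_mem_sdiff (R := A) hlt'.le ⟨hx', hx⟩ (hg x)
  exact (PrimeSpectrum.asIdeal_lt_asIdeal _ _).mp h1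

theorem isIntegral_mk_comp {A B : Type*} [CommRing A] [CommRing B] (f : A →+* B)
    (hf : f.IsIntegral) (J : Ideal B) : ((Ideal.Quotient.mk J).comp f).IsIntegral :=
  RingHom.IsIntegral.trans _ _ hf (RingHom.isIntegral_of_surjective _ Ideal.Quotient.mk_surjective)

/-- Krull dimension does not decrease along an injective integral ring hom (going up). -/
theorem ringKrullDim_le_of_injective_isIntegral {A B : Type*} [CommRing A] [CommRing B]
    (f : A →+* B) (hinj : Function.Injective f) (hf : f.IsIntegral) :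
    ringKrullDim A ≤ ringKrullDim B := by
  letI := f.toAlgebra
  haveI : Algebra.IsIntegral A B := ⟨hf⟩
  haveI : FaithfulSMul A B := (faithfulSMul_iff_algebraMap_injective A B).mpr hinj
  unfold ringKrullDim Order.krullDim
  apply iSup_le
  intro l
  obtain ⟨⟨P, hP1, hP2⟩⟩ := (inferInstance : Nonempty (Ideal.primesOver l.head.asIdeal B))
  haveI := hP1
  haveI := hP2
  obtain ⟨L, hL, -, -⟩ := Ideal.exists_ltSeries_of_hasGoingUp l P
  rw [← hL]
  exact le_iSup (fun p : LTSeries (PrimeSpectrum B) => (p.length : WithBot ℕ∞)) L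

/-- Coefficients of elements of `m · Rees(c)`. -/
theorem coeff_mem_of_mem_map {R : Type*} [CommRing R] (c m : Ideal R) (f : ↥(reesAlgebra c))
    (hf : f ∈ Ideal.map (algebraMap R ↥(reesAlgebra c)) m) :
    ∀ j, (f : R[X]).coeff j ∈ m * c ^ j := by
  unfold Ideal.map at hf
  refine Submodule.span_induction
    (p := fun (x : ↥(reesAlgebra c)) _ => ∀ j, (x : R[X]).coeff j ∈ m * c ^ j) ?_ ?_ ?_ ?_ hf
  · rintro x ⟨r, hr, rfl⟩ j
    have h0 : ((algebraMap R ↥(reesAlgebra c) r : ↥(reesAlgebra c)) : R[X]) = C r := rfl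
    rw [h0, coeff_C]
    split_ifs with h
    · subst h
      rw [pow_zero, Ideal.one_eq_top, Ideal.mul_top]
      exact hr
    · exact zero_mem _
  · intro j
    simp
  · intro x y _ _ hx hy j
    rw [Subalgebra.coe_add, coeff_add]
    exact add_mem (hx j) (hy j)
  · intro a x _ hx j
    rw [smul_eq_mul, Subalgebra.coe_mul, coeff_mul]
    refine Ideal.sum_mem _ (fun pq hpq => ?_)
    have hpq' : pq.1 + pq.2 = j := Finset.HasAntidiagonal.mem_antidiagonal.mp hpq
    have ha : (a : R[X]).coeff pq.1 ∈ c ^ pq.1 := (mem_reesAlgebra_iff c _).mp a.2 pq.1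
    have h1 : (a : R[X]).coeff pq.1 * (x : R[X]).coeff pq.2 ∈ c ^ pq.1 * (m * c ^ pq.2) :=
      Ideal.mul_mem_mul ha (hx pq.2)
    have h2 : c ^ pq.1 * (m * c ^ pq.2) = m * c ^ j := by
      rw [mul_left_comm, ← pow_add, hpq']
    rw [← h2]
    exact h1

theorem mem_map_of_coeff_mem {R : Type*} [CommRing R] (c m : Ideal R) (f : ↥(reesAlgebra c))
    (hf : ∀ j, (f : R[X]).coeff j ∈ m * c ^ j) :
    f ∈ Ideal.map (algebraMap R ↥(reesAlgebra c)) m := by
  let N : Submodule R R[X] := Submodule.map (reesAlgebra c).val.toLinearMap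
    ((Ideal.map (algebraMap R ↥(reesAlgebra c)) m).restrictScalars R)
  have key : ∀ j, m * c ^ j ≤ Submodule.comap (monomial j : R →ₗ[R] R[X]) N := by
    intro j
    rw [Ideal.mul_le]
    intro r hr s hs
    rw [Submodule.mem_comap]
    refine Submodule.mem_map.mpr
      ⟨algebraMap R ↥(reesAlgebra c) r * ⟨monomial j s, reesAlgebra.monomial_mem.mpr hs⟩, ?_, ?_⟩
    · exact Ideal.mul_mem_right _ _ (Ideal.mem_map_of_mem _ hr)
    · show (C r : R[X]) * monomial j s = monomial j (r * s)
      rw [C_mul_monomial]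
  have hfN : (f : R[X]) ∈ N := by
    rw [(f : R[X]).as_sum_support]
    exact Submodule.sum_mem _ (fun j _ => key j (hf j))
  obtain ⟨g, hg, hgf⟩ := Submodule.mem_map.mp hfN
  have hgf' : g = f := Subtype.ext hgf
  rw [← hgf']
  exact hg

theorem mem_map_iff {R : Type*} [CommRing R] (c m : Ideal R) (f : ↥(reesAlgebra c)) :
    f ∈ Ideal.map (algebraMap R ↥(reesAlgebra c)) m ↔ ∀ j, (f : R[X]).coeff j ∈ m * c ^ j :=
  ⟨coeff_mem_of_mem_map c m f, mem_map_of_coeff_mem c m f⟩

/-- Integrality of a ring hom into a subalgebra of `R[X]` can be checked in `R[X]`. -/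
theorem isIntegral_of_val_comp {A R : Type*} [CommRing A] [CommRing R] (S : Subalgebra R R[X])
    (Φ : A →+* ↥S)
    (hA : ∀ y ∈ S, (((S.val : ↥S →ₐ[R] R[X]) : ↥S →+* R[X]).comp Φ).IsIntegralElem y) :
    Φ.IsIntegral := by
  intro y
  obtain ⟨Q, hQm, hQe⟩ := hA y.1 y.2
  refine ⟨Q, hQm, ?_⟩
  apply Subtype.ext
  have h1 : ((Polynomial.eval₂ Φ y Q : ↥S) : R[X]) =
      Polynomial.eval₂ (((S.val : ↥S →ₐ[R] R[X]) : ↥S →+* R[X]).comp Φ) (y : R[X]) Q :=
    Polynomial.hom_eval₂ Q Φ ((S.val : ↥S →ₐ[R] R[X]) : ↥S →+* R[X]) y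
  rw [h1, hQe]
  rfl

theorem prod_monomial' {R : Type*} [CommRing R] {ι : Type*} (S : Finset ι) (e : ι → ℕ)
    (r : ι → R) :
    ∏ i ∈ S, Polynomial.monomial (e i) (r i) =
      Polynomial.monomial (∑ i ∈ S, e i) (∏ i ∈ S, r i) := by
  classical
  induction S using Finset.induction_on with
  | empty => simp
  | insert a S ha ih =>
    rw [Finset.prod_insert ha, Finset.sum_insert ha, Finset.prod_insert ha, ih,
      Polynomial.monomial_mul_monomial]

theorem aeval_monomial_monomial {R : Type*} [CommRing R] {σ : Type*} (v : σ → R) (d : σ →₀ ℕ)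
    (a : R) :
    MvPolynomial.aeval (fun i => Polynomial.monomial 1 (v i)) (MvPolynomial.monomial d a) =
      Polynomial.monomial d.degree (MvPolynomial.eval v (MvPolynomial.monomial d a)) := by
  rw [MvPolynomial.aeval_monomial, MvPolynomial.eval_monomial, Finsupp.prod, Finsupp.prod]
  simp_rw [Polynomial.monomial_pow, one_mul]
  rw [prod_monomial', ← Polynomial.C_eq_algebraMap, Polynomial.C_mul_monomial,
    Finsupp.degree_apply]

theorem coeff_aeval_monomial {R : Type*} [CommRing R] {σ : Type*} (v : σ → R)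
    (P : MvPolynomial σ R) (j : ℕ) :
    (MvPolynomial.aeval (fun i => Polynomial.monomial 1 (v i)) P).coeff j =
      MvPolynomial.eval v (MvPolynomial.homogeneousComponent j P) := by
  classical
  rw [MvPolynomial.homogeneousComponent_apply, map_sum]
  conv_lhs => rw [P.as_sum, map_sum, Polynomial.finsetSum_coeff]
  rw [Finset.sum_filter]
  refine Finset.sum_congr rfl (fun d _ => ?_)
  rw [aeval_monomial_monomial, Polynomial.coeff_monomial]

/-- In a finitely generated algebra over a field, the number of algebraically independent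
elements is bounded by the Krull dimension. -/
theorem le_ringKrullDim_of_algebraicIndependent {k B : Type u} [Field k] [CommRing B]
    [Algebra k B] [Algebra.FiniteType k B] {t : ℕ} (x : Fin t → B)
    (hx : AlgebraicIndependent k x) : ((t : ℕ∞) : WithBot ℕ∞) ≤ ringKrullDim B := by
  classical
  have hinj : Function.Injective (MvPolynomial.aeval x : MvPolynomial (Fin t) k →ₐ[k] B) := hx
  let M : Submonoid B := Submonoid.map
    ((MvPolynomial.aeval x : MvPolynomial (Fin t) k →ₐ[k] B) : MvPolynomial (Fin t) k →* B)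
    (nonZeroDivisors (MvPolynomial (Fin t) k))
  have hdisj : Disjoint ((⊥ : Ideal B) : Set B) (M : Set B) := by
    rw [Set.disjoint_left]
    intro z hz hzM
    have hz0 : z = 0 := hz
    obtain ⟨q, hq, hqz⟩ := hzM
    have hq0 : q = 0 := hinj (by rw [map_zero, ← hz0, ← hqz]; rfl)
    exact (nonZeroDivisors.ne_zero hq) hq0
  obtain ⟨p, hp, -, hpM⟩ := Ideal.exists_le_prime_disjoint (⊥ : Ideal B) M hdisj
  haveI := hp
  have hx' : AlgebraicIndependent k (fun i => (Ideal.Quotient.mkₐ k p) (x i)) := by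
    rw [algebraicIndependent_iff_injective_aeval, injective_iff_map_eq_zero]
    intro q hq
    by_contra hq0
    have h1 : MvPolynomial.aeval (fun i => (Ideal.Quotient.mkₐ k p) (x i)) q =
        (Ideal.Quotient.mkₐ k p) (MvPolynomial.aeval x q) :=
      (MvPolynomial.comp_aeval_apply x (Ideal.Quotient.mkₐ k p) q).symm
    have h2 : MvPolynomial.aeval x q ∈ p := by
      rw [← Ideal.Quotient.eq_zero_iff_mem]
      rw [h1] at hq
      exact hq
    have h3 : MvPolynomial.aeval x q ∈ M :=
      ⟨q, mem_nonZeroDivisors_of_ne_zero hq0, rfl⟩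
    exact Set.disjoint_left.mp hpM h2 h3
  haveI : Algebra.FiniteType k (B ⧸ p) :=
    Algebra.FiniteType.of_surjective (Ideal.Quotient.mkₐ k p) (Ideal.Quotient.mkₐ_surjective k p)
  obtain ⟨s, g, hginj, hgint⟩ := exists_integral_inj_algHom_of_fg k (B ⧸ p)
  have hts : t ≤ s := by
    letI : Algebra (MvPolynomial (Fin s) k) (B ⧸ p) := g.toRingHom.toAlgebra
    haveI : IsScalarTower k (MvPolynomial (Fin s) k) (B ⧸ p) :=
      IsScalarTower.of_algebraMap_eq (fun r => (g.commutes r).symm)
    haveI : Algebra.IsIntegral (MvPolynomial (Fin s) k) (B ⧸ p) := ⟨hgint⟩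
    haveI : FaithfulSMul (MvPolynomial (Fin s) k) (B ⧸ p) :=
      (faithfulSMul_iff_algebraMap_injective _ _).mpr hginj
    have h1 := trdeg_add_eq k (MvPolynomial (Fin s) k) (A := B ⧸ p)
    rw [trdeg_eq_zero (R := MvPolynomial (Fin s) k) (A := B ⧸ p), add_zero,
      MvPolynomial.trdeg_of_isDomain] at h1
    have h2 := hx'.lift_cardinalMk_le_trdeg
    rw [← h1] at h2
    simpa using h2
  have hdimC : ringKrullDim (MvPolynomial (Fin s) k) = ((s : ℕ∞) : WithBot ℕ∞) := by
    rw [MvPolynomial.ringKrullDim_of_isNoetherianRing, ringKrullDim_eq_zero_of_field, zero_add,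
      Nat.card_fin]
    rfl
  have hG := ringKrullDim_le_of_injective_isIntegral g.toRingHom hginj hgint
  calc ((t : ℕ∞) : WithBot ℕ∞) ≤ ((s : ℕ∞) : WithBot ℕ∞) := by exact_mod_cast hts
    _ = ringKrullDim (MvPolynomial (Fin s) k) := hdimC.symm
    _ ≤ ringKrullDim (B ⧸ p) := hG
    _ ≤ ringKrullDim B := ringKrullDim_quotient_le p

end Groth.Agent.H75.Rees
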