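import Mathlib
import Groth.Prelude.Def_Found
import Groth.Agent.S0536
import Groth.Agent.Lead.CompleteNoetherian
import Groth.Agent.H87.ComplIso

set_option autoImplicit false
universe u

namespace Groth.Agent.H75.ArtinApprox

/-- The statement of Popescu's theorem (S0595), as a proposition. -/
def Popescu : Prop := ∀ (R : Type u) [CommRing R] [IsNoetherianRing R] (Λ : Type u)
    [CommRing Λ] [IsNoetherianRing Λ] [Algebra R Λ] (_ : CAlg.IsRegularHom R Λ) (A : Type u)
    [CommRing A] [Algebra R A] [Algebra.FinitePresentation R A] (f : A →ₐ[R] Λ),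
    ∃ (B : Type u) (_ : CommRing B) (_ : Algebra R B), Algebra.Smooth R B ∧
      ∃ (g : A →ₐ[R] B) (h : B →ₐ[R] Λ), h.comp g = f

theorem isUnit_of_isUnit_mk {A : Type*} [CommRing A] (I : Ideal A) (hI : I ≤ Ideal.jacobson ⊥)
    (x : A) (hx : IsUnit (Ideal.Quotient.mk I x)) : IsUnit x := by
  obtain ⟨w, hw⟩ := hx.exists_right_inv
  obtain ⟨v, rfl⟩ := Ideal.Quotient.mk_surjective w
  have h1 : x * v - 1 ∈ I := by
    rw [← Ideal.Quotient.eq, map_mul, map_one]; exact hw
  have h2 := (Ideal.mem_jacobson_bot.mp (hI h1)) 1
  have h3 : (x * v - 1) * 1 + 1 = x * v := by ring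
  rw [h3] at h2
  exact isUnit_of_mul_isUnit_left h2

theorem henselianRing_pow {A : Type*} [CommRing A] (I : Ideal A) [h : HenselianRing A I] (N : ℕ)
    (hN : 1 ≤ N) : HenselianRing A (I ^ N) where
  jac := (Ideal.pow_le_self (by omega)).trans h.jac
  is_henselian := by
    intro f hf a₀ h₁ h₂
    have hle : I ^ N ≤ I := Ideal.pow_le_self (by omega)
    have h₂' : IsUnit (Ideal.Quotient.mk I (f.derivative.eval a₀)) := by
      have := h₂.map (Ideal.Quotient.factor hle)
      simpa using this
    obtain ⟨a, ha, haI⟩ := h.is_henselian f hf a₀ (hle h₁) h₂'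
    refine ⟨a, ha, ?_⟩
    obtain ⟨k, hk⟩ := Polynomial.binomExpansion f a₀ (a - a₀)
    have e1 : a₀ + (a - a₀) = a := by ring
    have ha0 : f.eval a = 0 := ha
    rw [e1, ha0] at hk
    have hu : IsUnit (f.derivative.eval a₀ + k * (a - a₀)) := by
      apply isUnit_of_isUnit_mk I h.jac
      have : Ideal.Quotient.mk I (f.derivative.eval a₀ + k * (a - a₀)) =
          Ideal.Quotient.mk I (f.derivative.eval a₀) := by
        rw [map_add, Ideal.Quotient.eq_zero_iff_mem.mpr (I.mul_mem_left _ haI), add_zero]
      rw [this]; exact h₂'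
    have h3 : (a - a₀) * (f.derivative.eval a₀ + k * (a - a₀)) = - f.eval a₀ := by
      linear_combination -hk
    obtain ⟨w, hw⟩ := hu.exists_right_inv
    have h4 : a - a₀ = (- f.eval a₀) * w := by
      rw [← h3, mul_assoc, hw, mul_one]
    rw [h4]
    exact Ideal.mul_mem_right _ _ (neg_mem h₁)

theorem mem_map_of_evalₐ_eq_zero {A : Type u} [CommRing A] (I : Ideal A) (hI : I.FG) (N : ℕ)
    (x : AdicCompletion I A) (hx : AdicCompletion.evalₐ I N x = 0) :
    x ∈ (I ^ N).map (algebraMap A (AdicCompletion I A)) := by
  have hle : I ^ N ≤ I ^ N • (⊤ : Ideal A) := by simp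
  have h1 : AdicCompletion.eval I A N x = 0 := by
    rw [← AdicCompletion.factor_evalₐ_eq_eval I x hle, hx, map_zero]
  have h2 : x ∈ (I ^ N • ⊤ : Submodule A (AdicCompletion I A)) := by
    rw [AdicCompletion.pow_smul_top_eq_ker_eval hI]
    exact h1
  rw [Ideal.smul_top_eq_map] at h2
  exact h2

theorem main (hP : Popescu.{u}) (A : Type u) [CommRing A] [IsNoetherianRing A]
    (I : Ideal A) [HenselianRing A I] (hreg : CAlg.IsRegularHom A (AdicCompletion I A)) (n m : ℕ)
    (F : Fin m → MvPolynomial (Fin n) A) (a : Fin n → (AdicCompletion I A))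
    (ha : ∀ j, MvPolynomial.eval a (MvPolynomial.map (algebraMap A (AdicCompletion I A)) (F j)) = 0)
    (N : ℕ) :
    ∃ b : Fin n → A, (∀ j, MvPolynomial.eval b (F j) = 0) ∧
      ∀ i, a i - algebraMap A (AdicCompletion I A) (b i) ∈
        (I ^ N).map (algebraMap A (AdicCompletion I A)) := by
  classical
  have hIfg : I.FG := IsNoetherian.noetherian I
  haveI : IsNoetherianRing (AdicCompletion I A) :=
    Groth.Agent.Lead.isNoetherianRing_adicCompletion I hIfg
  let J : Ideal (MvPolynomial (Fin n) A) := Ideal.span (Set.range F)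
  haveI : Algebra.FinitePresentation A (MvPolynomial (Fin n) A ⧸ J) :=
    Algebra.FinitePresentation.quotient (Submodule.fg_span (Set.finite_range F))
  let ev : MvPolynomial (Fin n) A →ₐ[A] AdicCompletion I A := MvPolynomial.aeval a
  have hev : ∀ x ∈ J, ev x = 0 := by
    intro x hx
    have hle : J ≤ RingHom.ker ev.toRingHom := by
      rw [Ideal.span_le]
      rintro _ ⟨j, rfl⟩
      show MvPolynomial.aeval a (F j) = 0
      rw [MvPolynomial.aeval_def, ← MvPolynomial.eval_map]
      exact ha j
    exact hle hx
  let f : (MvPolynomial (Fin n) A ⧸ J) →ₐ[A] AdicCompletion I A := Ideal.Quotient.liftₐ J ev hev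
  obtain ⟨B, _, _, hsm, g, h, hgf⟩ := hP A (AdicCompletion I A) hreg (MvPolynomial (Fin n) A ⧸ J) f
  haveI := hsm
  haveI : HenselianRing A (I ^ (N + 1)) := henselianRing_pow I (N + 1) (by omega)
  let σ : B →ₐ[A] A ⧸ I ^ (N + 1) := (AdicCompletion.evalₐ I (N + 1)).comp h
  obtain ⟨τ, hτ⟩ := Groth.Agent.S0536.result A B A (I ^ (N + 1)) σ
  let b : Fin n → A := fun i => τ (g (Ideal.Quotient.mk J (MvPolynomial.X i)))
  refine ⟨b, ?_, ?_⟩
  · intro j
    have h0 : MvPolynomial.aeval b = (τ.comp (g.comp (Ideal.Quotient.mkₐ A J))) := by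
      apply MvPolynomial.algHom_ext
      intro i
      rw [MvPolynomial.aeval_X]
      rfl
    have h1 : MvPolynomial.eval b (F j) = τ (g (Ideal.Quotient.mk J (F j))) := by
      rw [← MvPolynomial.coe_aeval_eq_eval, h0]
      rfl
    have h5 : Ideal.Quotient.mk J (F j) = 0 :=
      Ideal.Quotient.eq_zero_iff_mem.mpr (Ideal.subset_span (Set.mem_range_self j))
    rw [h1, h5, map_zero, map_zero]
  · intro i
    have h1 : h (g (Ideal.Quotient.mk J (MvPolynomial.X i))) = a i := by
      have := congrArg (fun φ : (MvPolynomial (Fin n) A ⧸ J) →ₐ[A] AdicCompletion I A =>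
        φ (Ideal.Quotient.mk J (MvPolynomial.X i))) hgf
      simp only [AlgHom.comp_apply] at this
      rw [this]
      show ev (MvPolynomial.X i) = a i
      exact MvPolynomial.aeval_X _ _
    have h2 : AdicCompletion.evalₐ I (N + 1) (a i) = Ideal.Quotient.mk (I ^ (N + 1)) (b i) := by
      have := congrArg (fun φ : B →ₐ[A] A ⧸ I ^ (N + 1) =>
        φ (g (Ideal.Quotient.mk J (MvPolynomial.X i)))) hτ
      rw [← h1]
      exact this.symm
    have h3 : AdicCompletion.evalₐ I (N + 1) (a i - algebraMap A (AdicCompletion I A) (b i)) = 0 := by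
      rw [map_sub, h2, AlgHom.commutes]
      exact sub_self _
    have h4 := mem_map_of_evalₐ_eq_zero I hIfg (N + 1) _ h3
    exact Ideal.map_mono (Ideal.pow_le_pow_right (Nat.le_succ N)) h4


theorem henselianLocalRing_of_ringEquiv {R R' : Type*} [CommRing R] [CommRing R']
    [HenselianLocalRing R] [IsLocalRing R'] (e : R ≃+* R') : HenselianLocalRing R' where
  is_henselian := by
    intro f hf a₀ h₁ h₂
    have hunit : ∀ x : R', IsUnit (e.symm x) ↔ IsUnit x := by
      intro x
      constructor
      · intro h
        have := h.map e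
        rwa [e.apply_symm_apply] at this
      · intro h
        exact h.map e.symm
    have hmem : ∀ x : R', x ∈ IsLocalRing.maximalIdeal R' ↔
        e.symm x ∈ IsLocalRing.maximalIdeal R := by
      intro x
      rw [IsLocalRing.mem_maximalIdeal, IsLocalRing.mem_maximalIdeal, mem_nonunits_iff,
        mem_nonunits_iff, hunit]
    have hev : ∀ (p : Polynomial R') (x : R'),
        (p.map (e.symm : R' →+* R)).eval (e.symm x) = e.symm (p.eval x) := by
      intro p x
      rw [Polynomial.eval_map]
      exact Polynomial.eval₂_at_apply (e.symm : R' →+* R) x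
    obtain ⟨a, ha, haa⟩ := HenselianLocalRing.is_henselian (f.map (e.symm : R' →+* R))
      (hf.map _) (e.symm a₀)
      (by rw [hev]; exact (hmem _).mp h₁)
      (by rw [Polynomial.derivative_map, hev]; exact (hunit _).mpr h₂)
    refine ⟨e a, ?_, ?_⟩
    · have h3 := hev f (e a)
      rw [e.symm_apply_apply] at h3
      have ha0 : (f.map (e.symm : R' →+* R)).eval a = 0 := ha
      rw [ha0] at h3
      show f.eval (e a) = 0
      exact (map_eq_zero_iff e.symm e.symm.injective).mp h3.symm
    · rw [hmem, map_sub, e.symm_apply_apply]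
      exact haa

theorem main596 (hP : Popescu.{u}) (R : Type u) [CommRing R] [HenselianLocalRing R]
    (hG : CAlg.IsGRing R) (n m : ℕ) (F : Fin m → MvPolynomial (Fin n) R)
    (a : Fin n → (AdicCompletion (IsLocalRing.maximalIdeal R) R))
    (ha : ∀ j, MvPolynomial.eval a (MvPolynomial.map
      (algebraMap R (AdicCompletion (IsLocalRing.maximalIdeal R) R)) (F j)) = 0) (N : ℕ) :
    ∃ b : Fin n → R, (∀ j, MvPolynomial.eval b (F j) = 0) ∧
      ∀ i, a i - algebraMap R (AdicCompletion (IsLocalRing.maximalIdeal R) R) (b i) ∈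
        (IsLocalRing.maximalIdeal R ^ N).map
          (algebraMap R (AdicCompletion (IsLocalRing.maximalIdeal R) R)) := by
  classical
  haveI : IsNoetherianRing R := hG.1
  have hmfg : (IsLocalRing.maximalIdeal R).FG := IsNoetherian.noetherian _
  -- the localization at the maximal ideal is R itself
  let e : R ≃ₐ[R] Localization.AtPrime (IsLocalRing.maximalIdeal R) :=
    IsLocalization.atUnits R (IsLocalRing.maximalIdeal R).primeCompl (by
      intro x hx
      have : x ∉ IsLocalRing.maximalIdeal R := hx
      rw [IsLocalRing.mem_maximalIdeal, mem_nonunits_iff, not_not] at this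
      exact this)
  have he : ∀ x, e x = algebraMap R (Localization.AtPrime (IsLocalRing.maximalIdeal R)) x := by
    intro x
    have := e.commutes x
    simpa using this
  haveI : HenselianLocalRing (Localization.AtPrime (IsLocalRing.maximalIdeal R)) :=
    henselianLocalRing_of_ringEquiv e.toRingEquiv
  have hreg := hG.2 (IsLocalRing.maximalIdeal R)
  -- the map of completions
  have hφ : IsLocalRing.maximalIdeal R ≤
      (IsLocalRing.maximalIdeal (Localization.AtPrime (IsLocalRing.maximalIdeal R))).comap
        (Algebra.ofId R (Localization.AtPrime (IsLocalRing.maximalIdeal R))) := by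
    intro x hx
    rw [Ideal.mem_comap, ← Localization.AtPrime.map_eq_maximalIdeal]
    exact Ideal.mem_map_of_mem _ hx
  let θ := Groth.Agent.H87.ComplIso.hatMap (IsLocalRing.maximalIdeal R)
    (IsLocalRing.maximalIdeal (Localization.AtPrime (IsLocalRing.maximalIdeal R)))
    (Algebra.ofId R (Localization.AtPrime (IsLocalRing.maximalIdeal R))) hφ
  have hθalg : θ.toRingHom.comp
      (algebraMap R (AdicCompletion (IsLocalRing.maximalIdeal R) R)) =
      (algebraMap (Localization.AtPrime (IsLocalRing.maximalIdeal R))
        (AdicCompletion (IsLocalRing.maximalIdeal (Localization.AtPrime (IsLocalRing.maximalIdeal R)))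
          (Localization.AtPrime (IsLocalRing.maximalIdeal R)))).comp
        (algebraMap R (Localization.AtPrime (IsLocalRing.maximalIdeal R))) := by
    refine RingHom.ext fun r => ?_
    show θ (algebraMap R _ r) = _
    rw [θ.commutes]
    exact IsScalarTower.algebraMap_apply R (Localization.AtPrime (IsLocalRing.maximalIdeal R)) _ r
  -- transported system
  let F' : Fin m → MvPolynomial (Fin n) (Localization.AtPrime (IsLocalRing.maximalIdeal R)) :=
    fun j => MvPolynomial.map (algebraMap R (Localization.AtPrime (IsLocalRing.maximalIdeal R))) (F j)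
  have ha' : ∀ j, MvPolynomial.eval (fun i => θ (a i)) (MvPolynomial.map
      (algebraMap (Localization.AtPrime (IsLocalRing.maximalIdeal R))
        (AdicCompletion (IsLocalRing.maximalIdeal (Localization.AtPrime (IsLocalRing.maximalIdeal R)))
          (Localization.AtPrime (IsLocalRing.maximalIdeal R)))) (F' j)) = 0 := by
    intro j
    have h1 := congrArg θ (ha j)
    rw [map_zero, MvPolynomial.eval_map] at h1
    have h2 := MvPolynomial.eval₂_comp_left θ.toRingHom
      (algebraMap R (AdicCompletion (IsLocalRing.maximalIdeal R) R)) a (F j)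
    rw [hθalg] at h2
    show MvPolynomial.eval (fun i => θ (a i)) (MvPolynomial.map _ (MvPolynomial.map _ (F j))) = 0
    rw [MvPolynomial.map_map, MvPolynomial.eval_map]
    exact h2.symm.trans h1
  obtain ⟨b', hb', hab'⟩ := main hP (Localization.AtPrime (IsLocalRing.maximalIdeal R))
    (IsLocalRing.maximalIdeal (Localization.AtPrime (IsLocalRing.maximalIdeal R))) hreg n m F'
    (fun i => θ (a i)) ha' N
  refine ⟨fun i => e.symm (b' i), ?_, ?_⟩
  · intro j
    have h1 : algebraMap R (Localization.AtPrime (IsLocalRing.maximalIdeal R))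
        (MvPolynomial.eval (fun i => e.symm (b' i)) (F j)) = MvPolynomial.eval b' (F' j) := by
      show _ = MvPolynomial.eval b' (MvPolynomial.map _ (F j))
      have h2 := MvPolynomial.eval₂_comp_left
        (algebraMap R (Localization.AtPrime (IsLocalRing.maximalIdeal R))) (RingHom.id R)
        (fun i => e.symm (b' i)) (F j)
      have h3 : (⇑(algebraMap R (Localization.AtPrime (IsLocalRing.maximalIdeal R))) ∘
          fun i => e.symm (b' i)) = b' := by
        funext i
        show algebraMap R _ (e.symm (b' i)) = b' i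
        rw [← he, e.apply_symm_apply]
      rw [MvPolynomial.eval₂_id, RingHom.comp_id, h3] at h2
      rw [MvPolynomial.eval_map]
      exact h2
    rw [hb' j] at h1
    have hinj : Function.Injective (algebraMap R (Localization.AtPrime (IsLocalRing.maximalIdeal R))) := by
      intro x y hxy
      rw [← he, ← he] at hxy
      exact e.injective hxy
    exact hinj (h1.trans (map_zero _).symm)
  · intro i
    apply mem_map_of_evalₐ_eq_zero _ hmfg
    -- compare in the completion of the localization
    have h1 : AdicCompletion.evalₐ (IsLocalRing.maximalIdeal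
        (Localization.AtPrime (IsLocalRing.maximalIdeal R))) N
        (θ (a i) - algebraMap _ _ (b' i)) = 0 := by
      have hle : (IsLocalRing.maximalIdeal (Localization.AtPrime (IsLocalRing.maximalIdeal R)) ^ N).map
          (algebraMap (Localization.AtPrime (IsLocalRing.maximalIdeal R))
            (AdicCompletion (IsLocalRing.maximalIdeal
              (Localization.AtPrime (IsLocalRing.maximalIdeal R)))
              (Localization.AtPrime (IsLocalRing.maximalIdeal R)))) ≤
          RingHom.ker (AdicCompletion.evalₐ (IsLocalRing.maximalIdeal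
            (Localization.AtPrime (IsLocalRing.maximalIdeal R))) N).toRingHom := by
        rw [Ideal.map_le_iff_le_comap]
        intro y hy
        rw [Ideal.mem_comap, RingHom.mem_ker]
        show AdicCompletion.evalₐ _ N (algebraMap _ _ y) = 0
        rw [AlgHom.commutes]
        exact Ideal.Quotient.eq_zero_iff_mem.mpr hy
      exact hle (hab' i)
    have hbij : Function.Bijective
        (algebraMap R (Localization.AtPrime (IsLocalRing.maximalIdeal R))) := by
      have : ⇑(algebraMap R (Localization.AtPrime (IsLocalRing.maximalIdeal R))) = ⇑e :=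
        funext (fun x => (he x).symm)
      rw [this]
      exact e.bijective
    have hcomap : (IsLocalRing.maximalIdeal (Localization.AtPrime (IsLocalRing.maximalIdeal R)) ^ N).comap
        (algebraMap R (Localization.AtPrime (IsLocalRing.maximalIdeal R))) ≤
        IsLocalRing.maximalIdeal R ^ N := by
      rw [← Localization.AtPrime.map_eq_maximalIdeal, ← Ideal.map_pow,
        Ideal.comap_map_of_bijective _ hbij]
    have hθx : θ (a i - algebraMap R _ (e.symm (b' i))) = θ (a i) - algebraMap _ _ (b' i) := by
      rw [map_sub]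
      congr 1
      have h5 := congrArg (fun g : R →+* _ => g (e.symm (b' i))) hθalg
      simp only [RingHom.comp_apply] at h5
      rw [← he, e.apply_symm_apply] at h5
      exact h5
    have h2 : AdicCompletion.evalₐ (IsLocalRing.maximalIdeal
        (Localization.AtPrime (IsLocalRing.maximalIdeal R))) N
        (θ (a i - algebraMap R _ (e.symm (b' i)))) = 0 := by rw [hθx]; exact h1
    have h3 : AdicCompletion.evalₐ (IsLocalRing.maximalIdeal
        (Localization.AtPrime (IsLocalRing.maximalIdeal R))) N
        (θ (a i - algebraMap R _ (e.symm (b' i)))) =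
        Groth.Agent.H87.ComplIso.lvl (IsLocalRing.maximalIdeal R)
          (IsLocalRing.maximalIdeal (Localization.AtPrime (IsLocalRing.maximalIdeal R)))
          (Algebra.ofId R (Localization.AtPrime (IsLocalRing.maximalIdeal R))) hφ N
          (AdicCompletion.evalₐ (IsLocalRing.maximalIdeal R) N
            (a i - algebraMap R _ (e.symm (b' i)))) := by
      show AdicCompletion.evalₐ _ N (AdicCompletion.liftAlgHom _ _ _ _) = _
      rw [AdicCompletion.evalₐ_liftAlgHom]
      rfl
    obtain ⟨r, hr⟩ := Ideal.Quotient.mk_surjective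
      (AdicCompletion.evalₐ (IsLocalRing.maximalIdeal R) N (a i - algebraMap R _ (e.symm (b' i))))
    rw [h3, ← hr, Groth.Agent.H87.ComplIso.lvl_mk, Ideal.Quotient.eq_zero_iff_mem] at h2
    rw [← hr, Ideal.Quotient.eq_zero_iff_mem]
    exact hcomap h2

end Groth.Agent.H75.ArtinApprox
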