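import Mathlib
import Groth.Agent.S0389
import Groth.Agent.H57.RelAssGen.Defs
set_option autoImplicit false
universe u
open Groth.Agent.H57.RelAssGen

namespace Groth.Agent.H75.RA_TL

/-- (TL) the stalk form of the socle condition is the intrinsic one. -/
theorem exists_socle_iff_socAt {B : Type u} [CommRing B] (q : Ideal B) [q.IsPrime] (I : Ideal B)
    (Bq : Type u) [CommRing Bq] [Algebra B Bq] [IsLocalization.AtPrime Bq q] [IsLocalRing Bq]
    {M N : Type u} [AddCommGroup M] [Module B M] [AddCommGroup N] [Module B N] [Module Bq N]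
    [IsScalarTower B Bq N] (l : M →ₗ[B] N) [IsLocalizedModule q.primeCompl l] :
    (∃ n : N, n ∉ (I.map (algebraMap B Bq)) • (⊤ : Submodule Bq N) ∧
      ∀ b ∈ IsLocalRing.maximalIdeal Bq,
        b • n ∈ (I.map (algebraMap B Bq)) • (⊤ : Submodule Bq N)) ↔
    SocAt I q M := by
  have hP : (I.map (algebraMap B Bq)) • (⊤ : Submodule Bq N) =
      (I • ⊤ : Submodule B M).localized' Bq q.primeCompl l := by
    rw [Submodule.localized'_smul, Ideal.localized'_eq_map, Submodule.localized'_top]
  -- key lemma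
  have K : ∀ m : M, l m ∈ (I.map (algebraMap B Bq)) • (⊤ : Submodule Bq N) ↔
      ∃ s : B, s ∉ q ∧ s • m ∈ (I • ⊤ : Submodule B M) := by
    intro m
    rw [hP, Submodule.mem_localized']
    constructor
    · rintro ⟨m', hm', s, hs⟩
      rw [IsLocalizedModule.mk'_eq_iff, Submonoid.smul_def, ← map_smul] at hs
      obtain ⟨c, hc⟩ := (IsLocalizedModule.eq_iff_exists q.primeCompl l).mp hs
      refine ⟨(c : B) * (s : B), (c * s).2, ?_⟩
      rw [mul_smul]
      have : (c : B) • ((s : B) • m) = c • m' := hc.symm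
      rw [this]
      exact Submodule.smul_mem _ _ hm'
    · rintro ⟨s, hs, hsm⟩
      refine ⟨s • m, hsm, ⟨s, hs⟩, ?_⟩
      rw [IsLocalizedModule.mk'_eq_iff, map_smul]
      rfl
  have hunit : ∀ t : q.primeCompl, ∀ x : N,
      (t : B) • x ∈ (I.map (algebraMap B Bq)) • (⊤ : Submodule Bq N) →
      x ∈ (I.map (algebraMap B Bq)) • (⊤ : Submodule Bq N) := by
    intro t x hx
    obtain ⟨u, hu⟩ := IsLocalization.map_units Bq t
    have : x = (↑u⁻¹ : Bq) • ((t : B) • x) := by
      rw [← algebraMap_smul Bq (t : B) x, ← hu, smul_smul, Units.inv_mul, one_smul]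
    rw [this]
    exact Submodule.smul_mem _ _ hx
  constructor
  · rintro ⟨n, hn, hmax⟩
    obtain ⟨⟨m, t⟩, hmt⟩ := IsLocalizedModule.mk'_surjective q.primeCompl l n
    have htn : (t : B) • n = l m := by
      rw [← hmt]
      exact IsLocalizedModule.mk'_cancel' l m t
    refine ⟨m, ?_, ?_⟩
    · intro s hs hsm
      apply hn
      apply hunit t
      rw [htn]
      exact (K m).mpr ⟨s, hs, hsm⟩
    · intro b hb
      have hb' : algebraMap B Bq b ∈ IsLocalRing.maximalIdeal Bq :=
        (IsLocalization.AtPrime.to_map_mem_maximal_iff Bq q b).mpr hb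
      have h1 := hmax _ hb'
      have h2 : l (b • m) ∈ (I.map (algebraMap B Bq)) • (⊤ : Submodule Bq N) := by
        rw [map_smul, ← htn, smul_comm, ← algebraMap_smul Bq b n,
          ← algebraMap_smul Bq (t : B) (algebraMap B Bq b • n)]
        exact Submodule.smul_mem _ _ h1
      obtain ⟨s, hs, hsm⟩ := (K (b • m)).mp h2
      exact ⟨s, hs, by rw [mul_smul]; exact hsm⟩
  · rintro ⟨m, hm1, hm2⟩
    refine ⟨l m, ?_, ?_⟩
    · intro h
      obtain ⟨s, hs, hsm⟩ := (K m).mp h
      exact hm1 s hs hsm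
    · intro β hβ
      obtain ⟨b, t, rfl⟩ := IsLocalization.exists_mk'_eq q.primeCompl β
      have hb : b ∈ q := (IsLocalization.AtPrime.mk'_mem_maximal_iff Bq q b t).mp hβ
      obtain ⟨s, hs, hsm⟩ := hm2 b hb
      apply hunit t
      have : (t : B) • (IsLocalization.mk' Bq b t • l m) = l (b • m) := by
        rw [← algebraMap_smul Bq (t : B), smul_smul, IsLocalization.mk'_spec', algebraMap_smul,
          map_smul]
      rw [this]
      exact (K (b • m)).mpr ⟨s, hs, by rw [← mul_smul]; exact hsm⟩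

end Groth.Agent.H75.RA_TL
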