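import Mathlib
import Groth.Agent.H34.TameLoc

set_option autoImplicit false
universe u

namespace Groth.Agent.H75.TameP24

open IsLocalRing Groth.Agent.H34.TameLoc

/-- `Ring.ord` is invariant under ring isomorphisms. -/
theorem ord_ringEquiv {R R' : Type*} [CommRing R] [CommRing R'] (e : R ≃+* R') (x : R) :
    Ring.ord R' (e x) = Ring.ord R x := by
  unfold Ring.ord
  haveI : RingHomSurjective (e : R →+* R') := ⟨e.surjective⟩
  have hle : Ideal.span {x} ≤ (Ideal.span {e x}).comap (e : R →+* R') := by
    rw [Ideal.span_le, Set.singleton_subset_iff]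
    exact Ideal.mem_span_singleton_self (e x)
  have hge : (Ideal.span {e x}).comap (e : R →+* R') ≤ Ideal.span {x} := by
    intro y hy
    obtain ⟨c, hc⟩ := Ideal.mem_span_singleton'.mp (Ideal.mem_comap.mp hy)
    rw [Ideal.mem_span_singleton']
    refine ⟨e.symm c, ?_⟩
    apply e.injective
    rw [map_mul, e.apply_symm_apply]
    exact hc
  let g : (R ⧸ Ideal.span {x}) →+* (R' ⧸ Ideal.span {e x}) :=
    Ideal.quotientMap _ (e : R →+* R') hle
  have hginj : Function.Injective g := Ideal.quotientMap_injective' hge
  have hgsurj : Function.Surjective g := Ideal.quotientMap_surjective e.surjective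
  let f : (R ⧸ Ideal.span {x}) →ₛₗ[(e : R →+* R')] (R' ⧸ Ideal.span {e x}) :=
    { toFun := g
      map_add' := map_add g
      map_smul' := fun r y => by
        obtain ⟨y, rfl⟩ := Ideal.Quotient.mk_surjective y
        show g (r • Ideal.Quotient.mk _ y) = (e : R →+* R') r • g (Ideal.Quotient.mk _ y)
        rw [Algebra.smul_def, Algebra.smul_def, map_mul]
        rfl }
  have hf : Function.Bijective f := ⟨hginj, hgsurj⟩
  apply WithBot.coe_injective
  rw [Module.coe_length, Module.coe_length]
  exact (Order.krullDim_eq_of_orderIso (Submodule.orderIsoMapComapOfBijective f hf)).symm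

theorem lf_algEquiv {A : Type u} [CommRing A] [IsLocalRing A] {R R' : Type u} [CommRing R]
    [IsLocalRing R] [CommRing R'] [IsLocalRing R'] [Algebra A R] [IsLocalHom (algebraMap A R)]
    [Algebra A R'] [IsLocalHom (algebraMap A R')] (e : R ≃ₐ[A] R') (π : R) (u v : Rˣ) (n m : ℕ) :
    lf (A := A) R π u v n m =
      lf (A := A) R' (e π) (Units.map (e : R →* R') u) (Units.map (e : R →* R') v) n m := by
  unfold lf
  have hord : Ring.ord R' (e π) = Ring.ord R π := ord_ringEquiv e.toRingEquiv π
  rw [hord]
  congr 1
  let φ : ResidueField R ≃+* ResidueField R' := ResidueField.mapEquiv e.toRingEquiv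
  have hφ : ∀ x, φ (algebraMap (ResidueField A) (ResidueField R) x) =
      algebraMap (ResidueField A) (ResidueField R') x := by
    intro x
    obtain ⟨a, rfl⟩ := residue_surjective x
    rw [ResidueField.algebraMap_residue, ResidueField.algebraMap_residue]
    show ResidueField.map (e.toRingEquiv : R →+* R') (residue R (algebraMap A R a)) = _
    rw [ResidueField.map_residue]
    congr 1
    exact e.commutes a
  let ψ : ResidueField R ≃ₐ[ResidueField A] ResidueField R' := AlgEquiv.ofRingEquiv hφ
  have hsym : sym R' (Units.map (e : R →* R') u) (Units.map (e : R →* R') v) n m =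
      ψ (sym R u v n m) := by
    unfold sym
    show _ = ResidueField.map (e.toRingEquiv : R →+* R') (symK _ _ n m)
    rw [map_symK, ResidueField.map_residue, ResidueField.map_residue]
    rfl
  rw [hsym, Algebra.norm_eq_of_algEquiv]

theorem norm_lf {A R S : Type u} [CommRing A] [IsLocalRing A] [CommRing R] [IsLocalRing R]
    [CommRing S] [IsLocalRing S] [Algebra A R] [Algebra R S] [Algebra A S] [IsScalarTower A R S]
    [IsLocalHom (algebraMap A R)] [IsLocalHom (algebraMap R S)] [IsLocalHom (algebraMap A S)]
    (π : S) (u v : Sˣ) (n m : ℕ) :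
    Algebra.norm (ResidueField A) (lf (A := R) S π u v n m) = lf (A := A) S π u v n m := by
  haveI : IsScalarTower (ResidueField A) (ResidueField R) (ResidueField S) :=
    IsScalarTower.of_algebraMap_eq (fun x => by
      obtain ⟨a, rfl⟩ := residue_surjective x
      rw [ResidueField.algebraMap_residue, ResidueField.algebraMap_residue,
        ResidueField.algebraMap_residue, ← IsScalarTower.algebraMap_apply])
  unfold lf
  rw [map_pow, Algebra.norm_norm]

end Groth.Agent.H75.TameP24
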