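import Mathlib
import Groth.Prelude.Def_DRing2
set_option autoImplicit false
universe u
open TensorProduct

namespace Groth.Agent.H75.PD_G2

theorem regular_transport {A B κ Ω : Type u} [CommRing A] [CommRing B] [Algebra A B]
    [Field κ] [Algebra A κ] [Field Ω] [Algebra κ Ω] [Algebra A Ω] [IsScalarTower A κ Ω]
    (hreg : ∀ (𝔪 : Ideal (Ω ⊗[A] B)) [𝔪.IsMaximal], IsRegularLocalRing (Localization.AtPrime 𝔪)) :
    ∀ (𝔪 : Ideal (Ω ⊗[κ] (κ ⊗[A] B))) [𝔪.IsMaximal],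
      IsRegularLocalRing (Localization.AtPrime 𝔪) := by
  intro 𝔪 h𝔪
  let e : Ω ⊗[κ] (κ ⊗[A] B) ≃+* Ω ⊗[A] B :=
    (Algebra.TensorProduct.cancelBaseChange A κ Ω Ω B).toRingEquiv
  haveI : (𝔪.comap (e.symm : Ω ⊗[A] B →+* Ω ⊗[κ] (κ ⊗[A] B))).IsMaximal :=
    Ideal.comap_isMaximal_of_equiv e.symm
  haveI := hreg (𝔪.comap (e.symm : Ω ⊗[A] B →+* Ω ⊗[κ] (κ ⊗[A] B)))
  exact IsRegularLocalRing.of_ringEquiv
    (Localization.localRingEquiv (𝔪.comap (e.symm : Ω ⊗[A] B →+* Ω ⊗[κ] (κ ⊗[A] B))) 𝔪 e.symm rfl)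

end Groth.Agent.H75.PD_G2
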