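import Mathlib
import Groth.Prelude.Def_DRing2
import Groth.Agent.H56.TorLoc2
set_option autoImplicit false
universe u
open TensorProduct

namespace Groth.Agent.H75.PD_LR

open IsLocalRing

theorem hasFiniteTorDim_residueField_of_point {K C : Type u} [Field K] [CommRing C] [Algebra K C]
    (π : C →ₐ[K] K)
    (h : letI : Module C K := Module.compHom K π.toRingHom; DRing.HasFiniteTorDim C K)
    (𝔪 : Ideal C) [𝔪.IsMaximal] (h𝔪 : RingHom.ker π.toRingHom = 𝔪) :
    DRing.HasFiniteTorDim (Localization.AtPrime 𝔪) (IsLocalRing.ResidueField (Localization.AtPrime 𝔪)) := by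
  letI algCK : Algebra C K := π.toRingHom.toAlgebra
  have h' : DRing.HasFiniteTorDim C K := h
  have hunit : ∀ y : 𝔪.primeCompl, IsUnit (π.toRingHom y) := by
    intro y
    rw [isUnit_iff_ne_zero]
    intro h0
    have hy : (y : C) ∈ RingHom.ker π.toRingHom := RingHom.mem_ker.mpr h0
    exact y.2 (h𝔪.le hy)
  letI algLK : Algebra (Localization.AtPrime 𝔪) K :=
    (IsLocalization.lift (M := 𝔪.primeCompl) (S := Localization.AtPrime 𝔪) hunit).toAlgebra
  haveI : IsScalarTower C (Localization.AtPrime 𝔪) K :=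
    IsScalarTower.of_algebraMap_eq (fun c => (IsLocalization.lift_eq hunit c).symm)
  haveI : IsLocalization (Algebra.algebraMapSubmonoid K 𝔪.primeCompl) K := by
    apply IsLocalization.self
    rintro _ ⟨y, hy, rfl⟩
    exact hunit ⟨y, hy⟩
  haveI : Algebra.IsPushout C K (Localization.AtPrime 𝔪) K :=
    Algebra.isPushout_of_isLocalization 𝔪.primeCompl (Localization.AtPrime 𝔪) K K
  have h5 : DRing.HasFiniteTorDim (Localization.AtPrime 𝔪) K :=
    Groth.Agent.H56.TorLoc.hasFiniteTorDim_baseChange C K (Localization.AtPrime 𝔪) K h'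
  have hsurj : Function.Surjective (Algebra.linearMap (Localization.AtPrime 𝔪) K) := by
    intro k
    refine ⟨algebraMap C (Localization.AtPrime 𝔪) (algebraMap K C k), ?_⟩
    show algebraMap (Localization.AtPrime 𝔪) K (algebraMap C _ (algebraMap K C k)) = k
    rw [← IsScalarTower.algebraMap_apply C (Localization.AtPrime 𝔪) K]
    show π (algebraMap K C k) = k
    rw [AlgHom.commutes]; rfl
  have hker : LinearMap.ker (Algebra.linearMap (Localization.AtPrime 𝔪) K) =
      maximalIdeal (Localization.AtPrime 𝔪) := by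
    have hmax : (RingHom.ker (algebraMap (Localization.AtPrime 𝔪) K)).IsMaximal :=
      RingHom.ker_isMaximal_of_surjective _ hsurj
    have := IsLocalRing.eq_maximalIdeal hmax
    rw [← this]
    rfl
  let e : K ≃ₗ[Localization.AtPrime 𝔪] ResidueField (Localization.AtPrime 𝔪) :=
    ((Algebra.linearMap (Localization.AtPrime 𝔪) K).quotKerEquivOfSurjective hsurj).symm ≪≫ₗ
      Submodule.quotEquivOfEq _ _ hker
  exact Groth.Agent.H56.TorLoc.hasFiniteTorDim_of_linearEquiv e h5

end Groth.Agent.H75.PD_LR
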