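import Mathlib
import Groth.Prelude.Def_DRing2
set_option autoImplicit false
universe u
open TensorProduct

namespace Groth.Agent.H75.PD_NS

theorem exists_point_of_isMaximal {Ω C : Type u} [Field Ω] [IsAlgClosed Ω] [CommRing C]
    [Algebra Ω C] [Algebra.FiniteType Ω C] (𝔪 : Ideal C) [𝔪.IsMaximal] :
    ∃ π : C →ₐ[Ω] Ω, RingHom.ker π.toRingHom = 𝔪 := by
  letI : Field (C ⧸ 𝔪) := Ideal.Quotient.field 𝔪
  haveI : Algebra.FiniteType Ω (C ⧸ 𝔪) := inferInstance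
  haveI : Module.Finite Ω (C ⧸ 𝔪) := finite_of_finite_type_of_isJacobsonRing Ω (C ⧸ 𝔪)
  haveI : Algebra.IsIntegral Ω (C ⧸ 𝔪) := Algebra.IsIntegral.of_finite Ω _
  have hbij : Function.Bijective (algebraMap Ω (C ⧸ 𝔪)) :=
    IsAlgClosed.algebraMap_bijective_of_isIntegral
  let e : Ω ≃ₐ[Ω] (C ⧸ 𝔪) := AlgEquiv.ofBijective (Algebra.ofId Ω (C ⧸ 𝔪)) hbij
  refine ⟨(e.symm : (C ⧸ 𝔪) →ₐ[Ω] Ω).comp (Ideal.Quotient.mkₐ Ω 𝔪), ?_⟩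
  ext x
  rw [RingHom.mem_ker]
  show e.symm (Ideal.Quotient.mk 𝔪 x) = 0 ↔ x ∈ 𝔪
  rw [map_eq_zero_iff _ e.symm.injective, Ideal.Quotient.eq_zero_iff_mem]

end Groth.Agent.H75.PD_NS
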