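import Mathlib

/-!
# (ALG4) for the S10809 squad: base change along a pushout square of rings

If `B' = A' ⊗[A] B` and `N' = B' ⊗[B] N`, then `N' = A' ⊗[A] N`.
-/

set_option autoImplicit false

universe u

open CategoryTheory Limits TensorProduct

namespace Groth.Agent.H75.QCBC_ALG4

theorem isBaseChange_of_isPushout {A A' B B' : Type u} [CommRing A] [CommRing A'] [CommRing B]
    [CommRing B'] [Algebra A A'] [Algebra A B] [Algebra A' B'] [Algebra B B'] [Algebra A B']
    [IsScalarTower A A' B'] [IsScalarTower A B B'] [Algebra.IsPushout A A' B B'] {N N' : Type u}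
    [AddCommGroup N] [AddCommGroup N'] [Module A N] [Module B N] [IsScalarTower A B N]
    [Module A N'] [Module A' N'] [Module B N'] [Module B' N'] [IsScalarTower A A' N']
    [IsScalarTower A B N'] [IsScalarTower B B' N'] [IsScalarTower A' B' N'] (ρ : N →ₗ[B] N')
    (hρ : IsBaseChange B' ρ) : IsBaseChange A' (ρ.restrictScalars A) := by
  let e : A' ⊗[A] N ≃ₗ[A'] N' :=
    (Algebra.IsPushout.cancelBaseChange A A' B B' N).symm ≪≫ₗ (hρ.equiv.restrictScalars A')
  refine IsBaseChange.of_equiv e fun x => ?_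
  show hρ.equiv ((Algebra.IsPushout.cancelBaseChange A A' B B' N).symm (1 ⊗ₜ x)) = ρ x
  rw [Algebra.IsPushout.cancelBaseChange_symm_tmul, map_one, hρ.equiv_tmul, one_smul]

end Groth.Agent.H75.QCBC_ALG4
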