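import Mathlib

/-!
# (PI) for the S10809 squad: base change commutes with finite products
-/

set_option autoImplicit false

universe u

open CategoryTheory Limits TensorProduct

namespace Groth.Agent.H75.QCBC_PI

theorem isBaseChange_pi {A A' : Type u} [CommRing A] [CommRing A'] [Algebra A A'] {ι : Type}
    [Finite ι] (N N' : ι → Type u) [∀ a, AddCommGroup (N a)] [∀ a, AddCommGroup (N' a)]
    [∀ a, Module A (N a)] [∀ a, Module A (N' a)] [∀ a, Module A' (N' a)]
    [∀ a, IsScalarTower A A' (N' a)] (ρ : ∀ a, N a →ₗ[A] N' a)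
    (hρ : ∀ a, IsBaseChange A' (ρ a)) :
    IsBaseChange A' (LinearMap.pi fun a => (ρ a).comp (LinearMap.proj a) :
      (∀ a, N a) →ₗ[A] (∀ a, N' a)) :=
  IsBaseChange.pi ρ hρ

end Groth.Agent.H75.QCBC_PI
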