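import Mathlib
import Groth.Prelude.Def_FlatCA

/-! (WFIN) for helper32's S10812 squad: finitely many weakly associated primes of a finite module
over a Noetherian ring. -/

set_option autoImplicit false
universe u w
open CategoryTheory Limits TensorProduct AlgebraicGeometry

namespace Groth.Agent.H75.WAFin_WFIN

theorem weakAss_subset_associatedPrimes {R : Type u} [CommRing R] [IsNoetherianRing R]
    {M : Type w} [AddCommGroup M] [Module R M] :
    FlatCA.weakAss R M ⊆ associatedPrimes R M := by
  rintro p ⟨m, hm⟩
  have h1 : p ∈ associatedPrimes R (Submodule.span R {m}) :=
    Module.associatedPrimes.minimalPrimes_annihilator_subset_associatedPrimes R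
      (Submodule.span R {m}) hm
  exact associatedPrimes.subset_of_injective (f := (Submodule.span R {m}).subtype)
    (Submodule.injective_subtype _) h1

/-- (WFIN) -/
theorem weakAss_finite {R : Type u} [CommRing R] [IsNoetherianRing R] {M : Type w}
    [AddCommGroup M] [Module R M] [Module.Finite R M] : (FlatCA.weakAss R M).Finite :=
  (associatedPrimes.finite R M).subset weakAss_subset_associatedPrimes

end Groth.Agent.H75.WAFin_WFIN
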