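import Mathlib
import Groth.Prelude

/-!
# (GEN) for the S7927 squad

Sections of `X ×ₛ T` (with `S`, `T` affine) over the preimage of an affine open `U ⊆ X` are
generated, as a ring, by the sections of `X` over `U` and the global sections of `T`.
-/

set_option autoImplicit false

universe u

open CategoryTheory CategoryTheory.Limits AlgebraicGeometry

namespace Groth.Agent.H75.CD_GEN

/-- A pushout of commutative rings is generated by the images of the two legs. -/
theorem closure_eq_top_of_isPushout {R A B P : CommRingCat.{u}} {f : R ⟶ A} {g : R ⟶ B}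
    {inl : A ⟶ P} {inr : B ⟶ P} (h : IsPushout f g inl inr) :
    Subring.closure (Set.range inl.hom ∪ Set.range inr.hom) = ⊤ := by
  have hl : ∀ a, inl.hom a ∈ Subring.closure (Set.range inl.hom ∪ Set.range inr.hom) :=
    fun a => Subring.subset_closure (Or.inl ⟨a, rfl⟩)
  have hr : ∀ b, inr.hom b ∈ Subring.closure (Set.range inl.hom ∪ Set.range inr.hom) :=
    fun b => Subring.subset_closure (Or.inr ⟨b, rfl⟩)
  let inl' : A ⟶ CommRingCat.of (Subring.closure (Set.range inl.hom ∪ Set.range inr.hom)) :=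
    CommRingCat.ofHom (inl.hom.codRestrict _ hl)
  let inr' : B ⟶ CommRingCat.of (Subring.closure (Set.range inl.hom ∪ Set.range inr.hom)) :=
    CommRingCat.ofHom (inr.hom.codRestrict _ hr)
  let ι : CommRingCat.of (Subring.closure (Set.range inl.hom ∪ Set.range inr.hom)) ⟶ P :=
    CommRingCat.ofHom (Subring.subtype _)
  have w : f ≫ inl' = g ≫ inr' := by
    ext x
    exact congr($(h.w).hom x)
  have hd : h.desc inl' inr' w ≫ ι = 𝟙 P := by
    apply h.hom_ext
    · rw [← Category.assoc, h.inl_desc, Category.comp_id]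
      ext a
      rfl
    · rw [← Category.assoc, h.inr_desc, Category.comp_id]
      ext a
      rfl
  rw [eq_top_iff]
  intro x _
  have hx : ι.hom ((h.desc inl' inr' w).hom x) = x := congr($(hd).hom x)
  rw [← hx]
  exact ((h.desc inl' inr' w).hom x).2

theorem GEN {X S T : Scheme.{u}} [IsAffine S] [IsAffine T] (f : X ⟶ S) (g : T ⟶ S) (U : X.Opens)
    (hU : IsAffineOpen U) :
    Subring.closure (Set.range ((pullback.fst f g).app U).hom ∪
      Set.range ((pullback.snd f g).appLE ⊤ ((pullback.fst f g) ⁻¹ᵁ U) le_top).hom) = ⊤ := by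
  have H : IsPullback (pullback.fst f g) (pullback.snd f g) f g := IsPullback.of_hasPullback f g
  have hUST : (⊤ : T.Opens) ≤ g ⁻¹ᵁ (⊤ : S.Opens) := by simp
  have hUSX : U ≤ f ⁻¹ᵁ (⊤ : S.Opens) := by simp
  have hUY : (pullback.fst f g) ⁻¹ᵁ U =
      (pullback.fst f g) ⁻¹ᵁ U ⊓ (pullback.snd f g) ⁻¹ᵁ (⊤ : T.Opens) := by simp
  have hiso := isIso_pushoutSection_of_isAffineOpen H hUST hUSX hUY (isAffineOpen_top S)
    (isAffineOpen_top T) hU
  have hpo := (isIso_pushoutSection_iff H hUST hUSX hUY).mp hiso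
  have hcl := closure_eq_top_of_isPushout hpo
  rw [Scheme.Hom.app_eq_appLE]
  exact hcl

end Groth.Agent.H75.CD_GEN
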