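import Mathlib
import Groth.Prelude

/-!
# (NIL) for the S7927 squad

If a global section `s` of `S` vanishes (as a function) along the image of the support of an ideal
sheaf `I` on `X`, then on every affine open `V` of `X` some power of the pullback of `s` lies in
`I(V)`.
-/

set_option autoImplicit false

universe u

open CategoryTheory CategoryTheory.Limits AlgebraicGeometry

namespace Groth.Agent.H75.CD_NIL

theorem NIL {X S : Scheme.{u}} (h : X ⟶ S) (I : X.IdealSheafData) (s : Γ(S, ⊤))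
    (hs : ∀ x : X, x ∈ I.support → h x ∉ S.basicOpen s) (V : X.affineOpens) :
    ∃ n : ℕ, (h.appLE ⊤ V.1 le_top).hom s ^ n ∈ I.ideal V := by
  suffices hrad : (h.appLE ⊤ V.1 le_top).hom s ∈ (I.ideal V).radical from hrad
  rw [Ideal.radical_eq_sInf, Ideal.mem_sInf]
  rintro p ⟨hJp, hp⟩
  by_contra htp
  let P : Spec Γ(X, V.1) := ⟨p, hp⟩
  have hxV : V.2.fromSpec P ∈ V.1 := by
    have hr := V.2.range_fromSpec
    rw [← SetLike.mem_coe, ← hr]
    exact ⟨P, rfl⟩
  have hx : V.2.fromSpec P ∈ I.support := by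
    rw [Scheme.IdealSheafData.mem_support_iff_of_mem hxV]
    have hP : P ∈ V.2.fromSpec ⁻¹' X.zeroLocus (U := V.1) (I.ideal V) := by
      rw [V.2.fromSpec_preimage_zeroLocus]
      exact hJp
    exact hP
  apply hs _ hx
  have h1 : P ∈ V.2.fromSpec ⁻¹ᵁ X.basicOpen ((h.appLE ⊤ V.1 le_top).hom s) := by
    rw [V.2.fromSpec_preimage_basicOpen]
    exact htp
  have h2 : V.2.fromSpec P ∈ X.basicOpen ((h.appLE ⊤ V.1 le_top).hom s) := h1
  have h3 : X.basicOpen ((h.appLE ⊤ V.1 le_top).hom s) = V.1 ⊓ h ⁻¹ᵁ (S.basicOpen s) :=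
    Scheme.basicOpen_appLE h V.1 ⊤ le_top s
  rw [h3] at h2
  exact h2.2

end Groth.Agent.H75.CD_NIL
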