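import Mathlib

set_option autoImplicit false
universe u
open TensorProduct

namespace Groth.Agent.H75.MaxEtale

section
variable (k : Type u) [Field k] (R : Type u) [CommRing R] [Algebra k R]

/-- The range of an étale algebra is étale (over a field). -/
theorem etale_range (B : Type u) [CommRing B] [Algebra k B] [Algebra.Etale k B] (φ : B →ₐ[k] R) :
    Algebra.Etale k φ.range := by
  haveI : Algebra.FormallyUnramified k φ.range :=
    Algebra.FormallyUnramified.of_surjective φ.rangeRestrict φ.rangeRestrict_surjective
  haveI : Algebra.FiniteType k φ.range :=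
    Algebra.FiniteType.of_surjective φ.rangeRestrict φ.rangeRestrict_surjective
  haveI : Algebra.FormallyEtale k φ.range := Algebra.FormallyEtale.of_formallyUnramified_of_field k _
  haveI : Algebra.FinitePresentation k φ.range :=
    Algebra.FinitePresentation.of_finiteType.mp inferInstance
  exact {}

theorem etale_of_eq_range (E : Subalgebra k R) (B : Type u) [CommRing B] [Algebra k B]
    [Algebra.Etale k B] (φ : B →ₐ[k] R) (h : φ.range = E) : Algebra.Etale k E := by
  subst h
  exact etale_range k R B φ

theorem etale_sup (E₁ E₂ : Subalgebra k R) [Algebra.Etale k E₁] [Algebra.Etale k E₂] :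
    Algebra.Etale k (E₁ ⊔ E₂ : Subalgebra k R) := by
  haveI : Algebra.Etale k (E₁ ⊗[k] E₂) := Algebra.Etale.comp k E₁ (E₁ ⊗[k] E₂)
  refine etale_of_eq_range k R _ (E₁ ⊗[k] E₂) (Algebra.TensorProduct.productMap E₁.val E₂.val) ?_
  rw [Algebra.TensorProduct.productMap_range, Subalgebra.range_val, Subalgebra.range_val]

theorem etale_bot [Nontrivial R] : Algebra.Etale k (⊥ : Subalgebra k R) :=
  Algebra.Etale.of_equiv (Algebra.botEquiv k R).symm

variable {k R}

/-- an étale subalgebra of a connected algebra is a field -/
theorem isField_of_etale [Nontrivial R] (hconn : ∀ e : R, IsIdempotentElem e → e = 0 ∨ e = 1)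
    (E : Subalgebra k R) [Algebra.Etale k E] : IsField E := by
  classical
  obtain ⟨I, hI, Ai, hfield, halg, e, -⟩ :=
    (Algebra.FormallyEtale.iff_exists_algEquiv_prod k E).mp inferInstance
  have hcoe : ∀ x : E, IsIdempotentElem x → x = 0 ∨ x = 1 := by
    intro x hx
    have h1 : IsIdempotentElem (x : R) := by
      have := congrArg (Subtype.val : E → R) hx.eq
      exact this
    rcases hconn _ h1 with h | h
    · left; exact Subtype.ext h
    · right; exact Subtype.ext h
  have hsub : Subsingleton I := by
    refine ⟨fun i j => ?_⟩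
    by_contra hij
    have hidem : IsIdempotentElem (e.symm (Pi.single i 1)) := by
      show e.symm (Pi.single i 1) * e.symm (Pi.single i 1) = e.symm (Pi.single i 1)
      rw [← map_mul, ← Pi.single_mul, one_mul]
    rcases hcoe _ hidem with h | h
    · have h2 : (Pi.single i 1 : Π i, Ai i) = 0 := by
        have := congrArg e h
        rwa [e.apply_symm_apply, map_zero] at this
      have h3 := congrFun h2 i
      rw [Pi.single_eq_same, Pi.zero_apply] at h3
      exact one_ne_zero h3
    · have h2 : (Pi.single i 1 : Π i, Ai i) = 1 := by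
        have := congrArg e h
        rwa [e.apply_symm_apply, map_one] at this
      have h3 := congrFun h2 j
      rw [Pi.single_eq_of_ne (Ne.symm hij), Pi.one_apply] at h3
      exact zero_ne_one h3
  have hne : Nonempty I := by
    by_contra hemp
    rw [not_nonempty_iff] at hemp
    have h1 : (1 : E) = 0 := by
      apply e.injective
      exact Subsingleton.elim _ _
    have h2 : (1 : R) = 0 := congrArg (Subtype.val : E → R) h1
    exact one_ne_zero h2
  obtain ⟨i₀⟩ := hne
  haveI : Unique I := uniqueOfSubsingleton i₀
  let e' : E ≃+* Ai default := e.toRingEquiv.trans (RingEquiv.piUnique Ai)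
  exact MulEquiv.isField (Field.toIsField (Ai default)) e'.toMulEquiv

end

theorem exists_max_etale_subalgebra (k : Type u) [Field k] (R : Type u) [CommRing R] [Algebra k R]
    [Nontrivial R] (hconn : ∀ e : R, IsIdempotentElem e → e = 0 ∨ e = 1)
    (K' : Type u) [Field K'] [Algebra k K'] [Module.Finite k K'] (π : R →ₐ[k] K') :
    ∃ E : Subalgebra k R, IsField E ∧ Algebra.Etale k E ∧
      ∀ (B : Type u) [CommRing B] [Algebra k B] [Algebra.Etale k B] (φ : B →ₐ[k] R),
        φ.range ≤ E := by
  classical
  -- bound on the dimension of étale subalgebras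
  have hbound : ∀ (E : Subalgebra k R) [Algebra.Etale k E],
      Module.finrank k E ≤ Module.finrank k K' := by
    intro E _
    have hE := isField_of_etale hconn E
    letI := hE.toField
    have hinj : Function.Injective (π.comp E.val) := (π.comp E.val).toRingHom.injective
    exact LinearMap.finrank_le_finrank_of_injective (f := (π.comp E.val).toLinearMap) hinj
  let S : Set ℕ := {n | ∃ (E : Subalgebra k R) (_ : Algebra.Etale k E), Module.finrank k E = n}
  have hSne : S.Nonempty := ⟨_, ⊥, etale_bot k R, rfl⟩
  have hSbdd : BddAbove S := ⟨Module.finrank k K', by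
    rintro n ⟨E, hE, rfl⟩
    exact hbound E⟩
  obtain ⟨E, hE, hEn⟩ := Nat.sSup_mem hSne hSbdd
  haveI := hE
  refine ⟨E, isField_of_etale hconn E, hE, ?_⟩
  intro B _ _ _ φ
  haveI : Algebra.Etale k φ.range := etale_range k R B φ
  haveI : Algebra.Etale k (E ⊔ φ.range : Subalgebra k R) := etale_sup k R E φ.range
  haveI : Module.Finite k (E ⊔ φ.range : Subalgebra k R) :=
    Algebra.FormallyUnramified.finite_of_free k _
  have hle : E ≤ E ⊔ φ.range := le_sup_left
  have hfin : Module.finrank k (E ⊔ φ.range : Subalgebra k R) ≤ Module.finrank k E := by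
    rw [hEn]
    exact le_csSup hSbdd ⟨E ⊔ φ.range, inferInstance, rfl⟩
  have heq : E = E ⊔ φ.range := Subalgebra.eq_of_le_of_finrank_le hle hfin
  rw [heq]
  exact le_sup_right

end Groth.Agent.H75.MaxEtale
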