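import Mathlib
import Groth.Agent.H75.ArtinApprox

set_option autoImplicit false
universe u
open CategoryTheory CategoryTheory.Limits

namespace Groth.Agent.H75.FunctApprox

section colim

variable (A : Type u) [CommRing A]

/-- The object of `Under (CommRingCat.of A)` attached to an `A`-algebra. -/
abbrev uObj (C : Type u) [CommRing C] [Algebra A C] : Under (CommRingCat.of A) :=
  Under.mk (CommRingCat.ofHom (algebraMap A C))

variable {A} in
/-- The morphism of `Under (CommRingCat.of A)` attached to an `A`-algebra map. -/
def uHom {C D : Type u} [CommRing C] [CommRing D] [Algebra A C] [Algebra A D] (f : C →ₐ[A] D) :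
    uObj A C ⟶ uObj A D :=
  Under.homMk (CommRingCat.ofHom f.toRingHom) (by
    ext a
    exact f.commutes a)

variable (B : Type u) [CommRing B] [Algebra A B]

/-- The diagram of finitely generated subalgebras of `B`, indexed by finite subsets. -/
noncomputable def diag : Finset B ⥤ Under (CommRingCat.of A) where
  obj s := uObj A (Algebra.adjoin A (s : Set B))
  map {s t} h :=
    uHom (Subalgebra.inclusion (Algebra.adjoin_mono (Finset.coe_subset.mpr (leOfHom h))))
  map_id s := by
    apply Under.UnderMorphism.ext
    ext x
    rfl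
  map_comp f g := by
    apply Under.UnderMorphism.ext
    ext x
    rfl

/-- The cocone of inclusions of the finitely generated subalgebras. -/
noncomputable def cocone : Cocone (diag A B) where
  pt := uObj A B
  ι :=
    { app := fun s => uHom (Algebra.adjoin A (s : Set B)).val
      naturality := fun s t h => by
        apply Under.UnderMorphism.ext
        ext x
        rfl }

variable {A B}
variable (c' : Cocone (diag A B))

/-- Component ring homomorphisms of a cocone. -/
noncomputable def comp (s : Finset B) : Algebra.adjoin A (s : Set B) →+* c'.pt.right :=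
  (c'.ι.app s).right.hom

lemma comp_incl {s t : Finset B} (h : s ≤ t) (z : Algebra.adjoin A (s : Set B)) :
    comp c' t (Subalgebra.inclusion (Algebra.adjoin_mono (Finset.coe_subset.mpr h)) z) =
      comp c' s z := by
  have h1 := c'.w (homOfLE h)
  have h2 := congrArg (fun m => m.right.hom z) h1
  exact h2

/-- The underlying function of the descent map. -/
noncomputable def descFun (x : B) : c'.pt.right :=
  comp c' {x} ⟨x, Algebra.subset_adjoin (by simp)⟩

lemma comp_eq (s : Finset B) (z : Algebra.adjoin A (s : Set B)) :
    comp c' s z = descFun c' z.1 := by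
  classical
  have h1 := comp_incl c' (s := s) (t := s ∪ {z.1}) Finset.subset_union_left z
  have h2 := comp_incl c' (s := {z.1}) (t := s ∪ {z.1}) Finset.subset_union_right
    ⟨z.1, Algebra.subset_adjoin (by simp)⟩
  rw [← h1]
  exact h2

/-- The descent ring homomorphism. -/
noncomputable def descHom : B →+* c'.pt.right where
  toFun := descFun c'
  map_one' := by
    have := comp_eq c' {1} 1
    rw [map_one] at this
    exact this.symm
  map_mul' x y := by
    classical
    have hx : x ∈ Algebra.adjoin A (({x, y} : Finset B) : Set B) :=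
      Algebra.subset_adjoin (by simp)
    have hy : y ∈ Algebra.adjoin A (({x, y} : Finset B) : Set B) :=
      Algebra.subset_adjoin (by simp)
    have h1 := comp_eq c' {x, y} (⟨x, hx⟩ * ⟨y, hy⟩)
    have h2 := comp_eq c' {x, y} ⟨x, hx⟩
    have h3 := comp_eq c' {x, y} ⟨y, hy⟩
    rw [map_mul, h2, h3] at h1
    exact h1.symm
  map_zero' := by
    have := comp_eq c' {0} 0
    rw [map_zero] at this
    exact this.symm
  map_add' x y := by
    classical
    have hx : x ∈ Algebra.adjoin A (({x, y} : Finset B) : Set B) :=
      Algebra.subset_adjoin (by simp)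
    have hy : y ∈ Algebra.adjoin A (({x, y} : Finset B) : Set B) :=
      Algebra.subset_adjoin (by simp)
    have h1 := comp_eq c' {x, y} (⟨x, hx⟩ + ⟨y, hy⟩)
    have h2 := comp_eq c' {x, y} ⟨x, hx⟩
    have h3 := comp_eq c' {x, y} ⟨y, hy⟩
    rw [map_add, h2, h3] at h1
    exact h1.symm

lemma descHom_algebraMap (a : A) : descHom c' (algebraMap A B a) = c'.pt.hom.hom a := by
  have h1 := comp_eq c' ∅ (algebraMap A (Algebra.adjoin A ((∅ : Finset B) : Set B)) a)
  have h2 := Under.w (c'.ι.app ∅)
  have h3 := congrArg (fun m => m.hom a) h2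
  exact h1.symm.trans h3

/-- The descent morphism. -/
noncomputable def descMor : (cocone A B).pt ⟶ c'.pt :=
  Under.homMk (CommRingCat.ofHom (descHom c') : CommRingCat.of B ⟶ c'.pt.right) (by
    ext a
    exact descHom_algebraMap c' a)

variable (A B) in
/-- `B` is the filtered colimit of its finitely generated subalgebras, in `Under A`. -/
noncomputable def isColimitCocone : IsColimit (cocone A B) where
  desc c' := descMor c'
  fac c' s := by
    apply Under.UnderMorphism.ext
    ext z
    exact (comp_eq c' s z).symm
  uniq c' m hm := by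
    apply Under.UnderMorphism.ext
    ext x
    have hx : (x : B) ∈ Algebra.adjoin A ((({(x : B)} : Finset B)) : Set B) :=
      Algebra.subset_adjoin (Finset.mem_coe.mpr (Finset.mem_singleton_self _))
    have h1 := congrArg (fun q => q.right.hom
      (⟨(x : B), hx⟩ : Algebra.adjoin A ((({(x : B)} : Finset B)) : Set B))) (hm {(x : B)})
    exact h1

variable (A B) in
/-- An element of `F(B)` comes from a finitely generated subalgebra, if `F` preserves filtered
colimits. -/
theorem exists_fg (F : Under (CommRingCat.of A) ⥤ Type u)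
    (hF : ∀ (J : Type u) [SmallCategory J] [IsFiltered J], PreservesColimitsOfShape J F)
    (ξ : F.obj (uObj A B)) :
    ∃ (s : Finset B) (ξs : F.obj (uObj A (Algebra.adjoin A (s : Set B)))),
      F.map (uHom (Algebra.adjoin A (s : Set B)).val) ξs = ξ := by
  classical
  have := hF (Finset B)
  have hc := isColimitOfPreserves F (isColimitCocone A B)
  obtain ⟨s, y, hy⟩ := Types.jointly_surjective_of_isColimit hc ξ
  exact ⟨s, y, hy⟩

end colim

/-- Artin approximation for functors preserving filtered colimits, Henselian pair version,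
assuming Popescu's theorem. -/
theorem main_pair (hP : ArtinApprox.Popescu.{u}) (A : Type u) [CommRing A] [IsNoetherianRing A]
    (I : Ideal A) [HenselianRing A I]
    (hreg : CAlg.IsRegularHom A (AdicCompletion I A))
    (F : Under (CommRingCat.of A) ⥤ Type u)
    (hF : ∀ (J : Type u) [SmallCategory J] [IsFiltered J], PreservesColimitsOfShape J F)
    (n : ℕ) (hn : 1 ≤ n)
    (π : Under.mk (CommRingCat.ofHom (algebraMap A (AdicCompletion I A))) ⟶
      Under.mk (CommRingCat.ofHom (algebraMap A (A ⧸ I ^ n))))
    (hπ : π.right = CommRingCat.ofHom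
      (AdicCompletion.evalₐ I n : AdicCompletion I A →ₐ[A] A ⧸ I ^ n).toRingHom)
    (ρ : Under.mk (𝟙 (CommRingCat.of A)) ⟶
      Under.mk (CommRingCat.ofHom (algebraMap A (A ⧸ I ^ n))))
    (ξ : F.obj (Under.mk (CommRingCat.ofHom (algebraMap A (AdicCompletion I A))))) :
    ∃ η : F.obj (Under.mk (𝟙 (CommRingCat.of A))), F.map ρ η = F.map π ξ := by
  classical
  have hIfg : I.FG := IsNoetherian.noetherian I
  haveI : IsNoetherianRing (AdicCompletion I A) :=
    Groth.Agent.Lead.isNoetherianRing_adicCompletion I hIfg
  obtain ⟨s, ξs, hξs⟩ := exists_fg A (AdicCompletion I A) F hF ξ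
  haveI : Algebra.FiniteType A (Algebra.adjoin A (s : Set (AdicCompletion I A))) :=
    (Subalgebra.fg_iff_finiteType _).mp (Subalgebra.fg_adjoin_finset s)
  haveI : Algebra.FinitePresentation A (Algebra.adjoin A (s : Set (AdicCompletion I A))) :=
    Algebra.FinitePresentation.of_finiteType.mp inferInstance
  obtain ⟨B, _, _, hsm, g, h, hgf⟩ := hP A (AdicCompletion I A) hreg
    (Algebra.adjoin A (s : Set (AdicCompletion I A)))
    (Algebra.adjoin A (s : Set (AdicCompletion I A))).val
  haveI := hsm
  haveI : HenselianRing A (I ^ n) := ArtinApprox.henselianRing_pow I n hn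
  let σ : B →ₐ[A] A ⧸ I ^ n := (AdicCompletion.evalₐ I n).comp h
  obtain ⟨τ, hτ⟩ := Groth.Agent.S0536.result A B A (I ^ n) σ
  let q : uObj A (Algebra.adjoin A (s : Set (AdicCompletion I A))) ⟶
      Under.mk (𝟙 (CommRingCat.of A)) :=
    Under.homMk (CommRingCat.ofHom (τ.comp g).toRingHom) (by
      ext a
      exact (τ.comp g).commutes a)
  have hρ : ρ.right = CommRingCat.ofHom (algebraMap A (A ⧸ I ^ n)) := by
    have := Under.w ρ
    simpa using this
  have heq : q ≫ ρ = uHom (Algebra.adjoin A (s : Set (AdicCompletion I A))).val ≫ π := by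
    apply Under.UnderMorphism.ext
    rw [Under.comp_right, Under.comp_right, hρ, hπ]
    ext x
    have h1 := congrArg (fun φ => φ (g x)) hτ
    have h2 := congrArg (fun φ => φ x) hgf
    exact h1.trans (congrArg (AdicCompletion.evalₐ I n) h2)
  refine ⟨F.map q ξs, ?_⟩
  rw [← hξs, ← Functor.map_comp_apply, ← Functor.map_comp_apply, heq]

/-- Artin approximation for functors preserving filtered colimits over a Henselian local ring
(statement of S13503), assuming Popescu's theorem. -/
theorem main (hP : ArtinApprox.Popescu.{u}) (A : Type u) [CommRing A] [IsNoetherianRing A]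
    [HenselianLocalRing A]
    (hreg : CAlg.IsRegularHom A (AdicCompletion (IsLocalRing.maximalIdeal A) A))
    (F : Under (CommRingCat.of A) ⥤ Type u)
    (hF : ∀ (J : Type u) [SmallCategory J] [IsFiltered J], PreservesColimitsOfShape J F)
    (n : ℕ) (hn : 1 ≤ n)
    (π : Under.mk (CommRingCat.ofHom (algebraMap A (AdicCompletion (IsLocalRing.maximalIdeal A) A))) ⟶
      Under.mk (CommRingCat.ofHom (algebraMap A (A ⧸ IsLocalRing.maximalIdeal A ^ n))))
    (hπ : π.right = CommRingCat.ofHom
      (AdicCompletion.evalₐ (IsLocalRing.maximalIdeal A) n : AdicCompletion (IsLocalRing.maximalIdeal A) A →ₐ[A]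
        A ⧸ IsLocalRing.maximalIdeal A ^ n).toRingHom)
    (ρ : Under.mk (𝟙 (CommRingCat.of A)) ⟶
      Under.mk (CommRingCat.ofHom (algebraMap A (A ⧸ IsLocalRing.maximalIdeal A ^ n))))
    (ξ : F.obj (Under.mk (CommRingCat.ofHom (algebraMap A (AdicCompletion (IsLocalRing.maximalIdeal A) A))))) :
    ∃ η : F.obj (Under.mk (𝟙 (CommRingCat.of A))), F.map ρ η = F.map π ξ :=
  main_pair hP A (IsLocalRing.maximalIdeal A) hreg F hF n hn π hπ ρ ξ

end Groth.Agent.H75.FunctApprox
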