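import Mathlib

set_option autoImplicit false

/-!
# Symmetric powers (`SymmetricPower`): universal property, functoriality, free case

(helper75) Mathlib has `SymmetricPower R ι M` with only `mk`, `tprod`, `tprod_equiv`,
`span_tprod_eq_top`.  Here:

* `SymPow.lift f hf` : the linear map out of `SymmetricPower R ι M` induced by a symmetric
  multilinear map, `lift_tprod`, `hom_ext`, `map`, `map_tprod`;
* free case: for `F = X →₀ B` the map `sigma : Sym^ι F → MvPolynomial X B`,
  `tprod f ↦ ∏ i, linForm (f i)` has the retraction `retr` (`retr_comp_sigma`), which kills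
  `idealOfVars ^ (card ι + 1)` (`retr_eq_zero_of_mem`);
* `prod_sub_prod_mem`: `∏ x i - ∏ y i ∈ J ^ (card + 1)` when `x i ≡ y i mod J ^ 2`.
-/

namespace Groth.Agent.H75.SymPow

open TensorProduct

universe u v w

section lift

variable {R ι : Type u} [CommSemiring R] {M : Type v} [AddCommMonoid M] [Module R M]
  {N : Type w} [AddCommMonoid N] [Module R N]

/-- Universal property of the symmetric power: a symmetric multilinear map induces a linear map. -/
noncomputable def lift (f : MultilinearMap R (fun _ : ι => M) N)
    (hf : ∀ (e : Equiv.Perm ι) (x : ι → M), f (fun i => x (e i)) = f x) :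
    SymmetricPower R ι M →ₗ[R] N where
  toFun := AddCon.lift (addConGen (SymmetricPower.Rel R ι M))
    (PiTensorProduct.lift f).toAddMonoidHom
    (AddCon.addConGen_le.mpr (fun a b hab => by
      cases hab with
      | perm e x =>
        refine (AddCon.ker_rel _).mpr ?_
        simp only [LinearMap.toAddMonoidHom_coe, PiTensorProduct.lift.tprod]
        exact (hf e x).symm))
  map_add' := fun a b => map_add _ a b
  map_smul' := fun r a => by
    induction a using AddCon.induction_on with
    | H a =>
      show (PiTensorProduct.lift f) (r • a) = r • (PiTensorProduct.lift f) a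
      exact map_smul _ r a

@[simp] theorem lift_tprod (f : MultilinearMap R (fun _ : ι => M) N)
    (hf : ∀ (e : Equiv.Perm ι) (x : ι → M), f (fun i => x (e i)) = f x) (x : ι → M) :
    lift f hf (SymmetricPower.tprod R x) = f x := by
  show (PiTensorProduct.lift f) (PiTensorProduct.tprod R x) = f x
  exact PiTensorProduct.lift.tprod x

theorem hom_ext {f g : SymmetricPower R ι M →ₗ[R] N}
    (h : ∀ x : ι → M, f (SymmetricPower.tprod R x) = g (SymmetricPower.tprod R x)) : f = g :=
  LinearMap.ext_on_range (SymmetricPower.span_tprod_eq_top R ι M) h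

/-- Functoriality of the symmetric power. -/
noncomputable def map {M' : Type w} [AddCommMonoid M'] [Module R M'] (φ : M →ₗ[R] M') :
    SymmetricPower R ι M →ₗ[R] SymmetricPower R ι M' :=
  lift ((SymmetricPower.tprod R).compLinearMap (fun _ => φ)) (fun e x => by
    simp only [MultilinearMap.compLinearMap_apply]
    exact SymmetricPower.tprod_equiv e (fun i => φ (x i)))

@[simp] theorem map_tprod {M' : Type w} [AddCommMonoid M'] [Module R M'] (φ : M →ₗ[R] M')
    (x : ι → M) :
    map φ (SymmetricPower.tprod R x) = SymmetricPower.tprod R (fun i => φ (x i)) := by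
  rw [map, lift_tprod, MultilinearMap.compLinearMap_apply]

end lift

section ideal

theorem prod_mem_pow' {R : Type u} [CommRing R] (J : Ideal R) {ι : Type v} (s : Finset ι)
    (x : ι → R) (hx : ∀ i ∈ s, x i ∈ J) : ∏ i ∈ s, x i ∈ J ^ s.card := by
  classical
  induction s using Finset.induction_on with
  | empty => simp
  | insert a s ha ih =>
    rw [Finset.prod_insert ha, Finset.card_insert_of_notMem ha, pow_succ']
    exact Ideal.mul_mem_mul (hx a (Finset.mem_insert_self a s))
      (ih fun i hi => hx i (Finset.mem_insert_of_mem hi))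

/-- If `x i ≡ y i` modulo `J ^ 2` (all in `J`), then `∏ x i ≡ ∏ y i` modulo `J ^ (card + 1)`. -/
theorem prod_sub_prod_mem {R : Type u} [CommRing R] (J : Ideal R) {ι : Type v} (s : Finset ι)
    (x y : ι → R) (hx : ∀ i ∈ s, x i ∈ J) (hy : ∀ i ∈ s, y i ∈ J)
    (hxy : ∀ i ∈ s, x i - y i ∈ J ^ 2) :
    ∏ i ∈ s, x i - ∏ i ∈ s, y i ∈ J ^ (s.card + 1) := by
  classical
  induction s using Finset.induction_on with
  | empty => simp
  | insert a s ha ih =>
    rw [Finset.prod_insert ha, Finset.prod_insert ha, Finset.card_insert_of_notMem ha]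
    have h1 : ∏ i ∈ s, x i - ∏ i ∈ s, y i ∈ J ^ (s.card + 1) :=
      ih (fun i hi => hx i (Finset.mem_insert_of_mem hi))
        (fun i hi => hy i (Finset.mem_insert_of_mem hi))
        (fun i hi => hxy i (Finset.mem_insert_of_mem hi))
    have h2 : ∏ i ∈ s, y i ∈ J ^ s.card :=
      prod_mem_pow' J s y (fun i hi => hy i (Finset.mem_insert_of_mem hi))
    have e : x a * ∏ i ∈ s, x i - y a * ∏ i ∈ s, y i =
        x a * (∏ i ∈ s, x i - ∏ i ∈ s, y i) + (x a - y a) * ∏ i ∈ s, y i := by ring
    rw [e]
    refine Ideal.add_mem _ ?_ ?_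
    · have := Ideal.mul_mem_mul (hx a (Finset.mem_insert_self a s)) h1
      rwa [← pow_succ'] at this
    · have := Ideal.mul_mem_mul (hxy a (Finset.mem_insert_self a s)) h2
      have h3 : J ^ 2 * J ^ s.card = J ^ (s.card + 1 + 1) := by
        rw [← pow_add]; congr 1; omega
      rw [← h3]; exact this

end ideal

section free

variable {B X ι : Type u} [CommRing B] [Fintype ι]

/-- The linear form `∑ f x • X_x` attached to a finitely supported family of coefficients. -/
noncomputable def linForm : (X →₀ B) →ₗ[B] MvPolynomial X B :=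
  Finsupp.linearCombination B (MvPolynomial.X : X → MvPolynomial X B)

theorem linForm_single (x : X) :
    linForm (Finsupp.single x (1 : B)) = (MvPolynomial.X x : MvPolynomial X B) := by
  rw [linForm, Finsupp.linearCombination_single, one_smul]

theorem linForm_mem (f : X →₀ B) : linForm f ∈ MvPolynomial.idealOfVars X B := by
  rw [linForm, Finsupp.linearCombination_apply, Finsupp.sum]
  refine Ideal.sum_mem _ (fun w _ => ?_)
  rw [MvPolynomial.smul_eq_C_mul]
  exact Ideal.mul_mem_left _ _ (Ideal.subset_span ⟨w, rfl⟩)

/-- `(f_i) ↦ ∏ i, linForm (f i)` as a multilinear map. -/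
noncomputable def sigmaML : MultilinearMap B (fun _ : ι => (X →₀ B)) (MvPolynomial X B) :=
  (MultilinearMap.mkPiAlgebra B ι (MvPolynomial X B)).compLinearMap (fun _ => linForm)

theorem sigmaML_apply (f : ι → (X →₀ B)) :
    sigmaML f = ∏ i, linForm (f i) := by
  rw [sigmaML, MultilinearMap.compLinearMap_apply, MultilinearMap.mkPiAlgebra_apply]

/-- The canonical map from the symmetric power of a free module to the polynomial ring. -/
noncomputable def sigma : SymmetricPower B ι (X →₀ B) →ₗ[B] MvPolynomial X B :=
  lift sigmaML (fun e x => by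
    rw [sigmaML_apply, sigmaML_apply]
    exact Equiv.prod_comp e (fun i => linForm (x i)))

theorem sigma_tprod (f : ι → (X →₀ B)) :
    sigma (SymmetricPower.tprod B f) = ∏ i, linForm (f i) := by
  rw [sigma, lift_tprod, sigmaML_apply]

theorem prod_X_eq (x : ι → X) :
    ∏ i, (MvPolynomial.X (x i) : MvPolynomial X B) =
      MvPolynomial.monomial (∑ i, Finsupp.single (x i) 1) 1 := by
  rw [MvPolynomial.monomial_sum_one]
  exact Finset.prod_congr rfl (fun i _ => rfl)

theorem exists_perm_of_sum_single_eq (x y : ι → X)
    (h : (∑ i, Finsupp.single (x i) 1 : X →₀ ℕ) = ∑ i, Finsupp.single (y i) 1) :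
    ∃ e : Equiv.Perm ι, ∀ i, y (e i) = x i := by
  classical
  have hc : ∀ c : X, Fintype.card {i // x i = c} = Fintype.card {i // y i = c} := by
    intro c
    have h1 := DFunLike.congr_fun h c
    simp only [Finsupp.finsetSum_apply, Finsupp.single_apply] at h1
    rw [Fintype.card_subtype, Fintype.card_subtype, Finset.card_filter, Finset.card_filter]
    exact h1
  exact ⟨Equiv.ofFiberEquiv (fun c => Fintype.equivOfCardEq (hc c)),
    fun i => Equiv.ofFiberEquiv_map _ i⟩

open Classical in
/-- A retraction of `sigma`: a monomial `X^m` with `m = ∑ i, single (y i) 1` goes to the symmetric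
tensor of the basis vectors `single (y i) 1`; other monomials go to `0`. -/
noncomputable def retr : MvPolynomial X B →ₗ[B] SymmetricPower B ι (X →₀ B) :=
  (MvPolynomial.basisMonomials X B).constr B (fun m =>
    if h : ∃ y : ι → X, (∑ i, Finsupp.single (y i) 1 : X →₀ ℕ) = m then
      SymmetricPower.tprod B (fun i => Finsupp.single (h.choose i) (1 : B)) else 0)

open Classical in
theorem retr_monomial (m : X →₀ ℕ) :
    retr (ι := ι) (MvPolynomial.monomial m (1 : B)) =
      if h : ∃ y : ι → X, (∑ i, Finsupp.single (y i) 1 : X →₀ ℕ) = m then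
        SymmetricPower.tprod B (fun i => Finsupp.single (h.choose i) (1 : B)) else 0 := by
  have h1 : MvPolynomial.monomial m (1 : B) = MvPolynomial.basisMonomials X B m := by
    rw [MvPolynomial.coe_basisMonomials]
  rw [retr, h1, Module.Basis.constr_basis]

theorem retr_sigma_tprod_single (x : ι → X) :
    retr (sigma (SymmetricPower.tprod B (fun i => Finsupp.single (x i) (1 : B)))) =
      SymmetricPower.tprod B (fun i => Finsupp.single (x i) (1 : B)) := by
  classical
  rw [sigma_tprod]
  simp only [linForm_single]
  rw [prod_X_eq, retr_monomial]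
  have hex : ∃ y : ι → X,
      (∑ i, Finsupp.single (y i) 1 : X →₀ ℕ) = ∑ i, Finsupp.single (x i) 1 := ⟨x, rfl⟩
  rw [dif_pos hex]
  obtain ⟨e, he⟩ := exists_perm_of_sum_single_eq x hex.choose hex.choose_spec.symm
  have h2 := SymmetricPower.tprod_equiv (R := B) e
    (fun i => Finsupp.single (hex.choose i) (1 : B))
  have h3 : (fun i => Finsupp.single (hex.choose (e i)) (1 : B)) =
      fun i => Finsupp.single (x i) (1 : B) := funext fun i => by rw [he i]
  exact h2.symm.trans (congrArg (fun f => SymmetricPower.tprod B f) h3)

theorem retr_comp_sigma :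
    (retr (B := B) (X := X) (ι := ι)).comp sigma = LinearMap.id := by
  have hml : ((retr (B := B) (X := X) (ι := ι)).comp sigma).compMultilinearMap
      (SymmetricPower.tprod B) = SymmetricPower.tprod B := by
    refine Module.Basis.ext_multilinear
      (fun _ => (Finsupp.basisSingleOne : Module.Basis X B (X →₀ B))) (fun v => ?_)
    simp only [LinearMap.compMultilinearMap_apply, LinearMap.comp_apply,
      Finsupp.coe_basisSingleOne]
    exact retr_sigma_tprod_single v
  apply hom_ext
  intro f
  have := DFunLike.congr_fun hml f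
  simpa only [LinearMap.compMultilinearMap_apply, LinearMap.id_apply] using this

theorem retr_sigma (a : SymmetricPower B ι (X →₀ B)) : retr (sigma a) = a :=
  LinearMap.congr_fun retr_comp_sigma a

theorem sigma_injective : Function.Injective (sigma (B := B) (X := X) (ι := ι)) :=
  Function.LeftInverse.injective (g := retr) retr_sigma

theorem retr_eq_zero_of_mem (p : MvPolynomial X B)
    (hp : p ∈ MvPolynomial.idealOfVars X B ^ (Fintype.card ι + 1)) : retr (ι := ι) p = 0 := by
  classical
  rw [MvPolynomial.mem_pow_idealOfVars_iff] at hp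
  rw [p.as_sum, map_sum]
  refine Finset.sum_eq_zero (fun m hm => ?_)
  have hdeg := hp m hm
  have h1 : MvPolynomial.monomial m (p.coeff m) =
      p.coeff m • MvPolynomial.monomial m (1 : B) := by
    rw [MvPolynomial.smul_monomial, smul_eq_mul, mul_one]
  rw [h1, map_smul, retr_monomial, dif_neg, smul_zero]
  rintro ⟨y, hy⟩
  have h2 : Finsupp.degree m = Fintype.card ι := by
    rw [← hy, map_sum]
    simp [Finsupp.degree_single]
  omega

end free

end Groth.Agent.H75.SymPow
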