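import Mathlib
import Groth.Prelude.Def_EtRam
set_option autoImplicit false
universe u
open IsLocalRing

namespace Groth.Agent.H75.AS55P1

/-- normal form predicate with a bound on the pole orders. -/
def NF (p : ℕ) (B K : Type u) {L : Type u} [CommRing B] [IsLocalRing B] [Field K] [Field L]
    [Algebra B L] [Algebra K L] (Pi : L) (n : ℕ) (ξ : L) : Prop :=
  ∃ (w : L) (b₀ : B) (η : K) (S : Finset ℕ) (c : ℕ → B) (i : ℕ → ℕ),
      ξ = (w ^ p - w) + algebraMap B L b₀ + algebraMap K L η +
          ∑ m ∈ S, algebraMap B L (c m) ^ (p ^ i m) / Pi ^ m ∧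
      ∀ m ∈ S, 0 < m ∧ m ≤ n ∧ (∀ y : B, residue B (c m) ≠ residue B y ^ p) ∧
        (i m = 0 ∨ ¬ p ∣ m)

section
variable {p : ℕ} {B K L : Type u} [CommRing B] [IsLocalRing B] [Field K] [Field L]
    [Algebra B L] [Algebra K L] {Pi : L} {n : ℕ} {ξ : L}

theorem NF.mono {n' : ℕ} (h : NF p B K Pi n ξ) (hn : n ≤ n') : NF p B K Pi n' ξ := by
  obtain ⟨w, b₀, η, S, c, i, h1, h2⟩ := h
  exact ⟨w, b₀, η, S, c, i, h1,
    fun m hm => ⟨(h2 m hm).1, (h2 m hm).2.1.trans hn, (h2 m hm).2.2⟩⟩

theorem NF.add_wp (hadd : ∀ x y : L, (x + y) ^ p = x ^ p + y ^ p) (h : NF p B K Pi n ξ) (t : L) :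
    NF p B K Pi n (ξ + (t ^ p - t)) := by
  obtain ⟨w, b₀, η, S, c, i, h1, h2⟩ := h
  refine ⟨w + t, b₀, η, S, c, i, ?_, h2⟩
  rw [h1, hadd]; ring

theorem NF.add_K (h : NF p B K Pi n ξ) (η' : K) : NF p B K Pi n (ξ + algebraMap K L η') := by
  obtain ⟨w, b₀, η, S, c, i, h1, h2⟩ := h
  refine ⟨w, b₀, η + η', S, c, i, ?_, h2⟩
  rw [h1, map_add]; ring

theorem NF.add_term (h : NF p B K Pi n ξ) (c₀ : B) (i₀ : ℕ)
    (hc : ∀ y : B, residue B c₀ ≠ residue B y ^ p) (hi : i₀ = 0 ∨ ¬ p ∣ (n + 1)) :
    NF p B K Pi (n + 1) (ξ + algebraMap B L c₀ ^ (p ^ i₀) / Pi ^ (n + 1)) := by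
  classical
  obtain ⟨w, b₀, η, S, c, i, h1, h2⟩ := h
  have hnS : n + 1 ∉ S := fun hm => by have := (h2 _ hm).2.1; omega
  refine ⟨w, b₀, η, insert (n + 1) S, Function.update c (n + 1) c₀,
    Function.update i (n + 1) i₀, ?_, ?_⟩
  · rw [Finset.sum_insert hnS, Function.update_self, Function.update_self, h1]
    have : ∑ m ∈ S, algebraMap B L (Function.update c (n + 1) c₀ m) ^
          (p ^ Function.update i (n + 1) i₀ m) / Pi ^ m =
        ∑ m ∈ S, algebraMap B L (c m) ^ (p ^ i m) / Pi ^ m := by
      refine Finset.sum_congr rfl fun m hm => ?_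
      have hne : m ≠ n + 1 := fun h => hnS (h ▸ hm)
      rw [Function.update_of_ne hne, Function.update_of_ne hne]
    rw [this]; ring
  · intro m hm
    rcases Finset.mem_insert.mp hm with hmn | hm
    · subst hmn
      refine ⟨Nat.succ_pos n, le_rfl, ?_, ?_⟩
      · rw [Function.update_self]; exact hc
      · rw [Function.update_self]; exact hi
    · have hne : m ≠ n + 1 := fun h => hnS (h ▸ hm)
      obtain ⟨a1, a2, a3, a4⟩ := h2 m hm
      refine ⟨a1, a2.trans (Nat.le_succ n), ?_, ?_⟩
      · rw [Function.update_of_ne hne]; exact a3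
      · rw [Function.update_of_ne hne]; exact a4

end

/-- (P1) normal form of `ξ ∈ L` modulo `℘(L) + B + K`. -/
theorem normalForm (p : ℕ) (hp : p.Prime) (A B K L : Type u)
    [CommRing A] [IsDomain A] [IsDiscreteValuationRing A] [CommRing B] [IsDomain B] [IsDiscreteValuationRing B]
    [Algebra A B] [IsLocalHom (algebraMap A B)]
    [Field K] [Field L] [Algebra A K] [IsFractionRing A K] [Algebra B L] [IsFractionRing B L]
    [Algebra K L] [Algebra A L] [IsScalarTower A K L] [IsScalarTower A B L] [CharP K p]
    (π : A) (hπ : maximalIdeal A = Ideal.span {π}) (hw : EtRam.IsWeaklyUnramified A B)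
    (hk : ∀ x : ResidueField B, (∀ n : ℕ, ∃ y : ResidueField B, y ^ (p ^ n) = x) →
      x ∈ Set.range (algebraMap (ResidueField A) (ResidueField B)))
    (ξ : L) :
    ∃ (w : L) (b₀ : B) (η : K) (S : Finset ℕ) (c : ℕ → B) (i : ℕ → ℕ),
      ξ = (w ^ p - w) + algebraMap B L b₀ + algebraMap K L η +
          ∑ m ∈ S, algebraMap B L (c m) ^ (p ^ i m) / algebraMap A L π ^ m ∧
      ∀ m ∈ S, 0 < m ∧ (∀ y : B, residue B (c m) ≠ residue B y ^ p) ∧ (i m = 0 ∨ ¬ p ∣ m) := by
  classical
  haveI : Fact p.Prime := ⟨hp⟩
  haveI : CharP L p := charP_of_injective_algebraMap (algebraMap K L).injective p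
  have hadd : ∀ x y : L, (x + y) ^ p = x ^ p + y ^ p := fun x y => add_pow_char x y p
  have hπ0 : π ≠ 0 := by
    intro h
    rw [h] at hπ
    exact IsDiscreteValuationRing.not_a_field A (hπ.trans (Ideal.span_singleton_eq_bot.mpr rfl))
  have hPi0 : algebraMap A L π ≠ 0 := by
    rw [IsScalarTower.algebraMap_apply A K L]
    intro h
    have h1 := (algebraMap K L).injective (h.trans (map_zero _).symm)
    exact hπ0 (IsFractionRing.injective A K (h1.trans (map_zero _).symm))
  have hPiB : algebraMap B L (algebraMap A B π) = algebraMap A L π := by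
    rw [← IsScalarTower.algebraMap_apply]
  have hmB : maximalIdeal B = Ideal.span {algebraMap A B π} := by
    have := hw
    unfold EtRam.IsWeaklyUnramified at this
    rw [← this, hπ, Ideal.map_span, Set.image_singleton]
  have hdecomp : ∀ x y : B, residue B x = residue B y →
      ∃ x', x = y + algebraMap A B π * x' := by
    intro x y h
    have : x - y ∈ maximalIdeal B := by rw [← residue_eq_zero_iff, map_sub, h, sub_self]
    rw [hmB, Ideal.mem_span_singleton] at this
    obtain ⟨x', hx'⟩ := this
    exact ⟨x', by rw [← hx']; ring⟩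
  have e2 : ∀ (x' : B) (n : ℕ), algebraMap B L (algebraMap A B π * x') / algebraMap A L π ^ (n + 1) =
      algebraMap B L x' / algebraMap A L π ^ n := by
    intro x' n
    rw [map_mul, hPiB, pow_succ', mul_div_mul_left _ _ hPi0]
  -- main induction
  have Q : ∀ n : ℕ, ∀ x : B, NF p B K (algebraMap A L π) n (algebraMap B L x / algebraMap A L π ^ n) := by
    intro n
    induction n with
    | zero =>
      intro x
      refine ⟨0, x, 0, ∅, fun _ => 0, fun _ => 0, ?_, by simp⟩
      simp [hp.ne_zero]
    | succ n ih =>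
      intro x
      by_cases hx : residue B x ∈ Set.range (algebraMap (ResidueField A) (ResidueField B))
      · obtain ⟨abar, ha⟩ := hx
        obtain ⟨a, rfl⟩ := residue_surjective abar
        obtain ⟨x', hx'⟩ := hdecomp x (algebraMap A B a) ha.symm
        have e : algebraMap B L x / algebraMap A L π ^ (n + 1) =
            algebraMap B L x' / algebraMap A L π ^ n +
              algebraMap K L (algebraMap A K a / algebraMap A K π ^ (n + 1)) := by
          rw [hx', map_add, add_div, e2, map_div₀, map_pow,
            ← IsScalarTower.algebraMap_apply A K L, ← IsScalarTower.algebraMap_apply A K L,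
            ← IsScalarTower.algebraMap_apply A B L, add_comm]
        rw [e]
        exact NF.add_K ((ih x').mono (Nat.le_succ n)) _
      · have h1 : ¬ ∀ k : ℕ, ∃ y : ResidueField B, y ^ (p ^ k) = residue B x :=
          fun h => hx (hk _ h)
        rw [not_forall] at h1
        have hk₀ : ¬ ∃ y : ResidueField B, y ^ (p ^ (Nat.find h1)) = residue B x :=
          Nat.find_spec h1
        have hk₀pos : Nat.find h1 ≠ 0 := by
          intro h0
          apply hk₀
          rw [h0]
          exact ⟨residue B x, by rw [pow_zero, pow_one]⟩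
        obtain ⟨i, hi⟩ := Nat.exists_eq_succ_of_ne_zero hk₀pos
        have hmin : ∃ y : ResidueField B, y ^ (p ^ i) = residue B x := by
          have := Nat.find_min h1 (m := i) (by rw [hi]; exact Nat.lt_succ_self i)
          exact not_not.mp this
        obtain ⟨ybar, hy⟩ := hmin
        obtain ⟨c, rfl⟩ := residue_surjective ybar
        have hc : ∀ y : B, residue B c ≠ residue B y ^ p := by
          intro y hcy
          apply hk₀
          refine ⟨residue B y, ?_⟩
          rw [hi, Nat.succ_eq_add_one, pow_succ', pow_mul, ← hcy, hy]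
        obtain ⟨x', hx'⟩ := hdecomp x (c ^ (p ^ i)) (by rw [map_pow, hy])
        by_cases hcase : i = 0 ∨ ¬ p ∣ (n + 1)
        · have e : algebraMap B L x / algebraMap A L π ^ (n + 1) =
              algebraMap B L x' / algebraMap A L π ^ n +
                algebraMap B L c ^ (p ^ i) / algebraMap A L π ^ (n + 1) := by
            rw [hx', map_add, add_div, e2, map_pow, add_comm]
          rw [e]
          exact NF.add_term (ih x') c i hc hcase
        · push Not at hcase
          obtain ⟨hi0, n', hn'⟩ := hcase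
          obtain ⟨i', rfl⟩ := Nat.exists_eq_add_one_of_ne_zero hi0
          have hn'pos : 0 < n' := by
            rcases Nat.eq_zero_or_pos n' with h | h
            · rw [h] at hn'; omega
            · exact h
          have hn'le : n' ≤ n := by
            have : 2 ≤ p := hp.two_le
            nlinarith
          have hpow : algebraMap A L π ^ n = algebraMap A L π ^ n' * algebraMap A L π ^ (n - n') := by
            rw [← pow_add, Nat.add_sub_cancel' hn'le]
          have htp : (algebraMap B L (c ^ (p ^ i')) / algebraMap A L π ^ n') ^ p =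
              algebraMap B L c ^ (p ^ (i' + 1)) / algebraMap A L π ^ (n + 1) := by
            rw [div_pow, map_pow, ← pow_mul, ← pow_mul, ← pow_succ, hn', mul_comm p n']
          have e1 : algebraMap B L (c ^ (p ^ i') * algebraMap A B π ^ (n - n')) /
              algebraMap A L π ^ n = algebraMap B L (c ^ (p ^ i')) / algebraMap A L π ^ n' := by
            rw [map_mul, map_pow _ (algebraMap A B π), hPiB, hpow,
              mul_div_mul_right _ _ (pow_ne_zero _ hPi0)]
          have e : algebraMap B L x / algebraMap A L π ^ (n + 1) =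
              algebraMap B L (c ^ (p ^ i') * algebraMap A B π ^ (n - n') + x') /
                algebraMap A L π ^ n +
              ((algebraMap B L (c ^ (p ^ i')) / algebraMap A L π ^ n') ^ p -
                algebraMap B L (c ^ (p ^ i')) / algebraMap A L π ^ n') := by
            rw [map_add _ (c ^ (p ^ i') * algebraMap A B π ^ (n - n')) x', add_div, e1, htp, hx',
              map_add, add_div, e2, map_pow]
            ring
          rw [e]
          exact NF.add_wp hadd ((ih _).mono (Nat.le_succ n)) _
  -- every element is of the form x / Pi ^ n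
  have hirr : Irreducible (algebraMap A B π) :=
    (IsDiscreteValuationRing.irreducible_iff_uniformizer _).mpr hmB
  obtain ⟨b, s, hs, hbs⟩ := IsFractionRing.div_surjective (A := B) ξ
  have hs0 : s ≠ 0 := nonZeroDivisors.ne_zero hs
  obtain ⟨n, u, hu⟩ := IsDiscreteValuationRing.eq_unit_mul_pow_irreducible hs0 hirr
  have hξ : ξ = algebraMap B L (b * ((u⁻¹ : Bˣ) : B)) / algebraMap A L π ^ n := by
    rw [← hbs, hu, map_mul, map_mul, map_pow, hPiB]
    have hu0 : algebraMap B L (u : B) ≠ 0 := by
      intro h
      exact u.ne_zero (IsFractionRing.injective B L (h.trans (map_zero _).symm))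
    have hinv : algebraMap B L ((u⁻¹ : Bˣ) : B) = (algebraMap B L (u : B))⁻¹ := by
      apply eq_inv_of_mul_eq_one_left
      rw [← map_mul, Units.inv_mul, map_one]
    rw [hinv]
    field_simp
  obtain ⟨w, b₀, η, S, c, i, h1, h2⟩ := Q n (b * ((u⁻¹ : Bˣ) : B))
  exact ⟨w, b₀, η, S, c, i, hξ.trans h1,
    fun m hm => ⟨(h2 m hm).1, (h2 m hm).2.2.1, (h2 m hm).2.2.2⟩⟩

end Groth.Agent.H75.AS55P1
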