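import Mathlib
set_option autoImplicit false
universe u
open IsLocalRing TensorProduct

namespace Groth.Agent.H75.FEtShQ4

/-- (Q4) the generic fibre of the integral closure. -/
theorem tensor_integralClosure_equiv (A K E : Type u) [CommRing A] [IsDomain A] [Field K]
    [Algebra A K] [IsFractionRing A K] [CommRing E] [Algebra K E] [Algebra A E] [IsScalarTower A K E]
    [Algebra.IsIntegral K E] :
    Nonempty (K ⊗[A] (integralClosure A E) ≃ₐ[K] E) := by
  classical
  let μ : K ⊗[A] (integralClosure A E) →ₐ[K] E :=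
    Algebra.TensorProduct.lift (Algebra.ofId K E) (integralClosure A E).val
      (fun _ _ => Commute.all _ _)
  have hμ : ∀ (k : K) (d : integralClosure A E), μ (k ⊗ₜ d) = k • (d : E) := by
    intro k d
    simp only [μ, Algebra.TensorProduct.lift_tmul]
    rw [Algebra.smul_def]; rfl
  have hne : ∀ a ∈ nonZeroDivisors A, algebraMap A K a ≠ 0 := by
    intro a ha h
    exact nonZeroDivisors.ne_zero ha (IsFractionRing.injective A K (h.trans (map_zero _).symm))
  have h1tmul : ∀ (a : A) (d : integralClosure A E),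
      algebraMap A K a • ((1 : K) ⊗ₜ[A] d) = (1 : K) ⊗ₜ[A] (a • d) := by
    intro a d
    rw [TensorProduct.smul_tmul', smul_eq_mul, mul_one, ← TensorProduct.smul_tmul,
      Algebra.smul_def, mul_one]
  have hform : ∀ t : K ⊗[A] (integralClosure A E), ∃ a ∈ nonZeroDivisors A,
      ∃ d : integralClosure A E, algebraMap A K a • t = (1 : K) ⊗ₜ[A] d := by
    intro t
    induction t using TensorProduct.induction_on with
    | zero => exact ⟨1, one_mem _, 0, by simp⟩
    | tmul k d =>
      obtain ⟨x, a, ha, rfl⟩ := IsFractionRing.div_surjective (A := A) k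
      refine ⟨a, ha, x • d, ?_⟩
      rw [TensorProduct.smul_tmul', smul_eq_mul, mul_div_cancel₀ _ (hne a ha),
        ← TensorProduct.smul_tmul, Algebra.smul_def, mul_one]
    | add t₁ t₂ h₁ h₂ =>
      obtain ⟨a₁, ha₁, d₁, e₁⟩ := h₁
      obtain ⟨a₂, ha₂, d₂, e₂⟩ := h₂
      refine ⟨a₁ * a₂, mul_mem ha₁ ha₂, a₂ • d₁ + a₁ • d₂, ?_⟩
      have : algebraMap A K (a₁ * a₂) • (t₁ + t₂) =
          algebraMap A K a₂ • (algebraMap A K a₁ • t₁) +
            algebraMap A K a₁ • (algebraMap A K a₂ • t₂) := by
        rw [map_mul, smul_add, smul_smul, smul_smul, mul_comm (algebraMap A K a₂)]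
      rw [this, e₁, e₂, h1tmul, h1tmul, TensorProduct.tmul_add]
  have hsurj : Function.Surjective μ := by
    intro e
    obtain ⟨⟨a, ha⟩, hint⟩ := IsIntegral.exists_multiple_integral_of_isLocalization
      (nonZeroDivisors A) e (Algebra.IsIntegral.isIntegral (R := K) e)
    have hint' : IsIntegral A (a • e) := hint
    refine ⟨(algebraMap A K a)⁻¹ ⊗ₜ[A] (⟨a • e, hint'⟩ : integralClosure A E), ?_⟩
    rw [hμ]
    show (algebraMap A K a)⁻¹ • (a • e) = e
    rw [← algebraMap_smul K a e, smul_smul, inv_mul_cancel₀ (hne a ha), one_smul]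
  have hinj : Function.Injective μ := by
    rw [injective_iff_map_eq_zero]
    intro t ht
    obtain ⟨a, ha, d, hd⟩ := hform t
    have h0 : (d : E) = 0 := by
      have := congrArg μ hd
      rw [map_smul, ht, smul_zero, hμ, one_smul] at this
      exact this.symm
    have hd0 : d = 0 := Subtype.ext h0
    rw [hd0, TensorProduct.tmul_zero] at hd
    exact (smul_eq_zero.mp hd).resolve_left (hne a ha)
  exact ⟨AlgEquiv.ofBijective μ ⟨hinj, hsurj⟩⟩

end Groth.Agent.H75.FEtShQ4
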