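import Mathlib
set_option autoImplicit false
universe u
open IsLocalRing TensorProduct

namespace Groth.Agent.H75.FEtShQ5

/-- (Q5) descent of "finite étale" from a split base change. -/
theorem finite_etale_of_tensor_equiv_pi (A R D ι : Type u) [CommRing A] [CommRing R] [Algebra A R]
    [Module.FaithfullyFlat A R] [CommRing D] [Algebra A D] [Finite ι]
    (e : R ⊗[A] D ≃ₐ[R] (ι → R)) : Module.Finite A D ∧ Algebra.Etale A D := by
  haveI : Algebra.Etale R (ι → R) := inferInstance
  haveI : Algebra.Etale R (R ⊗[A] D) := Algebra.Etale.of_equiv e.symm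
  haveI : Module.Finite R (ι → R) := inferInstance
  haveI : Module.Finite R (R ⊗[A] D) := Module.Finite.equiv e.symm.toLinearEquiv
  exact ⟨Module.Finite.of_finite_tensorProduct_of_faithfullyFlat R,
    Algebra.Etale.of_etale_tensorProduct_of_faithfullyFlat R⟩

end Groth.Agent.H75.FEtShQ5
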