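import Mathlib

/-! (TOP) for helper47's S3104 squad: a locally constant function on a quasi-compact dense open
of a scheme with integral stalks is constant near every point of the ambient scheme. -/

set_option autoImplicit false
open CategoryTheory CategoryTheory.Limits AlgebraicGeometry Opposite
universe u

namespace Groth.Agent.H75.NC_TOP

/-- Ring-level key: if `B_P` is a domain, the prime `ξ = ker (B → B_P)` lies in every compact open
of `Spec B` whose closure contains `P`. -/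
theorem ring_key {B : Type*} [CommRing B] (P : PrimeSpectrum B) (L : Type*) [CommRing L]
    [Algebra B L] [IsLocalization.AtPrime L P.asIdeal] [IsDomain L] :
    ∃ ξ : PrimeSpectrum B, ∀ E : Set (PrimeSpectrum B), IsCompact E → IsOpen E →
      P ∈ closure E → ξ ∈ E := by
  refine ⟨⟨RingHom.ker (algebraMap B L), RingHom.ker_isPrime _⟩, fun E hEc hEo hP => ?_⟩
  by_contra hξ
  obtain ⟨t, rfl⟩ := PrimeSpectrum.isCompact_isOpen_iff.mp ⟨hEc, hEo⟩
  have hsub : ∀ f ∈ t, ∃ g : B, g ∉ P.asIdeal ∧ g * f = 0 := by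
    intro f hf
    have hmem : f ∈ RingHom.ker (algebraMap B L) := by
      have h1 := not_not.mp hξ
      rw [PrimeSpectrum.mem_zeroLocus] at h1
      exact h1 hf
    have h0 : algebraMap B L f = 0 := hmem
    obtain ⟨m, hm⟩ := (IsLocalization.map_eq_zero_iff P.asIdeal.primeCompl L f).mp h0
    exact ⟨m.1, m.2, hm⟩
  choose! g hgP hgf using hsub
  have hPN : P ∈ (PrimeSpectrum.basicOpen (∏ f ∈ t, g f) : Set (PrimeSpectrum B)) := by
    intro hmem
    obtain ⟨f, hf, hfP⟩ := (Ideal.IsPrime.prod_mem_iff (hp := P.isPrime)).mp hmem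
    exact hgP f hf hfP
  obtain ⟨Q, hQN, hQE⟩ := mem_closure_iff.mp hP _ (PrimeSpectrum.basicOpen _).isOpen hPN
  rw [Set.mem_compl_iff, PrimeSpectrum.mem_zeroLocus, Set.not_subset] at hQE
  obtain ⟨f, hf, hfQ⟩ := hQE
  have hmul : g f * f ∈ Q.asIdeal := by rw [hgf f hf]; exact Q.asIdeal.zero_mem
  rcases Q.isPrime.mem_or_mem hmul with h1 | h1
  · exact hQN (Q.asIdeal.mem_of_dvd (Finset.dvd_prod_of_mem g hf) h1)
  · exact hfQ h1

/-- Scheme-level key. -/
theorem scheme_key {V : Scheme.{u}} (hdom : ∀ y : V, IsDomain (V.presheaf.stalk y))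
    (V0 : V.Opens) (hV0 : IsAffineOpen V0) (v : V) (hv : v ∈ V0) :
    ∃ ξ' : V, ∀ E : Set V, E ⊆ V0 → IsCompact E → IsOpen E → v ∈ closure E → ξ' ∈ E := by
  let x : V0 := ⟨v, hv⟩
  haveI : IsDomain (V.presheaf.stalk (x : V)) := hdom v
  letI : Algebra Γ(V, V0) (V.presheaf.stalk (x : V)) :=
    TopCat.Presheaf.algebra_section_stalk V.presheaf x
  haveI : IsLocalization.AtPrime (V.presheaf.stalk (x : V)) (hV0.primeIdealOf x).asIdeal :=
    hV0.isLocalization_stalk x
  obtain ⟨ξ, hξ⟩ := ring_key (hV0.primeIdealOf x) (V.presheaf.stalk (x : V))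
  refine ⟨hV0.fromSpec ξ, fun E hE0 hEc hEo hvE => ?_⟩
  have hemb : Topology.IsOpenEmbedding hV0.fromSpec := hV0.fromSpec.isOpenEmbedding
  have hsub : E ⊆ Set.range hV0.fromSpec := by rw [hV0.range_fromSpec]; exact hE0
  have h1 : IsCompact (hV0.fromSpec ⁻¹' E) :=
    (hemb.isInducing.isCompact_preimage_iff hsub).2 hEc
  have h2 : IsOpen (hV0.fromSpec ⁻¹' E) := hEo.preimage hV0.fromSpec.continuous
  have h3 : hV0.primeIdealOf x ∈ closure (hV0.fromSpec ⁻¹' E) := by
    rw [← hemb.isOpenMap.preimage_closure_eq_closure_preimage hV0.fromSpec.continuous]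
    show hV0.fromSpec (hV0.primeIdealOf x) ∈ closure E
    rw [hV0.fromSpec_primeIdealOf]; exact hvE
  exact hξ _ h1 h2 h3

/-- (TOP) -/
theorem exists_nbhd_const {V W : Scheme.{u}} (p : W ⟶ V) [IsOpenImmersion p] [QuasiCompact p]
    (hd : Dense (Set.range p.base)) (hdom : ∀ y : V, IsDomain (V.presheaf.stalk y))
    {S : Type*} (ax : W → S) (hax : IsLocallyConstant ax) (v : V) :
    ∃ (O : V.Opens) (a : S), v ∈ O ∧ ∀ w : W, p.base w ∈ O → ax w = a := by
  obtain ⟨V0, hV0, hv, -⟩ := exists_isAffineOpen_mem_and_subset (x := v) (U := ⊤) trivial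
  obtain ⟨ξ', hξ'⟩ := scheme_key hdom V0 hV0 v hv
  have hW0c : IsCompact (p.base ⁻¹' (V0 : Set V)) :=
    QuasiCompact.isCompact_preimage (f := p) _ V0.isOpen hV0.isCompact
  have hpemb : Topology.IsOpenEmbedding p.base := p.isOpenEmbedding
  have hall : ξ' ∈ p.base '' (p.base ⁻¹' (V0 : Set V)) := by
    refine hξ' _ ?_ (hW0c.image p.continuous)
      (hpemb.isOpenMap _ (V0.isOpen.preimage p.continuous)) ?_
    · rintro _ ⟨w, hw, rfl⟩; exact hw
    · rw [Set.image_preimage_eq_inter_range]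
      exact hd.open_subset_closure_inter V0.isOpen hv
  obtain ⟨w0, hw0, hw0ξ⟩ := hall
  obtain ⟨F, hFdef⟩ : ∃ F : Set V,
      F = p.base '' (p.base ⁻¹' (V0 : Set V) ∩ (ax ⁻¹' {ax w0})ᶜ) := ⟨_, rfl⟩
  have hvF : v ∉ closure F := by
    intro hvF
    have hF : ξ' ∈ F := by
      refine hξ' _ ?_ ?_ ?_ hvF
      · rw [hFdef]; rintro _ ⟨w, hw, rfl⟩; exact hw.1
      · rw [hFdef]
        exact (hW0c.inter_right (hax.isOpen_fiber _).isClosed_compl).image p.continuous
      · rw [hFdef]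
        exact hpemb.isOpenMap _
          ((V0.isOpen.preimage p.continuous).inter (hax.isClosed_fiber _).isOpen_compl)
    rw [hFdef] at hF
    obtain ⟨w', ⟨-, hw'a⟩, hw'ξ⟩ := hF
    have hww : w' = w0 := hpemb.injective (hw'ξ.trans hw0ξ.symm)
    exact hw'a (by rw [hww]; rfl)
  refine ⟨⟨(V0 : Set V) ∩ (closure F)ᶜ, V0.isOpen.inter isClosed_closure.isOpen_compl⟩, ax w0,
    (show v ∈ (V0 : Set V) ∩ (closure F)ᶜ from ⟨hv, hvF⟩), ?_⟩
  intro w hw
  obtain ⟨hw1, hw2⟩ : p.base w ∈ (V0 : Set V) ∩ (closure F)ᶜ := hw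
  by_contra hne
  exact hw2 (subset_closure (by rw [hFdef]; exact ⟨w, ⟨hw1, hne⟩, rfl⟩))

end Groth.Agent.H75.NC_TOP
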