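import Mathlib

/-!
# (G) for helper36's S0820 squad: an integral closed subscheme with prescribed generic point
-/

set_option autoImplicit false

universe u

open CategoryTheory AlgebraicGeometry

namespace Groth.Agent.H75.FinSupp_G

theorem isReduced_vanishingIdeal_subscheme {X : Scheme.{u}} (C : TopologicalSpace.Closeds X) :
    IsReduced (Scheme.IdealSheafData.vanishingIdeal C).subscheme := by
  have : ∀ U, IsReduced ((Scheme.IdealSheafData.vanishingIdeal C).subschemeCover.openCover.X U) := by
    intro (U : X.affineOpens)
    show IsReduced (Spec (CommRingCat.of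
      (Γ(X, U.1) ⧸ (Scheme.IdealSheafData.vanishingIdeal C).ideal U)))
    have hrad : ((Scheme.IdealSheafData.vanishingIdeal C).ideal U).IsRadical := by
      rw [Scheme.IdealSheafData.vanishingIdeal_ideal]
      exact PrimeSpectrum.isRadical_vanishingIdeal _
    have : _root_.IsReduced (Γ(X, U.1) ⧸ (Scheme.IdealSheafData.vanishingIdeal C).ideal U) :=
      (Ideal.isRadical_iff_quotient_reduced _).mp hrad
    infer_instance
  exact IsReduced.of_openCover _ (Scheme.IdealSheafData.vanishingIdeal C).subschemeCover.openCover

theorem exists_integral_closedImmersion (Y : Scheme.{u}) (y : Y) :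
    ∃ (Z' : Scheme.{u}) (j : Z' ⟶ Y) (_ : IsClosedImmersion j) (_ : IsIntegral Z'),
      j (genericPoint Z') = y := by
  let C : TopologicalSpace.Closeds Y := ⟨closure {y}, isClosed_closure⟩
  have hr : Set.range (Scheme.IdealSheafData.vanishingIdeal C).subschemeι = closure {y} := by
    rw [Scheme.IdealSheafData.range_subschemeι,
      Scheme.IdealSheafData.coe_support_vanishingIdeal]
    rfl
  haveI := isReduced_vanishingIdeal_subscheme C
  haveI : IrreducibleSpace ↥(Scheme.IdealSheafData.vanishingIdeal C).subscheme := by
    have h1 : IrreducibleSpace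
        ↥(Set.range (Scheme.IdealSheafData.vanishingIdeal C).subschemeι) := by
      rw [hr]
      exact isIrreducible_iff_irreducibleSpace.mp isIrreducible_singleton.closure
    exact ((Scheme.IdealSheafData.vanishingIdeal
      C).subschemeι.isClosedEmbedding.isEmbedding.toHomeomorph).irreducibleSpace_iff.mpr h1
  have hint : IsIntegral (Scheme.IdealSheafData.vanishingIdeal C).subscheme :=
    isIntegral_of_irreducibleSpace_of_isReduced _
  refine ⟨(Scheme.IdealSheafData.vanishingIdeal C).subscheme,
    (Scheme.IdealSheafData.vanishingIdeal C).subschemeι, inferInstance, hint, ?_⟩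
  have h1 : closure ({genericPoint (Scheme.IdealSheafData.vanishingIdeal C).subscheme} :
      Set (Scheme.IdealSheafData.vanishingIdeal C).subscheme) = Set.univ :=
    (genericPoint_spec _).def
  have hg : IsGenericPoint ((Scheme.IdealSheafData.vanishingIdeal C).subschemeι
      (genericPoint (Scheme.IdealSheafData.vanishingIdeal C).subscheme)) (closure {y}) := by
    rw [isGenericPoint_def, ← Set.image_singleton,
      (Scheme.IdealSheafData.vanishingIdeal C).subschemeι.isClosedEmbedding.closure_image_eq,
      h1, Set.image_univ, hr]
  exact hg.eq isGenericPoint_closure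

end Groth.Agent.H75.FinSupp_G
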