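import Mathlib

/-!
# (R) for helper36's S0820 squad: the range of an integral closed immersion is the closure of the
image of the generic point
-/

set_option autoImplicit false

universe u

open CategoryTheory AlgebraicGeometry

namespace Groth.Agent.H75.FinSupp_R

theorem range_eq_closure {X Z : Scheme.{u}} (i : Z ⟶ X) [IsClosedImmersion i] [IsIntegral Z] :
    Set.range ⇑i = closure {i (genericPoint Z)} := by
  have h1 : closure ({genericPoint Z} : Set Z) = Set.univ := (genericPoint_spec Z).def
  rw [← Set.image_singleton, i.isClosedEmbedding.closure_image_eq, h1, Set.image_univ]

end Groth.Agent.H75.FinSupp_R
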