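import Mathlib
import Groth.Agent.H48.WRNNDefs
set_option autoImplicit false
universe u
open TensorProduct Groth.Agent.H48.WRNN

namespace Groth.Agent.H75.WRNN_CD

variable {R S : Type u} [CommRing R] [CommRing S] [Algebra R S]

theorem exists_mul_eq (p : Ideal R) [p.IsPrime] (c : p.ResidueField) :
    ∃ r : R, r ∉ p ∧ ∃ a : R, algebraMap R p.ResidueField a = algebraMap R p.ResidueField r * c := by
  obtain ⟨x, rfl⟩ := IsLocalRing.residue_surjective c
  obtain ⟨y, t, rfl⟩ := IsLocalization.exists_mk'_eq p.primeCompl x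
  refine ⟨t, t.2, y, ?_⟩
  rw [IsScalarTower.algebraMap_apply R (Localization.AtPrime p) p.ResidueField,
    IsScalarTower.algebraMap_apply R (Localization.AtPrime p) p.ResidueField,
    IsLocalRing.ResidueField.algebraMap_eq, ← map_mul, IsLocalization.mk'_spec']

/-- (CD) clearing denominators. -/
theorem exists_map_eq_C_mul {σ : Type*} (p : Ideal R) [p.IsPrime] (g : MvPolynomial σ p.ResidueField) :
    ∃ r : R, r ∉ p ∧ ∃ a : MvPolynomial σ R, MvPolynomial.map (algebraMap R p.ResidueField) a = MvPolynomial.C (algebraMap R p.ResidueField r) * g := by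
  induction g using MvPolynomial.induction_on with
  | C c =>
    obtain ⟨r, hr, a, ha⟩ := exists_mul_eq p c
    refine ⟨r, hr, MvPolynomial.C a, ?_⟩
    rw [MvPolynomial.map_C, ha, MvPolynomial.C_mul]
  | add g₁ g₂ h₁ h₂ =>
    obtain ⟨r₁, hr₁, a₁, ha₁⟩ := h₁
    obtain ⟨r₂, hr₂, a₂, ha₂⟩ := h₂
    refine ⟨r₁ * r₂, fun h => (Ideal.IsPrime.mem_or_mem ‹_› h).elim hr₁ hr₂,
      MvPolynomial.C r₂ * a₁ + MvPolynomial.C r₁ * a₂, ?_⟩
    rw [map_add, map_mul, map_mul, ha₁, ha₂, MvPolynomial.map_C, MvPolynomial.map_C, map_mul,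
      MvPolynomial.C_mul]
    ring
  | mul_X g i h =>
    obtain ⟨r, hr, a, ha⟩ := h
    refine ⟨r, hr, a * MvPolynomial.X i, ?_⟩
    rw [map_mul, ha, MvPolynomial.map_X, mul_assoc]

end Groth.Agent.H75.WRNN_CD
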