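import Mathlib
import Groth.Agent.H48.WRNNDefs
set_option autoImplicit false
universe u
open TensorProduct Groth.Agent.H48.WRNN

namespace Groth.Agent.H75.WRNN_TZ

variable {R S : Type u} [CommRing R] [CommRing S] [Algebra R S]

theorem one_tmul_eq_zero_of_mem (p : Ideal R) [p.IsPrime] (s : S)
    (hs : s ∈ Ideal.map (algebraMap R S) p) : (1 : p.ResidueField) ⊗ₜ[R] s = (0 : p.Fiber S) := by
  have hle : Ideal.map (algebraMap R S) p ≤
      RingHom.ker (Algebra.TensorProduct.includeRight : S →ₐ[R] p.Fiber S) := by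
    rw [Ideal.map_le_iff_le_comap]
    intro a ha
    rw [Ideal.mem_comap, RingHom.mem_ker, AlgHom.commutes,
      Algebra.TensorProduct.algebraMap_apply,
      (Ideal.algebraMap_residueField_eq_zero (I := p)).mpr ha, TensorProduct.zero_tmul]
  exact hle hs

/-- (TZ) vanishing of `1 ⊗ s` in the fibre. -/
theorem one_tmul_eq_zero_iff (p : Ideal R) [p.IsPrime] (s : S) :
    (1 : p.ResidueField) ⊗ₜ[R] s = (0 : p.Fiber S) ↔ ∃ r : R, r ∉ p ∧ r • s ∈ Ideal.map (algebraMap R S) p := by
  constructor
  · intro h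
    letI : Algebra S (p.Fiber S) := Algebra.TensorProduct.rightAlgebra
    let e := Ideal.Fiber.algEquivAux₁ (S := S) p
    have h1 : (1 : p.ResidueField) ⊗ₜ[R] s = algebraMap S (p.Fiber S) s := rfl
    have h2 : algebraMap S _ s = e 0 := by
      rw [← h, h1, AlgEquiv.commutes]
    rw [map_zero] at h2
    have h3 : algebraMap S (Localization (Algebra.algebraMapSubmonoid S p.primeCompl)) s ∈
        (Ideal.map (algebraMap R S) p).map
          (algebraMap S (Localization (Algebra.algebraMapSubmonoid S p.primeCompl))) := by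
      rw [← Ideal.Quotient.eq_zero_iff_mem]
      exact h2
    rw [IsLocalization.algebraMap_mem_map_algebraMap_iff
      (Algebra.algebraMapSubmonoid S p.primeCompl)] at h3
    obtain ⟨m, ⟨r, hr, rfl⟩, hm⟩ := h3
    exact ⟨r, hr, by rw [Algebra.smul_def]; exact hm⟩
  · rintro ⟨r, hr, hrs⟩
    have h1 := one_tmul_eq_zero_of_mem p (r • s) hrs
    rw [← TensorProduct.smul_tmul, Algebra.smul_def, mul_one] at h1
    have hne : algebraMap R p.ResidueField r ≠ 0 := by
      rw [Ne, Ideal.algebraMap_residueField_eq_zero]; exact hr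
    have h2 : (algebraMap R p.ResidueField r)⁻¹ • ((algebraMap R p.ResidueField r) ⊗ₜ[R] s) =
        (1 : p.ResidueField) ⊗ₜ[R] s := by
      rw [TensorProduct.smul_tmul', smul_eq_mul, inv_mul_cancel₀ hne]
    rw [← h2, h1, smul_zero]

end Groth.Agent.H75.WRNN_TZ
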