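import Mathlib
import Groth.Agent.H48.WRNNDefs
import Groth.Agent.H75.WRNN_TZ
set_option autoImplicit false
universe u
open TensorProduct Groth.Agent.H48.WRNN

namespace Groth.Agent.H75.WRNN_OPEN

variable {R S : Type u} [CommRing R] [CommRing S] [Algebra R S]

/-- (OPEN) the relation locus is locally of the form `D(f) ∩ V(a)`. -/
theorem relLocus_constructible {σ : Type*} (x : σ → S) (G : MvPolynomial σ R) :
    ∀ p ∈ relLocus x G, ∃ (f : R) (a : Finset R), f ∉ p.asIdeal ∧ (↑a : Set R) ⊆ p.asIdeal ∧ ∀ q : PrimeSpectrum R, f ∉ q.asIdeal → (↑a : Set R) ⊆ q.asIdeal → q ∈ relLocus x G := by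
  classical
  rintro p ⟨hp1, hp2⟩
  -- a coefficient outside `p`
  obtain ⟨m, hm⟩ := MvPolynomial.ne_zero_iff.mp hp1
  rw [MvPolynomial.coeff_map] at hm
  have hc : MvPolynomial.coeff m G ∉ p.asIdeal := by
    intro h
    exact hm ((Ideal.algebraMap_residueField_eq_zero (I := p.asIdeal)).mpr h)
  -- the relation
  obtain ⟨r, hr, hrs⟩ := (Groth.Agent.H75.WRNN_TZ.one_tmul_eq_zero_iff p.asIdeal
    (MvPolynomial.aeval x G)).mp hp2
  rw [Ideal.map, Ideal.span] at hrs
  obtain ⟨T, hT, hrsT⟩ := Submodule.mem_span_finite_of_mem_span hrs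
  obtain ⟨a, ha, rfl⟩ := Finset.subset_set_image_iff.mp hT
  refine ⟨MvPolynomial.coeff m G * r, a, ?_, ha, ?_⟩
  · intro h
    exact (p.isPrime.mem_or_mem h).elim hc hr
  · intro q hfq haq
    have hcq : MvPolynomial.coeff m G ∉ q.asIdeal := fun h => hfq (Ideal.mul_mem_right _ _ h)
    have hrq : r ∉ q.asIdeal := fun h => hfq (Ideal.mul_mem_left _ _ h)
    refine ⟨?_, ?_⟩
    · rw [MvPolynomial.ne_zero_iff]
      refine ⟨m, ?_⟩
      rw [MvPolynomial.coeff_map, Ne, Ideal.algebraMap_residueField_eq_zero]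
      exact hcq
    · rw [Groth.Agent.H75.WRNN_TZ.one_tmul_eq_zero_iff]
      refine ⟨r, hrq, ?_⟩
      have hle : Submodule.span S (↑(a.image (algebraMap R S)) : Set S) ≤
          Ideal.map (algebraMap R S) q.asIdeal := by
        rw [Submodule.span_le]
        intro z hz
        rw [Finset.coe_image] at hz
        obtain ⟨b, hb, rfl⟩ := hz
        exact Ideal.mem_map_of_mem _ (haq hb)
      exact hle hrsT

end Groth.Agent.H75.WRNN_OPEN
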