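import Mathlib

/-!
# (QF) for helper48's S1430 squad: quasi-finiteness of `R[X] → S` passes to the fibres
-/

set_option autoImplicit false

universe u

open TensorProduct Polynomial

namespace Groth.Agent.H75.FDS_QF

attribute [local instance] Algebra.TensorProduct.rightAlgebra Polynomial.algebra

theorem quasiFinite_fiber_of_quasiFinite {R S : Type u} [CommRing R] [CommRing S] [Algebra R S]
    (c : S) (hc : (Polynomial.aeval (R := R) c).toRingHom.QuasiFinite) (p : Ideal R) [p.IsPrime] :
    (Polynomial.aeval (R := p.ResidueField)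
      ((1 : p.ResidueField) ⊗ₜ[R] c : p.Fiber S)).toRingHom.QuasiFinite := by
  letI a1 : Algebra R[X] S := (Polynomial.aeval (R := R) c).toRingHom.toAlgebra
  letI a2 : Algebra p.ResidueField[X] (p.Fiber S) :=
    (Polynomial.aeval (R := p.ResidueField)
      ((1 : p.ResidueField) ⊗ₜ[R] c : p.Fiber S)).toRingHom.toAlgebra
  letI a3 : Algebra R[X] (p.Fiber S) :=
    ((algebraMap S (p.Fiber S)).comp (algebraMap R[X] S)).toAlgebra
  have t1 : IsScalarTower R[X] S (p.Fiber S) := .of_algebraMap_eq' rfl
  have t2 : IsScalarTower R[X] p.ResidueField[X] (p.Fiber S) := .of_algebraMap_eq' (by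
    refine Polynomial.ringHom_ext (fun r => ?_) ?_
    · simp only [RingHom.algebraMap_toAlgebra, RingHom.comp_apply, AlgHom.toRingHom_eq_coe,
        RingHom.coe_coe, Polynomial.aeval_C, Polynomial.algebraMap_def, Polynomial.coe_mapRingHom,
        Polynomial.map_C, Algebra.TensorProduct.algebraMap_apply,
        Algebra.TensorProduct.right_algebraMap_apply]
      rw [Algebra.TensorProduct.includeRight_apply, RingHom.id_apply,
        Algebra.algebraMap_eq_smul_one (A := S),
        Algebra.algebraMap_eq_smul_one (A := p.ResidueField), TensorProduct.smul_tmul]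
    · simp only [RingHom.algebraMap_toAlgebra, RingHom.comp_apply, AlgHom.toRingHom_eq_coe,
        RingHom.coe_coe, Polynomial.aeval_X, Polynomial.algebraMap_def, Polynomial.coe_mapRingHom,
        Polynomial.map_X, Algebra.TensorProduct.right_algebraMap_apply]
      rfl)
  have t3 : IsScalarTower R p.ResidueField[X] (p.Fiber S) := .of_algebraMap_eq' (by
    refine RingHom.ext fun r => ?_
    simp only [RingHom.algebraMap_toAlgebra, RingHom.comp_apply, AlgHom.toRingHom_eq_coe,
      RingHom.coe_coe, Polynomial.algebraMap_apply, Polynomial.aeval_C]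
    rw [← IsScalarTower.algebraMap_apply R p.ResidueField (p.Fiber S)])
  have t4 : IsScalarTower p.ResidueField p.ResidueField[X] (p.Fiber S) :=
    .of_algebraMap_eq' (by
      refine RingHom.ext fun r => ?_
      simp only [RingHom.algebraMap_toAlgebra, RingHom.comp_apply, AlgHom.toRingHom_eq_coe,
        RingHom.coe_coe, Polynomial.algebraMap_apply, Polynomial.aeval_C, Algebra.algebraMap_self,
        RingHom.id_apply])
  have hpo : Algebra.IsPushout R[X] S p.ResidueField[X] (p.Fiber S) :=
    (Algebra.IsPushout.comp_iff R R[X] p.ResidueField p.ResidueField[X]).mp inferInstance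
  exact RingHom.QuasiFinite.isStableUnderBaseChange R[X] S p.ResidueField[X] (p.Fiber S) hc

end Groth.Agent.H75.FDS_QF
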