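import Mathlib
import Groth.Agent.H75.WRNN_CD
import Groth.Agent.H75.WRNN_TZ

/-!
# (QR) for helper48's S1430 squad: a polynomial relation between `a` and `b`
when `k[X] → B, X ↦ a` is quasi-finite
-/

set_option autoImplicit false

universe u

open TensorProduct Polynomial

namespace Groth.Agent.H75.FDS_QR

/-- univariate clearing of denominators over a residue field -/
theorem exists_map_eq_C_mul_poly {R : Type u} [CommRing R] (p : Ideal R) [p.IsPrime]
    (P : p.ResidueField[X]) :
    ∃ r : R, r ∉ p ∧ ∃ Q : R[X], Q.map (algebraMap R p.ResidueField) =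
      Polynomial.C (algebraMap R p.ResidueField r) * P := by
  induction P using Polynomial.induction_on' with
  | add P₁ P₂ h₁ h₂ =>
    obtain ⟨r₁, hr₁, Q₁, hQ₁⟩ := h₁
    obtain ⟨r₂, hr₂, Q₂, hQ₂⟩ := h₂
    refine ⟨r₁ * r₂, fun h => (Ideal.IsPrime.mem_or_mem ‹_› h).elim hr₁ hr₂,
      Polynomial.C r₂ * Q₁ + Polynomial.C r₁ * Q₂, ?_⟩
    rw [Polynomial.map_add, Polynomial.map_mul, Polynomial.map_mul, hQ₁, hQ₂, Polynomial.map_C,
      Polynomial.map_C, map_mul, Polynomial.C_mul]
    ring
  | monomial n c =>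
    obtain ⟨r, hr, a, ha⟩ := Groth.Agent.H75.WRNN_CD.exists_mul_eq p c
    refine ⟨r, hr, Polynomial.monomial n a, ?_⟩
    rw [Polynomial.map_monomial, ha, Polynomial.C_mul_monomial]

/-- every element of a quasi-finite algebra over a domain is algebraic -/
theorem exists_ne_zero_aeval_eq_zero {A B : Type u} [CommRing A] [IsDomain A] [CommRing B]
    [Algebra A B] [Algebra.QuasiFinite A B] (b : B) :
    ∃ Q : A[X], Q ≠ 0 ∧ Polynomial.aeval b Q = 0 := by
  obtain ⟨p, hp⟩ : ∃ p : Ideal A, p = ⊥ := ⟨_, rfl⟩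
  haveI : p.IsPrime := hp ▸ Ideal.isPrime_bot
  haveI : Module.Finite p.ResidueField (p.Fiber B) := Algebra.QuasiFinite.finite_fiber p
  have hint : IsIntegral p.ResidueField ((1 : p.ResidueField) ⊗ₜ[A] b : p.Fiber B) :=
    Algebra.IsIntegral.isIntegral _
  obtain ⟨P, hPmonic, hP⟩ := hint
  obtain ⟨r, hr, Q, hQ⟩ := exists_map_eq_C_mul_poly p P
  have hρ : algebraMap A p.ResidueField r ≠ 0 :=
    fun h => hr (Ideal.algebraMap_residueField_eq_zero.mp h)
  have hQ0 : Q ≠ 0 := by
    rintro rfl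
    rw [Polynomial.map_zero] at hQ
    rcases mul_eq_zero.mp hQ.symm with h | h
    · exact hρ (Polynomial.C_eq_zero.mp h)
    · exact hPmonic.ne_zero h
  have h1 : (1 : p.ResidueField) ⊗ₜ[A] (Polynomial.aeval b Q) = (0 : p.Fiber B) := by
    have e1 : Polynomial.aeval ((1 : p.ResidueField) ⊗ₜ[A] b : p.Fiber B)
        (Q.map (algebraMap A p.ResidueField)) = 0 := by
      rw [hQ, map_mul, Polynomial.aeval_C, Polynomial.aeval_def, hP, mul_zero]
    rw [Polynomial.aeval_map_algebraMap] at e1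
    have e2 : Polynomial.aeval ((1 : p.ResidueField) ⊗ₜ[A] b : p.Fiber B) Q =
        (Algebra.TensorProduct.includeRight : B →ₐ[A] p.Fiber B) (Polynomial.aeval b Q) := by
      rw [← Polynomial.aeval_algHom_apply]; rfl
    rw [e2] at e1
    exact e1
  obtain ⟨s, hs, hsmem⟩ := (Groth.Agent.H75.WRNN_TZ.one_tmul_eq_zero_iff p _).mp h1
  have hs0 : s ≠ 0 := fun h => hs (by rw [h]; exact Ideal.zero_mem _)
  have hz : s • Polynomial.aeval b Q = 0 := by
    rw [hp, Ideal.map_bot] at hsmem
    exact hsmem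
  refine ⟨Polynomial.C s * Q, mul_ne_zero (by simpa using hs0) hQ0, ?_⟩
  rw [map_mul, Polynomial.aeval_C, ← Algebra.smul_def]
  exact hz

theorem conv {k B : Type u} [Field k] [CommRing B] [Algebra k B] (a b : B) (Q : k[X][X])
    (hQ0 : Q ≠ 0)
    (hQ : Polynomial.eval₂ ((Polynomial.aeval (R := k) a).toRingHom) b Q = 0) :
    ∃ G : MvPolynomial (Fin 2) k, G ≠ 0 ∧ MvPolynomial.aeval ![a, b] G = 0 := by
  let ι : k[X][X] →+* MvPolynomial (Fin 2) k :=
    Polynomial.eval₂RingHom
      ((Polynomial.aeval (R := k) (MvPolynomial.X 0 : MvPolynomial (Fin 2) k)).toRingHom)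
      (MvPolynomial.X 1)
  let θ : MvPolynomial (Fin 2) k →+* k[X][X] :=
    MvPolynomial.eval₂Hom ((Polynomial.C).comp Polynomial.C)
      ![Polynomial.C Polynomial.X, Polynomial.X]
  have hθι : θ.comp ι = RingHom.id _ := by
    refine Polynomial.ringHom_ext (fun q => ?_) ?_
    · have h : (θ.comp ι).comp Polynomial.C = Polynomial.C := by
        refine Polynomial.ringHom_ext (fun c => ?_) ?_
        · simp [θ, ι]
        · simp [θ, ι]
      exact RingHom.congr_fun h q
    · simp [θ, ι]
  have hev : (MvPolynomial.aeval ![a, b] : MvPolynomial (Fin 2) k →ₐ[k] B).toRingHom.comp ι =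
      Polynomial.eval₂RingHom ((Polynomial.aeval (R := k) a).toRingHom) b := by
    refine Polynomial.ringHom_ext (fun q => ?_) ?_
    · have h : ((MvPolynomial.aeval ![a, b] : MvPolynomial (Fin 2) k →ₐ[k] B).toRingHom.comp
          ι).comp Polynomial.C =
          (Polynomial.eval₂RingHom ((Polynomial.aeval (R := k) a).toRingHom) b).comp
            Polynomial.C := by
        refine Polynomial.ringHom_ext (fun c => ?_) ?_
        · simp [ι]
        · simp [ι]
      exact RingHom.congr_fun h q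
    · simp [ι]
  refine ⟨ι Q, fun h => hQ0 ?_, ?_⟩
  · have := RingHom.congr_fun hθι Q
    simp only [RingHom.comp_apply, h, map_zero, RingHom.id_apply] at this
    exact this.symm
  · have := RingHom.congr_fun hev Q
    simp only [RingHom.comp_apply, Polynomial.coe_eval₂RingHom, hQ] at this
    exact this

/-- (QR) -/
theorem exists_relation_field {k B : Type u} [Field k] [CommRing B] [Algebra k B] (a b : B)
    (ha : (Polynomial.aeval (R := k) a).toRingHom.QuasiFinite) :
    ∃ G : MvPolynomial (Fin 2) k, G ≠ 0 ∧ MvPolynomial.aeval ![a, b] G = 0 := by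
  letI : Algebra k[X] B := (Polynomial.aeval (R := k) a).toRingHom.toAlgebra
  haveI : Algebra.QuasiFinite k[X] B := ha
  obtain ⟨Q, hQ0, hQ⟩ := exists_ne_zero_aeval_eq_zero (A := k[X]) b
  rw [Polynomial.aeval_def] at hQ
  exact conv a b Q hQ0 hQ

end Groth.Agent.H75.FDS_QR
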