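import Mathlib

/-!
# (SWAP) for helper48's S1430 squad: swapping the order of adjoining variables
-/

set_option autoImplicit false

universe u

open TensorProduct Polynomial

namespace Groth.Agent.H75.FDS_SWAP

theorem quasiFinite_swap {R S : Type u} [CommRing R] [CommRing S] [Algebra R S] {m : ℕ}
    (y : Fin m → S) (c : S) :
    (MvPolynomial.eval₂Hom (Polynomial.eval₂RingHom (algebraMap R S) c) y :
      MvPolynomial (Fin m) (Polynomial R) →+* S).QuasiFinite ↔
    (Polynomial.eval₂RingHom (MvPolynomial.eval₂Hom (algebraMap R S) y) c :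
      Polynomial (MvPolynomial (Fin m) R) →+* S).QuasiFinite := by
  obtain ⟨f₁, hf₁⟩ : ∃ f₁ : MvPolynomial (Fin m) (Polynomial R) →+* S,
      f₁ = MvPolynomial.eval₂Hom (Polynomial.eval₂RingHom (algebraMap R S) c) y := ⟨_, rfl⟩
  obtain ⟨f₂, hf₂⟩ : ∃ f₂ : Polynomial (MvPolynomial (Fin m) R) →+* S,
      f₂ = Polynomial.eval₂RingHom (MvPolynomial.eval₂Hom (algebraMap R S) y) c := ⟨_, rfl⟩
  rw [← hf₁, ← hf₂]
  let eR : MvPolynomial (Option (Fin m)) R ≃+* MvPolynomial (Fin m) (Polynomial R) :=
    (MvPolynomial.optionEquivRight R (Fin m)).toRingEquiv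
  let eL : MvPolynomial (Option (Fin m)) R ≃+* Polynomial (MvPolynomial (Fin m) R) :=
    (MvPolynomial.optionEquivLeft R (Fin m)).toRingEquiv
  have key : f₁.comp eR.toRingHom = f₂.comp eL.toRingHom := by
    apply MvPolynomial.ringHom_ext
    · intro r
      simp [hf₁, hf₂, eR, eL]
    · intro i
      cases i <;> simp [hf₁, hf₂, eR, eL]
  have h1 : f₁ = (f₂.comp eL.toRingHom).comp eR.symm.toRingHom := by
    rw [← key]
    refine RingHom.ext fun p => ?_
    simp
  have h2 : f₂ = (f₁.comp eR.toRingHom).comp eL.symm.toRingHom := by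
    rw [key]
    refine RingHom.ext fun p => ?_
    simp
  constructor
  · intro h
    rw [h2]
    exact (h.comp (.of_finite eR.finite)).comp (.of_finite eL.symm.finite)
  · intro h
    rw [h1]
    exact (h.comp (.of_finite eL.finite)).comp (.of_finite eR.symm.finite)

end Groth.Agent.H75.FDS_SWAP
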