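import Mathlib
import Groth.Agent.H57.TorFree.Defs
import Groth.Agent.H57.RelAssGen.RowAvoid
import Groth.Agent.H7.AssTensorFlat

/-!
# (CH) + (CHD) for the S4832 squad: chart forms of `GenPt` and of "the fibre local ring is a domain"
-/

set_option autoImplicit false
set_option linter.style.haveILetI false
universe u

open AlgebraicGeometry CategoryTheory Limits TopologicalSpace IsLocalRing
open Groth.Agent.H57.RelAssGen Groth.Agent.H57.TorFree

namespace Groth.Agent.H75.TF_CH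

/-- Membership of `y/1` in `I B_q` is witnessed by a denominator outside `q`. -/
theorem algebraMap_mem_map_iff {B : Type*} [CommRing B] (q : Ideal B) [q.IsPrime] (Bq : Type*)
    [CommRing Bq] [Algebra B Bq] [IsLocalization.AtPrime Bq q] (I : Ideal B) (y : B) :
    algebraMap B Bq y ∈ I.map (algebraMap B Bq) ↔ ∃ t : B, t ∉ q ∧ t * y ∈ I := by
  constructor
  · rw [IsLocalization.mem_map_algebraMap_iff q.primeCompl]
    rintro ⟨⟨⟨i, hi⟩, t⟩, h⟩
    replace h : algebraMap B Bq (y * (t : B)) = algebraMap B Bq i := by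
      rw [map_mul]; exact h
    obtain ⟨c, hc⟩ := (IsLocalization.eq_iff_exists q.primeCompl Bq).mp h
    refine ⟨(c : B) * (t : B), (c * t).2, ?_⟩
    have h2 : (c : B) * (t : B) * y = (c : B) * i := by
      rw [← hc]; ring
    rw [h2]
    exact I.mul_mem_left _ hi
  · rintro ⟨t, ht, hty⟩
    have h1 : algebraMap B Bq (t * y) ∈ I.map (algebraMap B Bq) := Ideal.mem_map_of_mem _ hty
    rw [map_mul] at h1
    have hu : IsUnit (algebraMap B Bq t) :=
      IsLocalization.map_units Bq (⟨t, ht⟩ : q.primeCompl)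
    exact (Ideal.unit_mul_mem_iff_mem _ hu).mp h1

/-- Algebraic core of (CH). -/
theorem maximalIdeal_le_map_iff_genAt {B : Type*} [CommRing B] (q : Ideal B) [q.IsPrime]
    (Bq : Type*) [CommRing Bq] [Algebra B Bq] [IsLocalization.AtPrime Bq q] [IsLocalRing Bq]
    (I : Ideal B) :
    maximalIdeal Bq ≤ I.map (algebraMap B Bq) ↔ GenAt I q := by
  constructor
  · intro h b hb
    have hb' : algebraMap B Bq b ∈ maximalIdeal Bq :=
      (IsLocalization.AtPrime.to_map_mem_maximal_iff Bq q b).mpr hb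
    exact (algebraMap_mem_map_iff q Bq I b).mp (h hb')
  · intro h β hβ
    obtain ⟨b, t, rfl⟩ := IsLocalization.exists_mk'_eq q.primeCompl β
    have hb : b ∈ q := (IsLocalization.AtPrime.mk'_mem_maximal_iff Bq q b t).mp hβ
    have h1 : algebraMap B Bq b ∈ I.map (algebraMap B Bq) :=
      (algebraMap_mem_map_iff q Bq I b).mpr (h b hb)
    rw [IsLocalization.mk'_eq_mul_mk'_one]
    exact Ideal.mul_mem_right _ _ h1

/-- Algebraic core of (CHD). -/
theorem genAt_of_socAt_of_isPrime_map {B : Type*} [CommRing B] (q : Ideal B) [q.IsPrime]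
    (Bq : Type*) [CommRing Bq] [Algebra B Bq] [IsLocalization.AtPrime Bq q]
    (I : Ideal B) (hprime : (I.map (algebraMap B Bq)).IsPrime) (hsoc : SocAt I q B) :
    GenAt I q := by
  obtain ⟨m, hm1, hm2⟩ := hsoc
  have hI : (I • ⊤ : Submodule B B) = I := by simp
  intro b hb
  obtain ⟨s, hs, hsm⟩ := hm2 b hb
  rw [hI, smul_eq_mul] at hsm
  have h1 : algebraMap B Bq (s * b * m) ∈ I.map (algebraMap B Bq) := Ideal.mem_map_of_mem _ hsm
  rw [map_mul, map_mul] at h1
  rcases hprime.mem_or_mem h1 with h2 | h2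
  · rcases hprime.mem_or_mem h2 with h3 | h3
    · exact absurd (Ideal.eq_top_of_isUnit_mem _ h3
        (IsLocalization.map_units Bq (⟨s, hs⟩ : q.primeCompl))) hprime.ne_top
    · exact (algebraMap_mem_map_iff q Bq I b).mp h3
  · obtain ⟨t, ht, htm⟩ := (algebraMap_mem_map_iff q Bq I m).mp h2
    refine absurd ?_ (hm1 t ht)
    rw [hI, smul_eq_mul]
    exact htm

variable {X S : Scheme.{u}}

theorem fibI_eq (f : X ⟶ S) {V : S.Opens} (hV : IsAffineOpen V) {W : X.Opens}
    (hW : IsAffineOpen W) (e : W ≤ f ⁻¹ᵁ V) (x : X) (hxW : x ∈ W) :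
    letI : Algebra Γ(S, V) Γ(X, W) := (f.appLE V W e).hom.toAlgebra
    fibI Γ(S, V) (hW.primeIdealOf ⟨x, hxW⟩).asIdeal =
      Ideal.map (f.appLE V W e).hom (hV.primeIdealOf ⟨f x, e hxW⟩).asIdeal := by
  have h := comap_primeIdealOf_asIdeal f hV hW e x hxW
  show Ideal.map (f.appLE V W e).hom (Ideal.comap (f.appLE V W e).hom _) = _
  rw [h]

/-- (CH) chart form of `GenPt`. -/
theorem genPt_iff_genAt (f : X ⟶ S) {V : S.Opens} (hV : IsAffineOpen V) {W : X.Opens}
    (hW : IsAffineOpen W) (e : W ≤ f ⁻¹ᵁ V) (x : X) (hxW : x ∈ W) :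
    letI : Algebra Γ(S, V) Γ(X, W) := (f.appLE V W e).hom.toAlgebra
    GenPt f x ↔ GenAt (fibI Γ(S, V) (hW.primeIdealOf ⟨x, hxW⟩).asIdeal)
      (hW.primeIdealOf ⟨x, hxW⟩).asIdeal := by
  letI := X.presheaf.algebra_section_stalk ⟨x, hxW⟩
  haveI := hW.isLocalization_stalk ⟨x, hxW⟩
  rw [fibI_eq f hV hW e x hxW]
  unfold GenPt
  rw [Groth.Agent.H7.AssTensorFlat.map_stalkMap_maximalIdeal f hV e x hxW]
  exact maximalIdeal_le_map_iff_genAt (hW.primeIdealOf ⟨x, hxW⟩).asIdeal (X.presheaf.stalk x) _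

/-- (CHD) chart form of "the fibre local ring is a domain": an associated point of the fibre of
the structure sheaf is a generic point. -/
theorem genAt_of_socAt_of_isPrime (f : X ⟶ S) {V : S.Opens} (hV : IsAffineOpen V) {W : X.Opens}
    (hW : IsAffineOpen W) (e : W ≤ f ⁻¹ᵁ V) (x : X) (hxW : x ∈ W)
    (hprime : (Ideal.map (f.stalkMap x).hom
      (IsLocalRing.maximalIdeal (S.presheaf.stalk (f x)))).IsPrime) :
    letI : Algebra Γ(S, V) Γ(X, W) := (f.appLE V W e).hom.toAlgebra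
    SocAt (fibI Γ(S, V) (hW.primeIdealOf ⟨x, hxW⟩).asIdeal)
        (hW.primeIdealOf ⟨x, hxW⟩).asIdeal Γ(X, W) →
      GenAt (fibI Γ(S, V) (hW.primeIdealOf ⟨x, hxW⟩).asIdeal)
        (hW.primeIdealOf ⟨x, hxW⟩).asIdeal := by
  letI := X.presheaf.algebra_section_stalk ⟨x, hxW⟩
  haveI := hW.isLocalization_stalk ⟨x, hxW⟩
  rw [fibI_eq f hV hW e x hxW]
  rw [Groth.Agent.H7.AssTensorFlat.map_stalkMap_maximalIdeal f hV e x hxW] at hprime
  exact genAt_of_socAt_of_isPrime_map (hW.primeIdealOf ⟨x, hxW⟩).asIdeal (X.presheaf.stalk x) _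
    hprime

end Groth.Agent.H75.TF_CH
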