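import Groth.Agent.H58.CDL.Defs
import Groth.Agent.H46.LatMain

set_option autoImplicit false
universe u v

namespace Groth.Agent.H75.CDLP1

open CycDet IsLocalRing Groth.Agent.H46.CD Groth.Agent.H46.LatDist Groth.Agent.H58.CDL

variable {R : Type u} [CommRing R] [IsLocalRing R] {N : Type v} [AddCommGroup N] [Module R N]
  {q : Ideal R} [q.IsPrime] {l : ℕ}

theorem sat {y : Fin l → N} (hy : GoodR q y) (k : ℕ) (n : N)
    (hn : n ∈ Submodule.span R (Set.range y)) (s : R) (hs : s ∉ q)
    (hsn : s • n ∈ spanBefore R N y k) : n ∈ spanBefore R N y k := by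
  have claim : ∀ m : ℕ, n ∈ spanBefore R N y (k + m) → n ∈ spanBefore R N y k := by
    intro m
    induction m with
    | zero => intro h; simpa using h
    | succ m ih =>
      intro h
      apply ih
      by_cases hjl : k + m < l
      · let j : Fin l := ⟨k + m, hjl⟩
        have hsucc := spanBefore_succ (R := R) y j
        have h' : n ∈ spanBefore R N y (j : ℕ) ⊔ Submodule.span R {y j} := by
          rw [← hsucc]; exact h
        obtain ⟨w, hw, z, hz, rfl⟩ := Submodule.mem_sup.mp h'
        obtain ⟨c, rfl⟩ := Submodule.mem_span_singleton.mp hz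
        have h1 : s • (w + c • y j) ∈ spanBefore R N y (j : ℕ) :=
          spanBefore_mono y (Nat.le_add_right k m) hsn
        have h2 : (s * c) • y j ∈ spanBefore R N y (j : ℕ) := by
          have : (s * c) • y j = s • (w + c • y j) - s • w := by
            rw [smul_add, mul_smul]; abel
          rw [this]
          exact Submodule.sub_mem _ h1 (Submodule.smul_mem _ _ hw)
        have h3 : s * c ∈ q := (hy j (s * c)).mp h2
        have h4 : c ∈ q := (Ideal.IsPrime.mem_or_mem inferInstance h3).resolve_left hs
        have h5 : c • y j ∈ spanBefore R N y (j : ℕ) := (hy j c).mpr h4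
        exact Submodule.add_mem _ hw h5
      · have hle : spanBefore R N y (k + (m + 1)) ≤ spanBefore R N y (k + m) := by
          apply spanBefore_le
          intro i hi
          exact mem_spanBefore y i (by omega)
        exact hle h
  by_cases hkl : k ≤ l
  · apply claim (l - k)
    rw [Nat.add_sub_cancel' hkl, spanBefore_eq_range]
    exact hn
  · have hle : spanBefore R N y l ≤ spanBefore R N y k := spanBefore_mono y (by omega)
    apply hle
    rw [spanBefore_eq_range]; exact hn

end Groth.Agent.H75.CDLP1
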