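import Groth.Agent.H58.CDL.Defs
import Groth.Agent.H46.LatMain

set_option autoImplicit false
universe u v

namespace Groth.Agent.H75.CDLP4

open CycDet IsLocalRing Groth.Agent.H46.CD Groth.Agent.H46.LatDist Groth.Agent.H58.CDL

variable {A : Type*} [CommRing A] {V W : Type*} [AddCommGroup V] [Module A V]
  [AddCommGroup W] [Module A W]

theorem idx_map_ker (π : V →ₗ[A] W) (P P' : Submodule A V) (h : P' ≤ P) :
    idx P P' = idx (P.map π) (P'.map π) +
      idx (P ⊓ LinearMap.ker π) (P' ⊓ LinearMap.ker π) := by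
  unfold idx
  have hc : (P' ⊓ LinearMap.ker π).submoduleOf (P ⊓ LinearMap.ker π) ≤
      (P'.submoduleOf P).comap
        (Submodule.inclusion (inf_le_left : P ⊓ LinearMap.ker π ≤ P)) := by
    intro x hx
    exact hx.1
  have hc' : P'.submoduleOf P ≤
      ((P'.map π).submoduleOf (P.map π)).comap (π.submoduleMap P) := by
    intro x hx
    exact ⟨x, hx, rfl⟩
  rw [add_comm]
  refine Module.length_eq_add_of_exact
    (Submodule.mapQ _ _ (Submodule.inclusion inf_le_left) hc)
    (Submodule.mapQ _ _ (π.submoduleMap P) hc') ?_ ?_ ?_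
  · rw [← LinearMap.ker_eq_bot, LinearMap.ker_eq_bot']
    intro x hx
    obtain ⟨x, rfl⟩ := Submodule.Quotient.mk_surjective _ x
    rw [Submodule.mapQ_apply, Submodule.Quotient.mk_eq_zero] at hx
    rw [Submodule.Quotient.mk_eq_zero]
    exact ⟨hx, x.2.2⟩
  · intro y
    obtain ⟨y, rfl⟩ := Submodule.Quotient.mk_surjective _ y
    obtain ⟨x, hx⟩ := LinearMap.submoduleMap_surjective π P y
    exact ⟨Submodule.Quotient.mk x, by rw [Submodule.mapQ_apply, hx]⟩
  · intro y
    obtain ⟨y, rfl⟩ := Submodule.Quotient.mk_surjective _ y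
    rw [Submodule.mapQ_apply, Submodule.Quotient.mk_eq_zero]
    constructor
    · intro hy
      have hy' : π (y : V) ∈ P'.map π := hy
      obtain ⟨x', hx', hxy⟩ := hy'
      have hker : (y : V) - x' ∈ P ⊓ LinearMap.ker π := by
        refine ⟨P.sub_mem y.2 (h hx'), ?_⟩
        show (y : V) - x' ∈ LinearMap.ker π
        rw [LinearMap.mem_ker, map_sub, hxy]
        exact sub_self _
      refine ⟨Submodule.Quotient.mk ⟨(y : V) - x', hker⟩, ?_⟩
      rw [Submodule.mapQ_apply, Submodule.Quotient.eq]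
      show ((y : V) - x') - (y : V) ∈ P'
      have : ((y : V) - x') - (y : V) = -x' := by abel
      rw [this]
      exact P'.neg_mem hx'
    · rintro ⟨z, hz⟩
      obtain ⟨z, rfl⟩ := Submodule.Quotient.mk_surjective _ z
      rw [Submodule.mapQ_apply, Submodule.Quotient.eq] at hz
      have hz' : (z : V) - (y : V) ∈ P' := hz
      show π (y : V) ∈ P'.map π
      refine ⟨(y : V) - z, ?_, ?_⟩
      · have := P'.neg_mem hz'
        rwa [neg_sub] at this
      · rw [map_sub, (LinearMap.mem_ker.mp z.2.2 : π (z : V) = 0), sub_zero]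

theorem idx_map_injective (ψ : V →ₗ[A] W) (hψ : Function.Injective ψ) (L P : Submodule A V) :
    idx (L.map ψ) (P.map ψ) = idx L P := by
  unfold idx
  have h : (P.submoduleOf L).map
      ((Submodule.equivMapOfInjective ψ hψ L : L ≃ₗ[A] L.map ψ) : L →ₗ[A] L.map ψ) =
      (P.map ψ).submoduleOf (L.map ψ) := by
    ext ⟨y, hy⟩
    constructor
    · rintro ⟨x, hx, hxy⟩
      have hx' : (x : V) ∈ P := hx
      show y ∈ P.map ψ
      have : ψ (x : V) = y := congrArg Subtype.val hxy
      exact ⟨x, hx', this⟩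
    · intro hy'
      have hy'' : y ∈ P.map ψ := hy'
      obtain ⟨x, hxN, hxy⟩ := hy''
      obtain ⟨l, hlL, hly⟩ := hy
      have hxl : x = l := hψ (hxy.trans hly.symm)
      refine ⟨⟨x, hxl ▸ hlL⟩, hxN, ?_⟩
      apply Subtype.ext
      exact hxy
  exact (Submodule.Quotient.equiv _ _ (Submodule.equivMapOfInjective ψ hψ L) h).length_eq.symm

theorem idx_top (P : Submodule A V) : idx ⊤ P = Module.length A (V ⧸ P) := by
  unfold idx
  have h : (P.submoduleOf ⊤).map
      ((Submodule.topEquiv : (⊤ : Submodule A V) ≃ₗ[A] V) : (⊤ : Submodule A V) →ₗ[A] V) = P := by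
    ext y
    constructor
    · rintro ⟨x, hx, rfl⟩
      exact hx
    · intro hy
      exact ⟨⟨y, trivial⟩, hy, rfl⟩
  exact (Submodule.Quotient.equiv _ _ Submodule.topEquiv h).length_eq

end Groth.Agent.H75.CDLP4
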