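import Groth.Agent.H58.CDL.Defs
import Groth.Agent.H46.LatMain

set_option autoImplicit false
universe u v

namespace Groth.Agent.H75.CDLP10

open CycDet IsLocalRing Groth.Agent.H46.CD Groth.Agent.H46.LatDist Groth.Agent.H58.CDL

variable {R : Type u} [CommRing R] [IsLocalRing R] (q : Ideal R) [q.IsPrime] {V : Type u}
  [AddCommGroup V] [Module R V] [Module (Localization.AtPrime q) V]
  [IsScalarTower R (Localization.AtPrime q) V] {l : ℕ}

theorem one_notMem : (1 : R) ∉ q :=
  fun h => (Ideal.ne_top_iff_one q).mp (Ideal.IsPrime.ne_top inferInstance) h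

theorem smul_mk'_smul (r : R) (t : q.primeCompl) (x : V) :
    (t : R) • (IsLocalization.mk' (Localization.AtPrime q) r t • x) = r • x := by
  rw [← smul_assoc]
  have h : (t : R) • IsLocalization.mk' (Localization.AtPrime q) r t =
      algebraMap R (Localization.AtPrime q) r := by
    rw [Algebra.smul_def, IsLocalization.mk'_spec']
  rw [h, algebraMap_smul]

theorem exists_smul_mem_span (T : Set V) (v : V)
    (hv : v ∈ Submodule.span (Localization.AtPrime q) T) :
    ∃ s : R, s ∉ q ∧ s • v ∈ Submodule.span R T := by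
  induction hv using Submodule.span_induction with
  | mem x hx =>
    exact ⟨1, one_notMem q, by rw [one_smul]; exact Submodule.subset_span hx⟩
  | zero =>
    exact ⟨1, one_notMem q, by rw [smul_zero]; exact Submodule.zero_mem _⟩
  | add x y _ _ hx hy =>
    obtain ⟨s, hs, hsx⟩ := hx
    obtain ⟨t, ht, hty⟩ := hy
    refine ⟨s * t, fun h => (Ideal.IsPrime.mem_or_mem inferInstance h).elim hs ht, ?_⟩
    rw [smul_add]
    apply Submodule.add_mem
    · rw [mul_comm, mul_smul]; exact Submodule.smul_mem _ _ hsx
    · rw [mul_smul]; exact Submodule.smul_mem _ _ hty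
  | smul a x _ hx =>
    obtain ⟨s, hs, hsx⟩ := hx
    obtain ⟨r, t, rfl⟩ := IsLocalization.exists_mk'_eq q.primeCompl a
    refine ⟨s * t, fun h => (Ideal.IsPrime.mem_or_mem inferInstance h).elim hs t.2, ?_⟩
    rw [mul_smul, smul_mk'_smul, smul_comm]
    exact Submodule.smul_mem _ _ hsx

theorem isAdmissible_of_goodR {y : Fin l → V} (hy : GoodR q y) :
    IsAdmissible (Localization.AtPrime q) V y := by
  intro i r hr
  obtain ⟨a, t, rfl⟩ := IsLocalization.exists_mk'_eq q.primeCompl r
  have ha : a ∈ q :=
    (IsLocalization.AtPrime.mk'_mem_maximal_iff (Localization.AtPrime q) q a t).mp hr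
  have h1 : a • y i ∈ spanBefore R V y i := (hy i a).mpr ha
  have h2 : a • y i ∈ spanBefore (Localization.AtPrime q) V y i :=
    Submodule.span_le_restrictScalars R (Localization.AtPrime q) _ h1
  have h3 : IsLocalization.mk' (Localization.AtPrime q) a t • y i =
      IsLocalization.mk' (Localization.AtPrime q) 1 t • (a • y i) := by
    rw [IsLocalization.mk'_eq_mul_mk'_one, mul_comm, mul_smul, algebraMap_smul]
  rw [h3]
  exact Submodule.smul_mem _ _ h2

theorem not_mem_spanBefore_of_goodR {y : Fin l → V} (hy : GoodR q y) (i : Fin l) :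
    y i ∉ spanBefore (Localization.AtPrime q) V y i := by
  intro h
  obtain ⟨s, hs, hsy⟩ := exists_smul_mem_span q _ _ h
  exact hs ((hy i s).mp hsy)

end Groth.Agent.H75.CDLP10
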