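import Groth.Agent.H58.CDL.Defs
import Groth.Agent.H46.LatMain
import Groth.Agent.S1852
import Groth.Agent.H75.CDL_P1
import Groth.Agent.H75.CDL_P4
import Groth.Agent.H75.CDL_P10

set_option autoImplicit false
universe u v

namespace Groth.Agent.H75.CDLP7

open CycDet IsLocalRing Groth.Agent.H46.CD Groth.Agent.H46.LatDist Groth.Agent.H58.CDL

variable {R : Type u} [CommRing R] [IsLocalRing R] (q : Ideal R) [q.IsPrime] {V : Type u}
  [AddCommGroup V] [Module R V] [Module (Localization.AtPrime q) V]
  [IsScalarTower R (Localization.AtPrime q) V] {l : ℕ}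

/-- the `R`-linear projection to the quotient by an `R_q`-submodule. -/
noncomputable abbrev pr (K : Submodule (Localization.AtPrime q) V) : V →ₗ[R] V ⧸ K :=
  K.mkQ.restrictScalars R

theorem pr_eq_zero (K : Submodule (Localization.AtPrime q) V) (v : V) :
    pr q K v = 0 ↔ v ∈ K := by
  show K.mkQ v = 0 ↔ v ∈ K
  rw [Submodule.mkQ_apply, Submodule.Quotient.mk_eq_zero]

theorem spanBefore_quotT (z : Fin (l + 1) → V) (K : Submodule (Localization.AtPrime q) V)
    (hz0 : z 0 ∈ K) (j : ℕ) :
    spanBefore R (V ⧸ K) (quotT z K) j = (spanBefore R V z (j + 1)).map (pr q K) := by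
  apply le_antisymm
  · apply spanBefore_le
    intro i hi
    refine ⟨z i.succ, mem_spanBefore z i.succ ?_, rfl⟩
    rw [Fin.val_succ]; omega
  · rw [Submodule.map_le_iff_le_comap]
    apply spanBefore_le
    intro i hi
    rw [Submodule.mem_comap]
    induction i using Fin.cases with
    | zero =>
      rw [(pr_eq_zero q K (z 0)).mpr hz0]
      exact Submodule.zero_mem _
    | succ i' =>
      rw [Fin.val_succ] at hi
      exact mem_spanBefore (quotT z K) i' (by omega)

theorem goodR_quotT {z : Fin (l + 1) → V} (hz : GoodR q z)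
    (K : Submodule (Localization.AtPrime q) V)
    (hK : K = Submodule.span (Localization.AtPrime q) {z 0}) : GoodR q (quotT z K) := by
  have hz0 : z 0 ∈ K := by rw [hK]; exact Submodule.mem_span_singleton_self _
  intro j r
  rw [spanBefore_quotT q z K hz0]
  have hjs : ((j.succ : Fin (l + 1)) : ℕ) = (j : ℕ) + 1 := Fin.val_succ j
  constructor
  · rintro ⟨w, hw, hwe⟩
    have h1 : r • z j.succ - w ∈ K := by
      rw [← pr_eq_zero q K, map_sub, map_smul, hwe]
      exact sub_self _
    rw [hK] at h1
    obtain ⟨σ, hσ⟩ := Submodule.mem_span_singleton.mp h1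
    obtain ⟨a, t, rfl⟩ := IsLocalization.exists_mk'_eq q.primeCompl σ
    have h2 : (t : R) • (r • z j.succ - w) = a • z 0 := by
      rw [← hσ, CDLP10.smul_mk'_smul]
    have h3 : ((t : R) * r) • z j.succ = (t : R) • w + a • z 0 := by
      rw [← h2, smul_sub, mul_smul]; abel
    have h4 : ((t : R) * r) • z j.succ ∈ spanBefore R V z ((j.succ : Fin (l + 1)) : ℕ) := by
      rw [h3, hjs]
      exact Submodule.add_mem _ (Submodule.smul_mem _ _ hw)
        (Submodule.smul_mem _ _ (mem_spanBefore z 0 (by simp)))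
    have h5 : (t : R) * r ∈ q := (hz j.succ _).mp h4
    exact (Ideal.IsPrime.mem_or_mem inferInstance h5).resolve_left t.2
  · intro hr
    have h1 : r • z j.succ ∈ spanBefore R V z ((j.succ : Fin (l + 1)) : ℕ) := (hz j.succ r).mpr hr
    rw [hjs] at h1
    exact ⟨r • z j.succ, h1, map_smul _ _ _⟩

theorem map_lat (z : Fin (l + 1) → V) (K : Submodule (Localization.AtPrime q) V)
    (hz0 : z 0 ∈ K) :
    (Submodule.span R (Set.range z)).map (pr q K) = Submodule.span R (Set.range (quotT z K)) := by
  rw [← spanBefore_eq_range, ← spanBefore_eq_range, spanBefore_quotT q z K hz0]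

theorem spanBefore_one_le (z : Fin (l + 1) → V) :
    spanBefore R V z 1 ≤ Submodule.span R {z 0} := by
  apply spanBefore_le
  intro j hj
  have : j = 0 := Fin.ext (by simpa using hj)
  rw [this]
  exact Submodule.mem_span_singleton_self _

theorem lat_inf_ker {z : Fin (l + 1) → V} (hz : GoodR q z)
    (K : Submodule (Localization.AtPrime q) V) (hz0 : z 0 ∈ K)
    (hK : K ≤ Submodule.span (Localization.AtPrime q) {z 0}) :
    Submodule.span R (Set.range z) ⊓ LinearMap.ker (pr q K) = Submodule.span R {z 0} := by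
  apply le_antisymm
  · rintro n ⟨hn, hnK⟩
    have hnK' : n ∈ K := (pr_eq_zero q K n).mp hnK
    obtain ⟨σ, hσ⟩ := Submodule.mem_span_singleton.mp (hK hnK')
    obtain ⟨b, t, rfl⟩ := IsLocalization.exists_mk'_eq q.primeCompl σ
    have h1 : (t : R) • n ∈ spanBefore R V z 1 := by
      rw [← hσ, CDLP10.smul_mk'_smul]
      exact Submodule.smul_mem _ _ (mem_spanBefore z 0 (by simp))
    exact spanBefore_one_le z (CDLP1.sat hz 1 n hn t t.2 h1)
  · rw [Submodule.span_le, Set.singleton_subset_iff]
    exact ⟨Submodule.subset_span ⟨0, rfl⟩, (pr_eq_zero q K (z 0)).mpr hz0⟩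

theorem spanBefore_zero (z : Fin (l + 1) → V) : spanBefore R V z 0 = ⊥ := by
  rw [eq_bot_iff]
  apply spanBefore_le
  intro j hj
  exact absurd hj (Nat.not_lt_zero _)

theorem idx_first {y : Fin (l + 1) → V} (hy : GoodR q y) (a : R) :
    idx (Submodule.span R {y 0}) (Submodule.span R {a • y 0}) =
      Module.length R (R ⧸ (q ⊔ Ideal.span {a})) := by
  have h0 : ∀ r : R, r • y 0 = 0 ↔ r ∈ q := by
    intro r
    have := hy 0 r
    rw [show (((0 : Fin (l + 1)) : ℕ)) = 0 from rfl, spanBefore_zero, Submodule.mem_bot] at this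
    exact this
  have hcol : ∀ r : R, r • y 0 ∈ Submodule.span R {a • y 0} ↔ r ∈ q ⊔ Ideal.span {a} := by
    intro r
    constructor
    · intro h
      obtain ⟨c, hc⟩ := Submodule.mem_span_singleton.mp h
      have h1 : (r - c * a) • y 0 = 0 := by
        rw [sub_smul, mul_smul, hc, sub_self]
      have h2 : r - c * a ∈ q := (h0 _).mp h1
      have h3 : r = (r - c * a) + c * a := by ring
      rw [h3]
      exact Submodule.add_mem_sup h2 (Ideal.mul_mem_left _ _ (Ideal.mem_span_singleton_self a))
    · intro h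
      obtain ⟨r₁, hr₁, r₂, hr₂, rfl⟩ := Submodule.mem_sup.mp h
      obtain ⟨c, rfl⟩ := Ideal.mem_span_singleton'.mp hr₂
      rw [add_smul, (h0 r₁).mpr hr₁, zero_add, mul_smul]
      exact Submodule.smul_mem _ _ (Submodule.mem_span_singleton_self _)
  obtain ⟨e⟩ := Groth.Agent.S1852.equiv_last (q ⊔ Ideal.span {a}) (Submodule.span R {a • y 0})
    (Submodule.span R {y 0}) (y 0) (Submodule.mem_span_singleton_self _) le_sup_right hcol
  exact e.length_eq

theorem idx_quotT (x y : Fin (l + 1) → V) (hx : GoodR q x) (hy : GoodR q y)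
    (hxy : Submodule.span R (Set.range x) ≤ Submodule.span R (Set.range y)) (a : R) (ha : a ∉ q)
    (hxa : x 0 = a • y 0) :
    idx (Submodule.span R (Set.range y)) (Submodule.span R (Set.range x)) =
      idx (Submodule.span R (Set.range (quotT y (Submodule.span (Localization.AtPrime q) {y 0}))))
        (Submodule.span R (Set.range (quotT x (Submodule.span (Localization.AtPrime q) {y 0})))) +
      Module.length R (R ⧸ (q ⊔ Ideal.span {a})) := by
  have hy0 : y 0 ∈ Submodule.span (Localization.AtPrime q) {y 0} :=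
    Submodule.mem_span_singleton_self _
  have hx0 : x 0 ∈ Submodule.span (Localization.AtPrime q) {y 0} := by
    rw [hxa, ← algebraMap_smul (Localization.AtPrime q) a (y 0)]
    exact Submodule.smul_mem _ _ hy0
  have hKx : Submodule.span (Localization.AtPrime q) {y 0} ≤
      Submodule.span (Localization.AtPrime q) {x 0} := by
    rw [Submodule.span_le, Set.singleton_subset_iff, SetLike.mem_coe]
    have h1 : y 0 = IsLocalization.mk' (Localization.AtPrime q) 1 (⟨a, ha⟩ : q.primeCompl) • x 0 := by
      rw [hxa, smul_comm]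
      have := CDLP10.smul_mk'_smul q 1 (⟨a, ha⟩ : q.primeCompl) (y 0)
      rw [one_smul] at this
      exact this.symm
    rw [h1]
    exact Submodule.smul_mem _ _ (Submodule.mem_span_singleton_self _)
  have h1 := CDLP4.idx_map_ker (pr q (Submodule.span (Localization.AtPrime q) {y 0}))
    (Submodule.span R (Set.range y)) (Submodule.span R (Set.range x)) hxy
  rw [map_lat q y _ hy0, map_lat q x _ hx0, lat_inf_ker q hy _ hy0 le_rfl,
    lat_inf_ker q hx _ hx0 hKx, hxa, idx_first q hy a] at h1
  exact h1

end Groth.Agent.H75.CDLP7
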