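import Mathlib

/-!
# (K1) for the S16668 squad: height of a prime modulo a regular sequence

For a regular sequence `rs` in a Noetherian ring and a prime `x ⊇ (rs)` with
`ht (rs) + 2 ≤ ht x`, the image of `x` in `A ⧸ (rs)` has height at least `2`.
-/

set_option autoImplicit false

universe u

open RingTheory.Sequence

namespace Groth.Agent.H75.PowSec_K1

/-- Any prime containing the first `i` members of a weakly regular sequence has height `≥ i`. -/
theorem le_height_of_take_le {A : Type u} [CommRing A] (rs : List A)
    (hrs : IsWeaklyRegular A rs) :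
    ∀ (i : ℕ), i ≤ rs.length → ∀ (p : Ideal A) [p.IsPrime],
      Ideal.ofList (rs.take i) ≤ p → (i : ℕ∞) ≤ p.height := by
  intro i
  induction i with
  | zero => intro _ p _ _; simp
  | succ i ih =>
    intro hi p _ hp
    have hi' : i < rs.length := hi
    rw [List.take_succ_eq_append_getElem hi', Ideal.ofList_append, Ideal.ofList_singleton,
      sup_le_iff, Ideal.span_singleton_le_iff_mem] at hp
    obtain ⟨hIp, hmem⟩ := hp
    obtain ⟨q, hq, hqp⟩ := Ideal.exists_minimalPrimes_le hIp
    haveI : q.IsPrime := hq.1.1
    have hIq : Ideal.ofList (rs.take i) ≤ q := hq.1.2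
    have hih : (i : ℕ∞) ≤ q.height := ih hi'.le q hIq
    have hreg := hrs.regular_mod_prev i hi'
    have hann : Module.annihilator A (A ⧸ (Ideal.ofList (rs.take i) • ⊤ : Submodule A A)) =
        Ideal.ofList (rs.take i) := by
      have h1 : (Ideal.ofList (rs.take i) • ⊤ : Submodule A A) = Ideal.ofList (rs.take i) := by
        simp
      rw [h1]
      exact Ideal.annihilator_quotient
    have hnot : rs[i] ∉ q := by
      apply IsSMulRegular.notMem_of_mem_minimalPrimes hreg
      rw [hann]
      exact hq
    have hlt : q < p := lt_of_le_of_ne hqp (fun h => hnot (h ▸ hmem))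
    have h2 := Ideal.height_add_one_le_of_lt_of_isPrime hlt
    calc ((i + 1 : ℕ) : ℕ∞) = (i : ℕ∞) + 1 := by push_cast; rfl
      _ ≤ q.height + 1 := by gcongr
      _ ≤ p.height := h2

/-- The ideal generated by a weakly regular sequence has height at least its length. -/
theorem length_le_height {A : Type u} [CommRing A] (rs : List A)
    (hrs : IsWeaklyRegular A rs) : (rs.length : ℕ∞) ≤ (Ideal.ofList rs).height := by
  rw [Ideal.height_eq_inf_minimalPrimes]
  refine le_iInf₂ fun q hq => ?_
  haveI : q.IsPrime := hq.1.1
  apply le_height_of_take_le rs hrs rs.length le_rfl q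
  rw [List.take_length]
  exact hq.1.2

theorem spanFinrank_ofList_le {A : Type u} [CommRing A] (rs : List A) :
    (Ideal.ofList rs).spanFinrank ≤ rs.length := by
  classical
  have hfin : {r | r ∈ rs}.Finite := List.finite_toSet rs
  refine (Submodule.spanFinrank_span_le_ncard_of_finite hfin).trans ?_
  have : {r | r ∈ rs} = (↑rs.toFinset : Set A) := by
    ext r; simp
  rw [this, Set.ncard_coe_finset]
  exact List.toFinset_card_le rs

theorem two_le_height_map {A : Type u} [CommRing A] [IsNoetherianRing A] (rs : List A)
    (hrs : IsRegular A rs) (x : Ideal A) [x.IsPrime] (hpx : Ideal.ofList rs ≤ x)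
    (h : (Ideal.ofList rs).height + 2 ≤ x.height) :
    2 ≤ (x.map (Ideal.Quotient.mk (Ideal.ofList rs))).height := by
  have h1 := Ideal.height_le_height_add_spanFinrank_of_le hpx
  have h2 : ((Ideal.ofList rs).spanFinrank : ℕ∞) ≤ (rs.length : ℕ∞) := by
    exact_mod_cast spanFinrank_ofList_le rs
  have h3 := length_le_height rs hrs.toIsWeaklyRegular
  have hne : Ideal.ofList rs ≠ ⊤ := fun htop =>
    (‹x.IsPrime›.ne_top) (top_le_iff.mp (htop ▸ hpx))
  have hfin : (Ideal.ofList rs).height ≠ ⊤ := Ideal.height_ne_top hne
  have h4 : (Ideal.ofList rs).height + 2 ≤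
      (x.map (Ideal.Quotient.mk (Ideal.ofList rs))).height + (Ideal.ofList rs).height :=
    calc (Ideal.ofList rs).height + 2 ≤ x.height := h
      _ ≤ (x.map (Ideal.Quotient.mk (Ideal.ofList rs))).height +
            ((Ideal.ofList rs).spanFinrank : ℕ∞) := h1
      _ ≤ (x.map (Ideal.Quotient.mk (Ideal.ofList rs))).height + (Ideal.ofList rs).height := by
          gcongr
          exact h2.trans h3
  rw [add_comm] at h4
  exact (ENat.add_le_add_iff_right hfin).mp h4

end Groth.Agent.H75.PowSec_K1
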