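import Mathlib
set_option autoImplicit false
universe u
open CategoryTheory CategoryTheory.Limits AlgebraicGeometry MonoidalCategory CartesianMonoidalCategory
open scoped TensorProduct

namespace Groth.Agent.H75.ArtinResidueRU

open IsLocalRing

attribute [local instance] Algebra.TensorProduct.rightAlgebra

/-- ring level: unramifiedness can be tested on the closed fibre over a local artinian ring. -/
theorem formallyUnramified_of_tensor_residue {A B : Type u} [CommRing A] [IsArtinianRing A]
    [IsLocalRing A] [CommRing B] [Algebra A B]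
    (h : Algebra.FormallyUnramified (ResidueField A) (ResidueField A ⊗[A] B)) :
    Algebra.FormallyUnramified A B := by
  constructor
  have e := KaehlerDifferential.tensorKaehlerEquivBase A (ResidueField A) B (ResidueField A ⊗[A] B)
  haveI : Subsingleton (ResidueField A ⊗[A] Ω[B⁄A]) := e.toEquiv.subsingleton
  have e2 := TensorProduct.quotTensorEquivQuotSMul Ω[B⁄A] (maximalIdeal A)
  haveI : Subsingleton ((A ⧸ maximalIdeal A) ⊗[A] Ω[B⁄A]) :=
    ‹Subsingleton (ResidueField A ⊗[A] Ω[B⁄A])›
  haveI : Subsingleton (Ω[B⁄A] ⧸ (maximalIdeal A • ⊤ : Submodule A Ω[B⁄A])) :=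
    e2.symm.toEquiv.subsingleton
  have htop : (maximalIdeal A • ⊤ : Submodule A Ω[B⁄A]) = ⊤ :=
    Submodule.Quotient.subsingleton_iff.mp inferInstance
  obtain ⟨n, hn⟩ := IsArtinianRing.isNilpotent_jacobson_bot (R := A)
  rw [IsLocalRing.jacobson_eq_maximalIdeal ⊥ bot_ne_top] at hn
  have hpow : ∀ k : ℕ, ((maximalIdeal A) ^ k • ⊤ : Submodule A Ω[B⁄A]) = ⊤ := by
    intro k
    induction k with
    | zero => rw [pow_zero, Ideal.one_eq_top, Submodule.top_smul]
    | succ k ih => rw [pow_succ, Submodule.mul_smul, htop, ih]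
  have h0 := hpow n
  rw [hn, Ideal.zero_eq_bot, Submodule.bot_smul] at h0
  exact (Submodule.subsingleton_iff A).mp (subsingleton_of_bot_eq_top h0)

/-- base change of an open immersion into the source. -/
theorem bc {X S T Y : Scheme.{u}} (f : X ⟶ S) (ι : T ⟶ S) (j : Y ⟶ X) [IsOpenImmersion j]
    (h : FormallyUnramified (pullback.snd f ι)) : FormallyUnramified (pullback.snd (j ≫ f) ι) := by
  have h1 : FormallyUnramified (pullback.snd j (pullback.fst f ι) ≫ pullback.snd f ι) :=
    IsZariskiLocalAtSource.comp (P := @FormallyUnramified) h _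
  rw [← pullbackRightPullbackFstIso_hom_snd] at h1
  exact (MorphismProperty.cancel_left_of_respectsIso @FormallyUnramified _ _).mp h1

/-- affine case. -/
theorem aff (A B : Type u) [CommRing A] [IsArtinianRing A] [IsLocalRing A] [CommRing B]
    [Algebra A B]
    (h : FormallyUnramified (pullback.snd (Spec.map (CommRingCat.ofHom (algebraMap A B)))
      (Spec.map (CommRingCat.ofHom (IsLocalRing.residue A))))) :
    FormallyUnramified (Spec.map (CommRingCat.ofHom (algebraMap A B))) := by
  have h1 : FormallyUnramified (pullback.fst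
      (Spec.map (CommRingCat.ofHom (algebraMap A (ResidueField A))))
      (Spec.map (CommRingCat.ofHom (algebraMap A B)))) := by
    rw [← pullbackSymmetry_hom_comp_snd]
    exact (MorphismProperty.cancel_left_of_respectsIso @FormallyUnramified _ _).mpr h
  have h2 : FormallyUnramified (Spec.map (CommRingCat.ofHom
      (algebraMap (ResidueField A) (ResidueField A ⊗[A] B)))) := by
    rw [← pullbackSpecIso_inv_fst' A (ResidueField A) B]
    exact (MorphismProperty.cancel_left_of_respectsIso @FormallyUnramified _ _).mpr h1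
  rw [HasRingHomProperty.Spec_iff (P := @FormallyUnramified), CommRingCat.hom_ofHom,
    RingHom.formallyUnramified_algebraMap] at h2 ⊢
  exact formallyUnramified_of_tensor_residue h2

theorem formallyUnramified_of_residue {A : Type u} [CommRing A] [IsArtinianRing A] [IsLocalRing A]
    {X : Scheme.{u}} (f : X ⟶ Spec (CommRingCat.of A))
    (h : FormallyUnramified
      (pullback.snd f (Spec.map (CommRingCat.ofHom (IsLocalRing.residue A))))) :
    FormallyUnramified f := by
  rw [IsZariskiLocalAtSource.iff_of_openCover (P := @FormallyUnramified) X.affineCover]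
  intro i
  let e := (X.affineCover.X i).isoSpec
  let j : Spec Γ(X.affineCover.X i, ⊤) ⟶ X := e.inv ≫ X.affineCover.f i
  have hfac : X.affineCover.f i ≫ f = e.hom ≫ (j ≫ f) := by simp [j]
  rw [hfac, MorphismProperty.cancel_left_of_respectsIso (P := @FormallyUnramified)]
  obtain ⟨φ, hφ⟩ : ∃ φ : CommRingCat.of A ⟶ Γ(X.affineCover.X i, ⊤), Spec.map φ = j ≫ f :=
    ⟨Spec.preimage (j ≫ f), Spec.map_preimage _⟩
  have hbc : FormallyUnramified (pullback.snd (j ≫ f)
      (Spec.map (CommRingCat.ofHom (IsLocalRing.residue A)))) := bc f _ j h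
  rw [← hφ] at hbc ⊢
  letI := φ.hom.toAlgebra
  exact aff A Γ(X.affineCover.X i, ⊤) hbc

end Groth.Agent.H75.ArtinResidueRU
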