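import Mathlib

/-! (CH) for helper74's S14484 squad: Chevalley + irreducibility. -/

set_option autoImplicit false
universe u
open CategoryTheory CategoryTheory.Limits AlgebraicGeometry
open Topology TopologicalSpace

namespace Groth.Agent.H75.WI_CH

/-- A constructible set is, near any point `η` and inside `closure {η}`, either everything or
nothing. -/
theorem aux {T : Type*} [TopologicalSpace T] {s : Set T} (hs : IsConstructible s) :
    ∀ η : T, ∃ V : Set T, IsOpen V ∧ η ∈ V ∧
      (V ∩ closure {η} ⊆ s ∨ V ∩ closure {η} ⊆ sᶜ) := by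
  induction hs using IsConstructible.empty_union_induction with
  | open_retrocompact U hUo _ =>
    intro η
    by_cases hη : η ∈ U
    · exact ⟨U, hUo, hη, Or.inl Set.inter_subset_left⟩
    · refine ⟨Set.univ, isOpen_univ, Set.mem_univ _, Or.inr ?_⟩
      rintro x ⟨-, hx⟩ hxU
      apply hη
      obtain ⟨y, hyU, hy⟩ := mem_closure_iff.mp hx U hUo hxU
      rw [Set.mem_singleton_iff.mp hy] at hyU
      exact hyU
  | union s hs t ht ihs iht =>
    intro η
    obtain ⟨V, hVo, hηV, hV⟩ := ihs η
    obtain ⟨W, hWo, hηW, hW⟩ := iht η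
    rcases hV with hV | hV
    · exact ⟨V, hVo, hηV, Or.inl (hV.trans Set.subset_union_left)⟩
    · rcases hW with hW | hW
      · exact ⟨W, hWo, hηW, Or.inl (hW.trans Set.subset_union_right)⟩
      · refine ⟨V ∩ W, hVo.inter hWo, ⟨hηV, hηW⟩, Or.inr ?_⟩
        rintro x ⟨⟨hxV, hxW⟩, hx⟩ hxst
        rcases hxst with hxs | hxt
        · exact hV ⟨hxV, hx⟩ hxs
        · exact hW ⟨hxW, hx⟩ hxt
  | compl s hs ih =>
    intro η
    obtain ⟨V, hVo, hηV, hV⟩ := ih η
    refine ⟨V, hVo, hηV, ?_⟩
    rcases hV with hV | hV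
    · exact Or.inr (by rwa [compl_compl])
    · exact Or.inl hV

variable (k : Type u) [Field k]

/-- (CH) Chevalley + irreducibility -/
theorem exists_open_inter_subset {X S : Scheme.{u}} (q : S ⟶ Spec (CommRingCat.of k)) (f : X ⟶ S)
    [LocallyOfFiniteType q] [CompactSpace S] [LocallyOfFiniteType f] [CompactSpace X]
    (Y Z : Set X) (hYc : IsClosed Y) (hYi : IsIrreducible Y) (hZc : IsClosed Z)
    (h : f.base '' Y ⊆ closure (f.base '' Y ∩ f.base '' Z)) :
    ∃ U : Set X, IsOpen U ∧ (U ∩ Y).Nonempty ∧ U ∩ Y ⊆ f.base ⁻¹' (f.base '' Z) := by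
  have : IsLocallyNoetherian S := LocallyOfFiniteType.isLocallyNoetherian q
  have : IsNoetherian S := ⟨⟩
  have : IsLocallyNoetherian X := LocallyOfFiniteType.isLocallyNoetherian f
  have : IsNoetherian X := ⟨⟩
  have hclosed : ∀ W : Set X, IsClosed W → IsConstructible W := by
    intro W hW
    have h1 : IsConstructible Wᶜ :=
      IsRetrocompact.isConstructible hW.isOpen_compl (fun V _ _ => NoetherianSpace.isCompact _)
    simpa using h1.compl
  have hfY : IsConstructible (f.base '' Y) := f.isConstructible_image (hclosed Y hYc)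
  have hfZ : IsConstructible (f.base '' Z) := f.isConstructible_image (hclosed Z hZc)
  have hC := hfY.inter hfZ
  have hTi : IsIrreducible (closure (f.base '' Y)) :=
    (hYi.image f.base f.continuous.continuousOn).closure
  obtain ⟨η, hη⟩ := QuasiSober.sober hTi isClosed_closure
  have hηdef : closure {η} = closure (f.base '' Y) := hη
  obtain ⟨V, hVo, hηV, hV⟩ := aux hC η
  have hsub : f.base '' Y ⊆ closure {η} := by rw [hηdef]; exact subset_closure
  rcases hV with hV | hV
  · refine ⟨f.base ⁻¹' V, hVo.preimage f.continuous, ?_, ?_⟩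
    · have hηC : η ∈ f.base '' Y ∩ f.base '' Z := hV ⟨hηV, subset_closure rfl⟩
      obtain ⟨y, hyY, hy⟩ := hηC.1
      refine ⟨y, ?_, hyY⟩
      change f.base y ∈ V
      rw [hy]; exact hηV
    · rintro x ⟨hxV, hxY⟩
      exact (hV ⟨hxV, hsub ⟨x, hxY, rfl⟩⟩).2
  · exfalso
    have hηT : η ∈ closure (f.base '' Y) := hηdef ▸ subset_closure (Set.mem_singleton η)
    have hηcl : η ∈ closure (f.base '' Y ∩ f.base '' Z) :=
      closure_minimal h isClosed_closure hηT
    obtain ⟨c, hcV, hcC⟩ := mem_closure_iff.mp hηcl V hVo hηV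
    exact hV ⟨hcV, hsub hcC.1⟩ hcC

end Groth.Agent.H75.WI_CH
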