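/-
Helper library (helper75): codimension bookkeeping for subspaces of a product of power series
rings, used for the branch-length statements S15148 and S15149.  No milestone is proved here.
-/
import Mathlib.RingTheory.PowerSeries.Basic
import Mathlib.RingTheory.PowerSeries.Order
import Mathlib.RingTheory.PowerSeries.Inverse
import Mathlib.LinearAlgebra.FiniteDimensional.Lemmas
import Mathlib.LinearAlgebra.FiniteDimensional.Basic
import Mathlib.LinearAlgebra.Dimension.Constructions
import Mathlib.LinearAlgebra.Dimension.Free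
import Mathlib.LinearAlgebra.Isomorphisms
import Mathlib.LinearAlgebra.Quotient.Basic
import Mathlib.Algebra.Algebra.Subalgebra.Basic
import Mathlib.RingTheory.Ideal.Operations
import Mathlib.RingTheory.Ideal.Maps
import Mathlib.RingTheory.Finiteness.Finsupp
import Mathlib.Tactic.Abel

set_option autoImplicit false
universe u

noncomputable section

namespace Groth.Agent.H75.Branches

open PowerSeries

section general

variable {k : Type u} [Field k] {V : Type*} [AddCommGroup V] [Module k V]

lemma finite_quot_of_le {N N' : Submodule k V} (h : N ≤ N') (hN : Module.Finite k (V ⧸ N)) :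
    Module.Finite k (V ⧸ N') :=
  Module.Finite.of_surjective (Submodule.factor h) (Submodule.factor_surjective h)

lemma finrank_quot_le_of_le {N N' : Submodule k V} (h : N ≤ N') (hN : Module.Finite k (V ⧸ N)) :
    Module.finrank k (V ⧸ N') ≤ Module.finrank k (V ⧸ N) := by
  have h1 := LinearMap.finrank_range_le (Submodule.factor h)
  rw [LinearMap.range_eq_top.mpr (Submodule.factor_surjective h), finrank_top] at h1
  exact h1

lemma finrank_quot_lt_of_lt {N N' : Submodule k V} (h : N ≤ N') (hN : Module.Finite k (V ⧸ N))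
    {x : V} (hx : x ∈ N') (hx' : x ∉ N) :
    Module.finrank k (V ⧸ N') < Module.finrank k (V ⧸ N) := by
  have h1 := LinearMap.finrank_range_add_finrank_ker (Submodule.factor h)
  rw [LinearMap.range_eq_top.mpr (Submodule.factor_surjective h), finrank_top] at h1
  have hne : LinearMap.ker (Submodule.factor h) ≠ ⊥ := by
    intro hbot
    have hmem : N.mkQ x ∈ LinearMap.ker (Submodule.factor h) := by
      rw [LinearMap.mem_ker, Submodule.factor_mk, Submodule.mkQ_apply,
        Submodule.Quotient.mk_eq_zero]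
      exact hx
    rw [hbot, Submodule.mem_bot, Submodule.mkQ_apply, Submodule.Quotient.mk_eq_zero] at hmem
    exact hx' hmem
  have hpos : 0 < Module.finrank k (LinearMap.ker (Submodule.factor h)) :=
    Nat.pos_of_ne_zero fun h0 => hne (Submodule.finrank_eq_zero.mp h0)
  omega

end general

section subalgebra

variable {k : Type u} [Field k] {Ω : Type*} [CommRing Ω] [Algebra k Ω] (R : Subalgebra k Ω)
  (I : Ideal R)

/-- the image of an ideal of `R` in the ambient algebra, as a `k`-subspace -/
def imO : Submodule k Ω := Submodule.map R.val.toLinearMap (I.restrictScalars k)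

lemma mem_imO {x : Ω} : x ∈ imO R I ↔ ∃ y ∈ I, (y : Ω) = x := by
  constructor
  · rintro ⟨y, hy, rfl⟩
    exact ⟨y, hy, rfl⟩
  · rintro ⟨y, hy, rfl⟩
    exact ⟨y, hy, rfl⟩

lemma imO_le : imO R I ≤ Subalgebra.toSubmodule R := by
  intro x hx
  obtain ⟨y, _, rfl⟩ := (mem_imO R I).mp hx
  exact y.2

/-- the natural map `R → Ω / I` -/
def Psi : R →ₗ[k] Ω ⧸ imO R I := (imO R I).mkQ ∘ₗ R.val.toLinearMap

lemma ker_Psi : LinearMap.ker (Psi R I) = I.restrictScalars k := by
  ext x
  rw [LinearMap.mem_ker, Submodule.restrictScalars_mem]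
  change (Submodule.Quotient.mk (x : Ω) : Ω ⧸ imO R I) = 0 ↔ x ∈ I
  rw [Submodule.Quotient.mk_eq_zero, mem_imO]
  constructor
  · rintro ⟨y, hy, hyx⟩
    rwa [← Subtype.ext hyx]
  · intro hx
    exact ⟨x, hx, rfl⟩

lemma range_Psi :
    LinearMap.range (Psi R I) = (Subalgebra.toSubmodule R).map (imO R I).mkQ := by
  rw [Psi, LinearMap.range_comp]
  congr 1
  ext x
  constructor
  · rintro ⟨y, rfl⟩
    exact y.2
  · intro hx
    exact ⟨⟨x, hx⟩, rfl⟩

/-- the projection `Ω / I → Ω / R` -/
def proj : Ω ⧸ imO R I →ₗ[k] Ω ⧸ Subalgebra.toSubmodule R := Submodule.factor (imO_le R I)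

lemma proj_surjective : Function.Surjective (proj R I) :=
  Submodule.factor_surjective (imO_le R I)

lemma ker_proj : LinearMap.ker (proj R I) = LinearMap.range (Psi R I) := by
  rw [range_Psi]
  ext v
  obtain ⟨x, rfl⟩ := Submodule.Quotient.mk_surjective _ v
  rw [LinearMap.mem_ker]
  change Submodule.factor (imO_le R I) ((imO R I).mkQ x) = 0 ↔ _
  rw [Submodule.factor_mk, Submodule.mkQ_apply, Submodule.Quotient.mk_eq_zero, Submodule.mem_map]
  constructor
  · intro hx
    exact ⟨x, hx, rfl⟩
  · rintro ⟨y, hy, hyx⟩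
    have h1 : y - x ∈ imO R I := (Submodule.Quotient.eq _).mp hyx
    have h2 := imO_le R I h1
    have h3 : x = y - (y - x) := by abel
    rw [h3]
    exact Submodule.sub_mem _ hy h2

/-- `R ⧸ I` embeds `k`-linearly into `Ω ⧸ I`. -/
def emb : (R ⧸ I.restrictScalars k) →ₗ[k] Ω ⧸ imO R I :=
  (I.restrictScalars k).liftQ (Psi R I) (le_of_eq (ker_Psi R I).symm)

lemma emb_injective : Function.Injective (emb R I) := by
  rw [← LinearMap.ker_eq_bot]
  exact Submodule.ker_liftQ_eq_bot _ _ _ (le_of_eq (ker_Psi R I))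

lemma range_emb : LinearMap.range (emb R I) = LinearMap.range (Psi R I) :=
  Submodule.range_liftQ _ _ _

theorem finite_quot_imO (hR : Module.Finite k (Ω ⧸ Subalgebra.toSubmodule R))
    (hI : Module.Finite k (R ⧸ I)) : Module.Finite k (Ω ⧸ imO R I) := by
  have h0 : Module.Finite k (R ⧸ I.restrictScalars k) :=
    Module.Finite.equiv (Submodule.Quotient.restrictScalarsEquiv k I).symm
  have h1 : Module.Finite k (LinearMap.ker (proj R I)) := by
    rw [ker_proj, ← range_emb]
    exact Module.Finite.range (emb R I)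
  have h2 : Module.Finite k ((Ω ⧸ imO R I) ⧸ LinearMap.ker (proj R I)) :=
    Module.Finite.equiv ((proj R I).quotKerEquivOfSurjective (proj_surjective R I)).symm
  exact Module.Finite.of_submodule_quotient (LinearMap.ker (proj R I))

theorem finite_quot_of_finite_imO (hI : Module.Finite k (Ω ⧸ imO R I)) :
    Module.Finite k (R ⧸ I) := by
  have h0 : Module.Finite k (R ⧸ I.restrictScalars k) :=
    Module.Finite.of_injective (emb R I) (emb_injective R I)
  exact Module.Finite.equiv (Submodule.Quotient.restrictScalarsEquiv k I)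

theorem finrank_quot_imO (hI : Module.Finite k (Ω ⧸ imO R I)) :
    Module.finrank k (Ω ⧸ imO R I) =
      Module.finrank k (R ⧸ I) + Module.finrank k (Ω ⧸ Subalgebra.toSubmodule R) := by
  have h1 := Submodule.finrank_quotient_add_finrank (LinearMap.ker (proj R I))
  have h2 : Module.finrank k ((Ω ⧸ imO R I) ⧸ LinearMap.ker (proj R I)) =
      Module.finrank k (Ω ⧸ Subalgebra.toSubmodule R) :=
    LinearEquiv.finrank_eq ((proj R I).quotKerEquivOfSurjective (proj_surjective R I))
  have h3 : Module.finrank k (LinearMap.ker (proj R I)) = Module.finrank k (R ⧸ I) := by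
    rw [ker_proj, ← range_emb,
      ← LinearEquiv.finrank_eq (LinearEquiv.ofInjective (emb R I) (emb_injective R I))]
    exact LinearEquiv.finrank_eq (Submodule.Quotient.restrictScalarsEquiv k I)
  omega

end subalgebra

section branches

variable {k : Type u} [Field k] {s : ℕ}

/-- truncation of the coefficients below `e i` on the branch `i` -/
def trunc (e : Fin s → ℕ) : (Fin s → PowerSeries k) →ₗ[k] ((i : Fin s) → Fin (e i) → k) where
  toFun f i l := coeff (l : ℕ) (f i)
  map_add' f g := by funext i l; simp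
  map_smul' r f := by funext i l; simp

lemma trunc_surjective (e : Fin s → ℕ) : Function.Surjective (trunc (k := k) e) := by
  intro τ
  refine ⟨fun i => PowerSeries.mk fun n => if h : n < e i then τ i ⟨n, h⟩ else 0, ?_⟩
  funext i l
  change coeff (l : ℕ) (PowerSeries.mk fun n => if h : n < e i then τ i ⟨n, h⟩ else 0) = τ i l
  rw [coeff_mk, dif_pos l.2]

/-- tuples divisible by `X ^ e i` on the branch `i` -/
def aa (e : Fin s → ℕ) : Submodule k (Fin s → PowerSeries k) := LinearMap.ker (trunc e)

lemma mem_aa {e : Fin s → ℕ} {f : Fin s → PowerSeries k} :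
    f ∈ aa e ↔ ∀ i, (X : PowerSeries k) ^ e i ∣ f i := by
  constructor
  · intro h i
    rw [X_pow_dvd_iff]
    intro m hm
    have h1 : trunc e f = 0 := h
    exact congrFun (congrFun h1 i) ⟨m, hm⟩
  · intro h
    change trunc e f = 0
    funext i l
    exact (X_pow_dvd_iff.mp (h i)) l l.2

lemma finite_quot_aa (e : Fin s → ℕ) :
    Module.Finite k ((Fin s → PowerSeries k) ⧸ aa (k := k) e) := by
  change Module.Finite k ((Fin s → PowerSeries k) ⧸ LinearMap.ker (trunc (k := k) e))
  exact Module.Finite.equiv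
    ((trunc (k := k) e).quotKerEquivOfSurjective (trunc_surjective e)).symm

lemma finrank_quot_aa (e : Fin s → ℕ) :
    Module.finrank k ((Fin s → PowerSeries k) ⧸ aa (k := k) e) = ∑ i, e i := by
  change Module.finrank k ((Fin s → PowerSeries k) ⧸ LinearMap.ker (trunc (k := k) e)) = _
  refine (LinearEquiv.finrank_eq
    ((trunc (k := k) e).quotKerEquivOfSurjective (trunc_surjective e))).trans ?_
  rw [Module.finrank_pi_fintype]
  simp

variable (j : Fin s)

/-- multiplication by `ξ = (1, …, X, …, 1)` -/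
def Xi : (Fin s → PowerSeries k) →ₗ[k] (Fin s → PowerSeries k) :=
  LinearMap.mulLeft k (Pi.mulSingle j (X : PowerSeries k))

lemma Xi_apply (f : Fin s → PowerSeries k) : Xi j f = Pi.mulSingle j X * f := rfl

lemma Xi_apply_same (f : Fin s → PowerSeries k) : Xi j f j = X * f j := by
  rw [Xi_apply, Pi.mul_apply, Pi.mulSingle_eq_same]

lemma Xi_apply_ne (f : Fin s → PowerSeries k) {i : Fin s} (h : i ≠ j) : Xi j f i = f i := by
  rw [Xi_apply, Pi.mul_apply, Pi.mulSingle_eq_of_ne h, one_mul]

/-- shift of a power series -/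
def shift : PowerSeries k →ₗ[k] PowerSeries k where
  toFun φ := PowerSeries.mk fun n => coeff (n + 1) φ
  map_add' φ ψ := by ext n; simp
  map_smul' r φ := by ext n; simp

lemma shift_apply (φ : PowerSeries k) : shift φ = PowerSeries.mk fun n => coeff (n + 1) φ := rfl

lemma shift_X_mul (φ : PowerSeries k) : shift (X * φ) = φ := by
  ext n
  rw [shift_apply, coeff_mk, coeff_succ_X_mul]

lemma X_mul_shift (φ : PowerSeries k) : X * shift φ + C (constantCoeff φ) = φ :=
  (eq_X_mul_shift_add_const φ).symm

lemma shift_one : shift (1 : PowerSeries k) = 0 := by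
  ext n
  rw [shift_apply, coeff_mk, coeff_one, if_neg (Nat.succ_ne_zero n), map_zero]

/-- division by `ξ` -/
def Dv : (Fin s → PowerSeries k) →ₗ[k] (Fin s → PowerSeries k) where
  toFun g i := if i = j then shift (g j) else g i
  map_add' f g := by funext i; by_cases h : i = j <;> simp [h]
  map_smul' r f := by funext i; by_cases h : i = j <;> simp [h]

lemma Dv_apply_same (g : Fin s → PowerSeries k) : Dv j g j = shift (g j) := if_pos rfl

lemma Dv_apply_ne (g : Fin s → PowerSeries k) {i : Fin s} (h : i ≠ j) : Dv j g i = g i := if_neg h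

lemma Dv_Xi (f : Fin s → PowerSeries k) : Dv j (Xi j f) = f := by
  funext i
  by_cases h : i = j
  · rw [h, Dv_apply_same, Xi_apply_same, shift_X_mul]
  · rw [Dv_apply_ne j _ h, Xi_apply_ne j f h]

/-- the `j`-th idempotent -/
def ej : Fin s → PowerSeries k := Pi.single j 1

lemma ej_same : ej (k := k) j j = 1 := Pi.single_eq_same j 1

lemma ej_ne {i : Fin s} (h : i ≠ j) : ej (k := k) j i = 0 := Pi.single_eq_of_ne h 1

/-- constant coefficient of the `j`-th component -/
def kap : (Fin s → PowerSeries k) →ₗ[k] k :=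
  (coeff 0 : PowerSeries k →ₗ[k] k) ∘ₗ LinearMap.proj j

lemma kap_apply (g : Fin s → PowerSeries k) : kap j g = constantCoeff (g j) := by
  change coeff 0 (g j) = constantCoeff (g j)
  rw [coeff_zero_eq_constantCoeff]

lemma Xi_Dv (g : Fin s → PowerSeries k) :
    Xi j (Dv j g) + kap j g • ej j = g := by
  funext i
  by_cases h : i = j
  · rw [h, Pi.add_apply, Xi_apply_same, Dv_apply_same, Pi.smul_apply, ej_same,
      kap_apply, smul_eq_C_mul, mul_one]
    exact X_mul_shift (g j)
  · rw [Pi.add_apply, Xi_apply_ne j _ h, Pi.smul_apply, ej_ne j h, smul_zero,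
      add_zero, Dv_apply_ne j g h]

lemma kap_Xi (f : Fin s → PowerSeries k) : kap j (Xi j f) = 0 := by
  rw [kap_apply, Xi_apply_same, map_mul, constantCoeff_X, zero_mul]

lemma kap_single : kap j (ej (k := k) j) = 1 := by
  rw [kap_apply, ej_same, map_one]

lemma Dv_single : Dv j (ej (k := k) j) = 0 := by
  funext i
  by_cases h : i = j
  · rw [h, Dv_apply_same, ej_same, shift_one]
    rfl
  · rw [Dv_apply_ne j _ h, ej_ne j h]
    rfl

/-- the key map -/
def Lam (N : Submodule k (Fin s → PowerSeries k)) :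
    (Fin s → PowerSeries k) →ₗ[k] ((Fin s → PowerSeries k) ⧸ N) × k :=
  (N.mkQ ∘ₗ Dv j).prod (kap j)

lemma Lam_apply (N : Submodule k (Fin s → PowerSeries k)) (g : Fin s → PowerSeries k) :
    Lam j N g = (Submodule.Quotient.mk (Dv j g), kap j g) := rfl

lemma Lam_surjective (N : Submodule k (Fin s → PowerSeries k)) :
    Function.Surjective (Lam j N) := by
  rintro ⟨v, r⟩
  obtain ⟨f, rfl⟩ := Submodule.Quotient.mk_surjective N v
  refine ⟨Xi j f + r • ej j, ?_⟩
  rw [Lam_apply, map_add, map_add, map_smul, map_smul, Dv_Xi, Dv_single, smul_zero, add_zero,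
    kap_Xi, kap_single, zero_add, smul_eq_mul, mul_one]

lemma ker_Lam (N : Submodule k (Fin s → PowerSeries k)) :
    LinearMap.ker (Lam j N) = N.map (Xi j) := by
  ext g
  rw [LinearMap.mem_ker, Lam_apply, Prod.mk_eq_zero, Submodule.Quotient.mk_eq_zero,
    Submodule.mem_map]
  constructor
  · rintro ⟨h1, h2⟩
    refine ⟨Dv j g, h1, ?_⟩
    have := Xi_Dv j g
    rw [h2, zero_smul, add_zero] at this
    exact this
  · rintro ⟨f, hf, rfl⟩
    rw [Dv_Xi, kap_Xi]
    exact ⟨hf, rfl⟩

/-- the quotient by `ξ N` is the quotient by `N` plus one dimension -/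
def equivXi (N : Submodule k (Fin s → PowerSeries k)) :
    ((Fin s → PowerSeries k) ⧸ N.map (Xi j)) ≃ₗ[k] ((Fin s → PowerSeries k) ⧸ N) × k :=
  (Submodule.quotEquivOfEq _ _ (ker_Lam j N).symm).trans
    ((Lam j N).quotKerEquivOfSurjective (Lam_surjective j N))

lemma finite_quot_map_Xi (N : Submodule k (Fin s → PowerSeries k))
    (h : Module.Finite k ((Fin s → PowerSeries k) ⧸ N)) :
    Module.Finite k ((Fin s → PowerSeries k) ⧸ N.map (Xi j)) :=
  Module.Finite.equiv (equivXi j N).symm

lemma finite_quot_of_finite_map_Xi (N : Submodule k (Fin s → PowerSeries k))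
    (h : Module.Finite k ((Fin s → PowerSeries k) ⧸ N.map (Xi j))) :
    Module.Finite k ((Fin s → PowerSeries k) ⧸ N) := by
  have h1 : Module.Finite k (((Fin s → PowerSeries k) ⧸ N) × k) :=
    Module.Finite.equiv (equivXi j N)
  exact Module.Finite.of_surjective
    (LinearMap.fst k ((Fin s → PowerSeries k) ⧸ N) k) LinearMap.fst_surjective

lemma finrank_quot_map_Xi (N : Submodule k (Fin s → PowerSeries k))
    (h : Module.Finite k ((Fin s → PowerSeries k) ⧸ N)) :
    Module.finrank k ((Fin s → PowerSeries k) ⧸ N.map (Xi j)) =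
      Module.finrank k ((Fin s → PowerSeries k) ⧸ N) + 1 := by
  rw [LinearEquiv.finrank_eq (equivXi j N), Module.finrank_prod, Module.finrank_self]

end branches

section conductor

variable {k : Type u} [Field k] {s : ℕ} (R : Subalgebra k (Fin s → PowerSeries k))
  (c : Fin s → ℕ)

lemma single_mem
    (hc : ∀ f : Fin s → PowerSeries k,
      (∀ g : Fin s → PowerSeries k, g * f ∈ R) ↔ ∀ i, ((c i : ℕ) : ℕ∞) ≤ (f i).order)
    (j : Fin s) {u : PowerSeries k} (hu : X ^ c j ∣ u) : Pi.single j u ∈ R := by
  have h := (hc (Pi.single j u)).mpr (by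
    intro i
    by_cases hij : i = j
    · rw [hij, Pi.single_eq_same]
      exact nat_le_order _ _ (X_pow_dvd_iff.mp hu)
    · rw [Pi.single_eq_of_ne hij, order_zero]
      exact le_top) 1
  rwa [one_mul] at h

lemma dvd_of_mem {I : Ideal R} {i : Fin s} {n : ℕ}
    (h : Ideal.map ((Pi.evalAlgHom k (fun _ : Fin s => PowerSeries k) i).comp R.val) I =
      Ideal.span {X ^ n}) {y : R} (hy : y ∈ I) :
    (X : PowerSeries k) ^ n ∣ (y : Fin s → PowerSeries k) i := by
  have h1 := Ideal.mem_map_of_mem
    ((Pi.evalAlgHom k (fun _ : Fin s => PowerSeries k) i).comp R.val) hy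
  rw [h, Ideal.mem_span_singleton] at h1
  exact h1

lemma exists_mem_not_dvd {I : Ideal R} {i : Fin s} {n : ℕ}
    (h : Ideal.map ((Pi.evalAlgHom k (fun _ : Fin s => PowerSeries k) i).comp R.val) I =
      Ideal.span {X ^ n}) :
    ∃ y ∈ I, ¬ (X : PowerSeries k) ^ (n + 1) ∣ (y : Fin s → PowerSeries k) i := by
  by_contra hcon
  push Not at hcon
  have hle : Ideal.map ((Pi.evalAlgHom k (fun _ : Fin s => PowerSeries k) i).comp R.val) I ≤
      Ideal.span {(X : PowerSeries k) ^ (n + 1)} := by
    rw [Ideal.map_le_iff_le_comap]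
    intro y hy
    rw [Ideal.mem_comap, Ideal.mem_span_singleton]
    exact hcon y hy
  rw [h, Ideal.span_singleton_le_span_singleton] at hle
  have h2 := (X_pow_dvd_iff.mp hle) n (Nat.lt_succ_self n)
  rw [coeff_X_pow, if_pos rfl] at h2
  exact one_ne_zero h2

/-- an element of `I` whose `i`-th component is `X ^ n` times a unit -/
lemma exists_mem_eq_mul_unit {I : Ideal R} {i : Fin s} {n : ℕ}
    (h : Ideal.map ((Pi.evalAlgHom k (fun _ : Fin s => PowerSeries k) i).comp R.val) I =
      Ideal.span {X ^ n}) :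
    ∃ y ∈ I, ∃ v : PowerSeries k, IsUnit v ∧ (y : Fin s → PowerSeries k) i = X ^ n * v ∧
      ¬ (X : PowerSeries k) ^ (n + 1) ∣ (y : Fin s → PowerSeries k) i := by
  obtain ⟨y, hy, hnd⟩ := exists_mem_not_dvd R h
  obtain ⟨v, hv⟩ := dvd_of_mem R h hy
  refine ⟨y, hy, v, ?_, hv, hnd⟩
  rw [isUnit_iff_constantCoeff, isUnit_iff_ne_zero]
  intro h0
  apply hnd
  obtain ⟨w, hw⟩ := X_dvd_iff.mpr h0
  exact ⟨w, by rw [hv, hw, pow_succ, mul_assoc]⟩

end conductor

end Groth.Agent.H75.Branches
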