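/-
Helper library (helper75): multiplication of ideals of a subalgebra of a product of power series
rings by the tuple with a uniformizer in one slot, used for S15149.  No milestone is proved here.
-/
import Groth.Agent.H75.Branches
import Mathlib.Tactic.Ring

set_option autoImplicit false
universe u

noncomputable section

namespace Groth.Agent.H75.Branches

open PowerSeries

section mapmul

variable {A B : Type*} [CommRing A] [CommRing B]

lemma map_eq_span_mul {F : Type*} [FunLike F A B] [RingHomClass F A B] (φ : F) (I J : Ideal A)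
    (u : B)
    (h1 : ∀ g ∈ J, ∃ f ∈ I, φ g = u * φ f) (h2 : ∀ f ∈ I, ∃ g ∈ J, φ g = u * φ f) :
    Ideal.map φ J = Ideal.span {u} * Ideal.map φ I := by
  apply le_antisymm
  · rw [Ideal.map_le_iff_le_comap]
    intro g hg
    obtain ⟨f, hf, hgf⟩ := h1 g hg
    rw [Ideal.mem_comap, hgf]
    exact Ideal.mul_mem_mul (Ideal.mem_span_singleton_self u) (Ideal.mem_map_of_mem φ hf)
  · rw [Ideal.span_singleton_mul_le_iff]
    intro z hz
    have hz' : z ∈ Submodule.span B (φ '' (I : Set A)) := hz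
    refine Submodule.span_induction (p := fun z _ => u * z ∈ Ideal.map φ J) ?_ ?_ ?_ ?_ hz'
    · rintro x ⟨f, hf, rfl⟩
      obtain ⟨g, hg, hgf⟩ := h2 f hf
      rw [← hgf]
      exact Ideal.mem_map_of_mem φ hg
    · rw [mul_zero]
      exact Ideal.zero_mem _
    · intro x y _ _ hx hy
      rw [mul_add]
      exact Ideal.add_mem _ hx hy
    · intro b x _ hx
      rw [smul_eq_mul, mul_left_comm]
      exact Ideal.mul_mem_left _ b hx

end mapmul

section pair

variable {k : Type u} [Field k] {s : ℕ} (R : Subalgebra k (Fin s → PowerSeries k)) (j : Fin s)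

/-- the ideal `ξ I` -/
def mulXi (I : Ideal R) : Ideal R where
  carrier := {g | ∃ f ∈ I, (g : Fin s → PowerSeries k) =
    Pi.mulSingle j X * (f : Fin s → PowerSeries k)}
  zero_mem' := ⟨0, I.zero_mem, by
    change (0 : Fin s → PowerSeries k) = Pi.mulSingle j X * (0 : Fin s → PowerSeries k)
    rw [mul_zero]⟩
  add_mem' := by
    rintro g1 g2 ⟨f1, hf1, h1⟩ ⟨f2, hf2, h2⟩
    refine ⟨f1 + f2, I.add_mem hf1 hf2, ?_⟩
    change (g1 : Fin s → PowerSeries k) + (g2 : Fin s → PowerSeries k) =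
      Pi.mulSingle j X * ((f1 : Fin s → PowerSeries k) + (f2 : Fin s → PowerSeries k))
    rw [h1, h2, mul_add]
  smul_mem' := by
    rintro r g ⟨f, hf, h⟩
    refine ⟨r * f, I.mul_mem_left r hf, ?_⟩
    change (r : Fin s → PowerSeries k) * (g : Fin s → PowerSeries k) =
      Pi.mulSingle j X * ((r : Fin s → PowerSeries k) * (f : Fin s → PowerSeries k))
    rw [h, mul_left_comm]

/-- the ideal `ξ⁻¹ J` -/
def divXi (J : Ideal R) : Ideal R where
  carrier := {f | ∃ g ∈ J, (g : Fin s → PowerSeries k) =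
    Pi.mulSingle j X * (f : Fin s → PowerSeries k)}
  zero_mem' := ⟨0, J.zero_mem, by
    change (0 : Fin s → PowerSeries k) = Pi.mulSingle j X * (0 : Fin s → PowerSeries k)
    rw [mul_zero]⟩
  add_mem' := by
    rintro f1 f2 ⟨g1, hg1, h1⟩ ⟨g2, hg2, h2⟩
    refine ⟨g1 + g2, J.add_mem hg1 hg2, ?_⟩
    change (g1 : Fin s → PowerSeries k) + (g2 : Fin s → PowerSeries k) =
      Pi.mulSingle j X * ((f1 : Fin s → PowerSeries k) + (f2 : Fin s → PowerSeries k))
    rw [h1, h2, mul_add]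
  smul_mem' := by
    rintro r f ⟨g, hg, h⟩
    refine ⟨r * g, J.mul_mem_left r hg, ?_⟩
    change (r : Fin s → PowerSeries k) * (g : Fin s → PowerSeries k) =
      Pi.mulSingle j X * ((r : Fin s → PowerSeries k) * (f : Fin s → PowerSeries k))
    rw [h, mul_left_comm]

lemma mem_mulXi {I : Ideal R} {g : R} : g ∈ mulXi R j I ↔ ∃ f ∈ I,
    (g : Fin s → PowerSeries k) = Pi.mulSingle j X * (f : Fin s → PowerSeries k) := Iff.rfl

lemma mem_divXi {J : Ideal R} {f : R} : f ∈ divXi R j J ↔ ∃ g ∈ J,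
    (g : Fin s → PowerSeries k) = Pi.mulSingle j X * (f : Fin s → PowerSeries k) := Iff.rfl

variable (c : Fin s → ℕ)

lemma mulXi_mem_of
    (hc : ∀ f : Fin s → PowerSeries k,
      (∀ g : Fin s → PowerSeries k, g * f ∈ R) ↔ ∀ i, ((c i : ℕ) : ℕ∞) ≤ (f i).order)
    (a : ℕ) (hj : c j ≤ a) (f : R) (hf : X ^ a ∣ (f : Fin s → PowerSeries k) j) :
    Pi.mulSingle j X * (f : Fin s → PowerSeries k) ∈ R := by
  have h1 : Pi.mulSingle j X * (f : Fin s → PowerSeries k) =
      (f : Fin s → PowerSeries k) + Pi.single j ((X - 1) * (f : Fin s → PowerSeries k) j) := by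
    funext i
    by_cases hij : i = j
    · rw [hij, Pi.mul_apply, Pi.mulSingle_eq_same, Pi.add_apply, Pi.single_eq_same]
      ring
    · rw [Pi.mul_apply, Pi.mulSingle_eq_of_ne hij, Pi.add_apply, Pi.single_eq_of_ne hij, one_mul,
        add_zero]
  rw [h1]
  exact R.add_mem f.2
    (single_mem R c hc j (dvd_mul_of_dvd_right (dvd_trans (pow_dvd_pow X hj) hf) _))

lemma exists_div
    (hc : ∀ f : Fin s → PowerSeries k,
      (∀ g : Fin s → PowerSeries k, g * f ∈ R) ↔ ∀ i, ((c i : ℕ) : ℕ∞) ≤ (f i).order)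
    (a : ℕ) (hj : c j ≤ a) (g : R) (hg : X ^ (a + 1) ∣ (g : Fin s → PowerSeries k) j) :
    ∃ f : R, (g : Fin s → PowerSeries k) = Pi.mulSingle j X * (f : Fin s → PowerSeries k) := by
  obtain ⟨h, hh⟩ := hg
  have hmem : Pi.single j (X ^ a * h - X ^ (a + 1) * h) ∈ R :=
    single_mem R c hc j (dvd_sub (dvd_mul_of_dvd_left (pow_dvd_pow X hj) h)
      (dvd_mul_of_dvd_left (pow_dvd_pow X (le_trans hj (Nat.le_succ a))) h))
  refine ⟨⟨(g : Fin s → PowerSeries k) + Pi.single j (X ^ a * h - X ^ (a + 1) * h),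
    R.add_mem g.2 hmem⟩, ?_⟩
  funext i
  change (g : Fin s → PowerSeries k) i = ((Pi.mulSingle j X *
    ((g : Fin s → PowerSeries k) +
      (Pi.single j (X ^ a * h - X ^ (a + 1) * h) : Fin s → PowerSeries k)) :
      Fin s → PowerSeries k)) i
  by_cases hij : i = j
  · rw [hij, Pi.mul_apply, Pi.mulSingle_eq_same, Pi.add_apply, Pi.single_eq_same, hh]
    ring
  · rw [Pi.mul_apply, Pi.mulSingle_eq_of_ne hij, Pi.add_apply, Pi.single_eq_of_ne hij, one_mul,
      add_zero]

variable (I J : Ideal R)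
  (P1 : ∀ g ∈ J, ∃ f ∈ I, (g : Fin s → PowerSeries k) =
    Pi.mulSingle j X * (f : Fin s → PowerSeries k))
  (P2 : ∀ f ∈ I, ∃ g ∈ J, (g : Fin s → PowerSeries k) =
    Pi.mulSingle j X * (f : Fin s → PowerSeries k))

include P1 P2 in
lemma image_eq : (Subtype.val '' (J : Set R)) =
    (fun f => Pi.mulSingle j X * f) '' (Subtype.val '' (I : Set R)) := by
  ext x
  constructor
  · rintro ⟨g, hg, rfl⟩
    obtain ⟨f, hf, hgf⟩ := P1 g hg
    exact ⟨f.val, ⟨f, hf, rfl⟩, hgf.symm⟩
  · rintro ⟨_, ⟨f, hf, rfl⟩, rfl⟩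
    obtain ⟨g, hg, hgf⟩ := P2 f hf
    exact ⟨g, hg, hgf⟩

include P1 P2 in
lemma imO_eq : imO R J = (imO R I).map (Xi j) := by
  ext x
  rw [mem_imO, Submodule.mem_map]
  constructor
  · rintro ⟨g, hg, rfl⟩
    obtain ⟨f, hf, hgf⟩ := P1 g hg
    exact ⟨f.val, (mem_imO R I).mpr ⟨f, hf, rfl⟩, (Xi_apply j _).trans hgf.symm⟩
  · rintro ⟨z, hz, rfl⟩
    obtain ⟨f, hf, rfl⟩ := (mem_imO R I).mp hz
    obtain ⟨g, hg, hgf⟩ := P2 f hf
    exact ⟨g, hg, hgf.trans (Xi_apply j _).symm⟩

include P1 P2 in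
lemma finrank_pair
    (hfin : Module.Finite k ((Fin s → PowerSeries k) ⧸ Subalgebra.toSubmodule R))
    (hI : Module.Finite k (R ⧸ I)) :
    Module.Finite k (R ⧸ J) ∧ Module.finrank k (R ⧸ J) = Module.finrank k (R ⧸ I) + 1 := by
  have hIO := finite_quot_imO R I hfin hI
  have key : ∀ N : Submodule k (Fin s → PowerSeries k), N = (imO R I).map (Xi j) →
      Module.Finite k ((Fin s → PowerSeries k) ⧸ N) ∧
      Module.finrank k ((Fin s → PowerSeries k) ⧸ N) =
        Module.finrank k ((Fin s → PowerSeries k) ⧸ imO R I) + 1 := by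
    rintro N rfl
    exact ⟨finite_quot_map_Xi j _ hIO, finrank_quot_map_Xi j _ hIO⟩
  obtain ⟨hJO, hJr⟩ := key _ (imO_eq R j I J P1 P2)
  have hJ := finite_quot_of_finite_imO R J hJO
  refine ⟨hJ, ?_⟩
  have e1 := finrank_quot_imO R I hIO
  have e2 := finrank_quot_imO R J hJO
  omega

include P1 P2 in
lemma finrank_pair'
    (hfin : Module.Finite k ((Fin s → PowerSeries k) ⧸ Subalgebra.toSubmodule R))
    (hJ : Module.Finite k (R ⧸ J)) :
    Module.Finite k (R ⧸ I) ∧ Module.finrank k (R ⧸ J) = Module.finrank k (R ⧸ I) + 1 := by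
  have hJO := finite_quot_imO R J hfin hJ
  have key : ∀ N : Submodule k (Fin s → PowerSeries k), N = (imO R I).map (Xi j) →
      Module.Finite k ((Fin s → PowerSeries k) ⧸ N) →
      Module.Finite k ((Fin s → PowerSeries k) ⧸ (imO R I).map (Xi j)) := by
    rintro N rfl h
    exact h
  have hIO : Module.Finite k ((Fin s → PowerSeries k) ⧸ imO R I) :=
    finite_quot_of_finite_map_Xi j _ (key _ (imO_eq R j I J P1 P2) hJO)
  have hI := finite_quot_of_finite_imO R I hIO
  exact ⟨hI, (finrank_pair R j I J P1 P2 hfin hI).2⟩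

include P1 P2 in
lemma map_ev_same :
    Ideal.map ((Pi.evalAlgHom k (fun _ : Fin s => PowerSeries k) j).comp R.val) J =
      Ideal.span {X} *
        Ideal.map ((Pi.evalAlgHom k (fun _ : Fin s => PowerSeries k) j).comp R.val) I := by
  refine map_eq_span_mul _ I J X ?_ ?_
  · intro g hg
    obtain ⟨f, hf, hgf⟩ := P1 g hg
    refine ⟨f, hf, ?_⟩
    change (g : Fin s → PowerSeries k) j = X * (f : Fin s → PowerSeries k) j
    rw [hgf, Pi.mul_apply, Pi.mulSingle_eq_same]
  · intro f hf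
    obtain ⟨g, hg, hgf⟩ := P2 f hf
    refine ⟨g, hg, ?_⟩
    change (g : Fin s → PowerSeries k) j = X * (f : Fin s → PowerSeries k) j
    rw [hgf, Pi.mul_apply, Pi.mulSingle_eq_same]

include P1 P2 in
lemma map_ev_ne {i : Fin s} (hij : i ≠ j) :
    Ideal.map ((Pi.evalAlgHom k (fun _ : Fin s => PowerSeries k) i).comp R.val) J =
      Ideal.map ((Pi.evalAlgHom k (fun _ : Fin s => PowerSeries k) i).comp R.val) I := by
  have h : Ideal.map ((Pi.evalAlgHom k (fun _ : Fin s => PowerSeries k) i).comp R.val) J =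
      Ideal.span {1} *
        Ideal.map ((Pi.evalAlgHom k (fun _ : Fin s => PowerSeries k) i).comp R.val) I := by
    refine map_eq_span_mul _ I J 1 ?_ ?_
    · intro g hg
      obtain ⟨f, hf, hgf⟩ := P1 g hg
      refine ⟨f, hf, ?_⟩
      change (g : Fin s → PowerSeries k) i = 1 * (f : Fin s → PowerSeries k) i
      rw [hgf, Pi.mul_apply, Pi.mulSingle_eq_of_ne hij]
    · intro f hf
      obtain ⟨g, hg, hgf⟩ := P2 f hf
      refine ⟨g, hg, ?_⟩
      change (g : Fin s → PowerSeries k) i = 1 * (f : Fin s → PowerSeries k) i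
      rw [hgf, Pi.mul_apply, Pi.mulSingle_eq_of_ne hij]
  rw [h, Ideal.span_singleton_one, Ideal.top_mul]

end pair

end Groth.Agent.H75.Branches
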