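import Groth.Statements.S18287
import Groth.Agent.H25.MagAsm
import Groth.Agent.H91.AMonPt

/-!
# (ADD) for helper91's S18287 squad
-/

set_option autoImplicit false
universe u
open CategoryTheory Limits AlgebraicGeometry MonoidalCategory CartesianMonoidalCategory MonObj Opposite
open Magnet Magnet.MonAct
open scoped TensorProduct
open Groth.Agent.H91.MagnetDense Groth.Agent.H25.Mag

namespace Groth.Agent.H75.Comap_ADD

attribute [local instance 10] algZ

open Groth.Agent.H91.AMonPt

theorem AMonS_map_add {S : Scheme.{u}} {M M' : Type} [AddCommMonoid M] [AddCommMonoid M']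
    (g₁ g₂ : M →+ M') :
    AMonS.map S (g₁ + g₂) = AMonS.map S g₁ * AMonS.map S g₂ := by
  apply ptM_ext
  have key : ∀ g : M →+ M', ptM (AMonS.map S g) =
      (ptM (𝟙 (AMonS S M'))).comp (phi g).toRingHom := by
    intro g
    have := ptM_map g (𝟙 (AMonS S M'))
    rwa [Category.id_comp] at this
  apply MonoidAlgebra.ringHom_ext
  · intro r
    have huniq : ∀ χ₁ χ₂ : BM.{u} M →+* Γ((AMonS S M').left, ⊤),
        χ₁ (MonoidAlgebra.single 1 r) = χ₂ (MonoidAlgebra.single 1 r) := by
      intro χ₁ χ₂
      have h := RingHom.ext_int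
        ((χ₁.comp MonoidAlgebra.singleOneRingHom).comp
          (ULift.ringEquiv.symm : ℤ ≃+* ULift.{u} ℤ).toRingHom)
        ((χ₂.comp MonoidAlgebra.singleOneRingHom).comp
          (ULift.ringEquiv.symm : ℤ ≃+* ULift.{u} ℤ).toRingHom)
      exact RingHom.congr_fun h r.down
    exact huniq _ _
  · intro m
    rw [key, ptM_mul_single, key, key]
    simp only [RingHom.comp_apply]
    have h3 : (phi (g₁ + g₂)).toRingHom (MonoidAlgebra.single m 1) =
        (phi g₁).toRingHom (MonoidAlgebra.single m 1) *
          (phi g₂).toRingHom (MonoidAlgebra.single m 1) := by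
      simp [phi, MonoidAlgebra.single_mul_single]
    rw [h3, map_mul]

end Groth.Agent.H75.Comap_ADD
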