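import Groth.Statements.S18287
import Groth.Agent.H25.MagAsm
import Groth.Agent.H91.AMonPt

/-!
# (ALGB) for helper91's S18287 squad
-/

set_option autoImplicit false
universe u
open CategoryTheory Limits AlgebraicGeometry MonoidalCategory CartesianMonoidalCategory MonObj Opposite
open Magnet Magnet.MonAct
open scoped TensorProduct
open Groth.Agent.H91.MagnetDense Groth.Agent.H25.Mag

namespace Groth.Agent.H75.Comap_ALGB

attribute [local instance 10] algZ

open Groth.Agent.H10.MG_B1

lemma E_map_phi {M M' : Type} [AddCommMonoid M] [AddCommMonoid M'] (j : M →+ M')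
    (hj : Function.Injective j) (R : Type u) [CommRing R] (x : BM.{u} M ⊗[ULift.{u} ℤ] R) (m : M) :
    E M' R (Algebra.TensorProduct.map (phi j) (AlgHom.id (ULift.{u} ℤ) R) x)
      (Multiplicative.ofAdd (j m)) = E M R x (Multiplicative.ofAdd m) := by
  classical
  have hinj : Function.Injective (AddMonoidHom.toMultiplicative j) := fun a b h => hj h
  induction x using TensorProduct.induction_on with
  | zero => simp
  | tmul b r =>
    rw [Algebra.TensorProduct.map_tmul, AlgHom.id_apply, E_tmul, E_tmul]
    congr 1
    change (Finsupp.mapDomain (AddMonoidHom.toMultiplicative j) b.coeff)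
      (Multiplicative.ofAdd (j m)) = _
    have h1 : Multiplicative.ofAdd (j m) =
        AddMonoidHom.toMultiplicative j (Multiplicative.ofAdd m) := rfl
    rw [h1, Finsupp.mapDomain_apply hinj]
  | add y z hy hz =>
    rw [map_add, map_add, map_add, Finsupp.add_apply, Finsupp.add_apply, hy, hz]

theorem mem_range_Phi_comap {M M' : Type} [AddCommMonoid M] [AddCommMonoid M'] (j : M →+ M')
    (hj : Function.Injective j) (N' : AddSubmonoid M') (R : Type u) [CommRing R]
    (x : BM.{u} M ⊗[ULift.{u} ℤ] R)
    (h : Algebra.TensorProduct.map (phi j) (AlgHom.id (ULift.{u} ℤ) R) x ∈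
      Set.range (Phi N' R)) :
    x ∈ Set.range (Phi (N'.comap j) R) := by
  rw [mem_range_Phi_iff] at h ⊢
  intro m hm
  rw [← E_map_phi j hj R x m]
  exact h (j m) hm

end Groth.Agent.H75.Comap_ALGB
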