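/-
Helper library (helper75): elementary facts about central division algebras of dimension `p ^ 2`
(`p` prime) over a field.  No milestone statement is proved here.
-/
import Mathlib.Algebra.Central.Basic
import Mathlib.Algebra.Algebra.Subalgebra.Centralizer
import Mathlib.LinearAlgebra.Dimension.FreeAndStrongRankCondition
import Mathlib.LinearAlgebra.FiniteDimensional.Basic
import Mathlib.RingTheory.AdjoinRoot
import Mathlib.FieldTheory.Minpoly.Field
import Mathlib.FieldTheory.Separable
import Mathlib.RingTheory.Adjoin.Polynomial.Basic
import Mathlib.FieldTheory.Tower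

set_option autoImplicit false
universe u v

namespace Groth.Agent.H75

open Polynomial

section Domain

variable {K : Type u} [Field K] {A : Type v} [Ring A] [IsDomain A] [Algebra K A]
  [FiniteDimensional K A]

/-- The dimension of a subalgebra of a finite-dimensional domain divides the dimension. -/
theorem finrank_subalgebra_dvd (B : Subalgebra K A) :
    Module.finrank K B ∣ Module.finrank K A := by
  let _ : DivisionRing B := divisionRingOfFiniteDimensional K B
  have := Module.finrank_mul_finrank K B A
  exact ⟨_, this.symm⟩

end Domain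

section Comm

variable {K : Type u} [CommSemiring K] {A : Type v} [Semiring A] [Algebra K A]

/-- A subalgebra generated by pairwise commuting elements is commutative. -/
theorem adjoin_comm (s : Set A) (hs : ∀ a ∈ s, ∀ b ∈ s, a * b = b * a) :
    ∀ a ∈ Algebra.adjoin K s, ∀ b ∈ Algebra.adjoin K s, a * b = b * a := by
  intro a ha b hb
  have := Algebra.adjoin_le_centralizer_centralizer K s
  exact Set.centralizer_centralizer_comm_of_comm hs _ (this ha) _ (this hb)

end Comm

section Central

variable {K : Type u} [Field K] {A : Type v} [DivisionRing A] [Algebra K A]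
  [Algebra.IsCentral K A] [FiniteDimensional K A] {p : ℕ} [hp : Fact p.Prime]

include hp in
theorem exists_not_mem_range (hA : Module.finrank K A = p ^ 2) :
    ∃ a : A, a ∉ (algebraMap K A).range := by
  by_contra h
  push Not at h
  have h1 : (⊥ : Subalgebra K A) = ⊤ := by
    apply le_antisymm bot_le
    intro x _
    rw [Algebra.mem_bot]
    obtain ⟨k, hk⟩ := h x
    exact ⟨k, hk⟩
  have h2 := Subalgebra.bot_eq_top_iff_finrank_eq_one.mp h1
  rw [hA] at h2
  have := hp.out.two_le
  nlinarith

theorem exists_not_commute {a : A} (ha : a ∉ (algebraMap K A).range) :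
    ∃ y : A, a * y ≠ y * a := by
  by_contra h
  push Not at h
  apply ha
  have h1 : a ∈ Subalgebra.center K A := by
    rw [Subalgebra.mem_center_iff]
    intro b
    exact (h b).symm
  obtain ⟨k, hk⟩ := (Algebra.IsCentral.mem_center_iff K).mp h1
  exact ⟨k, hk.symm⟩

include hp in
/-- A commutative subalgebra of a central division algebra of dimension `p ^ 2` has dimension
`1` or `p`. -/
theorem comm_subalgebra_finrank (hA : Module.finrank K A = p ^ 2) (B : Subalgebra K A)
    (hB : ∀ x ∈ B, ∀ y ∈ B, x * y = y * x) :
    Module.finrank K B = 1 ∨ Module.finrank K B = p := by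
  have hdvd := finrank_subalgebra_dvd B
  rw [hA, Nat.dvd_prime_pow hp.out] at hdvd
  obtain ⟨i, hi, hfi⟩ := hdvd
  interval_cases i
  · left; simpa using hfi
  · right; simpa using hfi
  · exfalso
    have htop : B = ⊤ := by
      apply Algebra.toSubmodule_eq_top.1
      apply Submodule.eq_top_of_finrank_eq
      rw [Subalgebra.finrank_toSubmodule, hfi, hA]
    obtain ⟨a, ha⟩ := exists_not_mem_range (K := K) (A := A) hA
    obtain ⟨y, hy⟩ := exists_not_commute ha
    exact hy (hB a (htop ▸ Algebra.mem_top) y (htop ▸ Algebra.mem_top))

include hp in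
theorem finrank_adjoin_singleton (hA : Module.finrank K A = p ^ 2) {x : A}
    (hx : x ∉ (algebraMap K A).range) :
    Module.finrank K (Algebra.adjoin K {x}) = p := by
  rcases comm_subalgebra_finrank hA (Algebra.adjoin K {x})
    (adjoin_comm _ (by
      intro a ha b hb
      rw [Set.mem_singleton_iff] at ha hb
      rw [ha, hb])) with h | h
  · exfalso
    apply hx
    have h1 := Subalgebra.finrank_eq_one_iff.mp h
    have h2 : x ∈ Algebra.adjoin K {x} := Algebra.self_mem_adjoin_singleton K x
    rw [h1, Algebra.mem_bot] at h2
    obtain ⟨k, hk⟩ := h2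
    exact ⟨k, hk⟩
  · exact h

include hp in
/-- In a central division algebra of dimension `p ^ 2`, anything commuting with a non-central
element `x` lies in `K[x]`. -/
theorem mem_adjoin_of_commute (hA : Module.finrank K A = p ^ 2) {x y : A}
    (hx : x ∉ (algebraMap K A).range) (hxy : x * y = y * x) :
    y ∈ Algebra.adjoin K {x} := by
  have hcomm : ∀ a ∈ Algebra.adjoin K ({x, y} : Set A), ∀ b ∈ Algebra.adjoin K ({x, y} : Set A),
      a * b = b * a := by
    apply adjoin_comm
    intro a ha b hb
    rcases ha with rfl | ha <;> rcases hb with rfl | hb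
    · rfl
    · rw [Set.mem_singleton_iff] at hb; rw [hb, hxy]
    · rw [Set.mem_singleton_iff] at ha; rw [ha, hxy]
    · rw [Set.mem_singleton_iff] at ha hb; rw [ha, hb]
  have hle : Algebra.adjoin K {x} ≤ Algebra.adjoin K ({x, y} : Set A) :=
    Algebra.adjoin_mono (by intro z hz; exact Or.inl hz)
  have h1 := finrank_adjoin_singleton hA hx
  have h2 : Module.finrank K (Algebra.adjoin K ({x, y} : Set A)) = p := by
    rcases comm_subalgebra_finrank hA _ hcomm with h | h
    · exfalso
      have := Submodule.finrank_mono (Subalgebra.toSubmodule.monotone hle)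
      simp only [Subalgebra.finrank_toSubmodule] at this
      rw [h1, h] at this
      have := hp.out.two_le
      omega
    · exact h
  have heq : Subalgebra.toSubmodule (Algebra.adjoin K {x}) =
      Subalgebra.toSubmodule (Algebra.adjoin K ({x, y} : Set A)) := by
    apply Submodule.eq_of_le_of_finrank_eq (Subalgebra.toSubmodule.monotone hle)
    simp only [Subalgebra.finrank_toSubmodule]
    rw [h1, h2]
  have heq' := Subalgebra.toSubmodule_injective heq
  rw [heq']
  exact Algebra.subset_adjoin (Or.inr rfl)

include hp in
/-- The centralizer of a non-central element is commutative. -/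
theorem commute_of_commute (hA : Module.finrank K A = p ^ 2) {x y z : A}
    (hx : x ∉ (algebraMap K A).range) (hy : x * y = y * x) (hz : x * z = z * x) :
    y * z = z * y :=
  adjoin_comm (K := K) ({x} : Set A) (by
      intro a ha b hb
      rw [Set.mem_singleton_iff] at ha hb
      rw [ha, hb]) y (mem_adjoin_of_commute hA hx hy) z (mem_adjoin_of_commute hA hx hz)

include hp in
/-- An element commuting with two non-commuting elements is central. -/
theorem mem_range_of_commute (hA : Module.finrank K A = p ^ 2) {w y z : A}
    (hy : w * y = y * w) (hz : w * z = z * w) (hyz : y * z ≠ z * y) :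
    w ∈ (algebraMap K A).range := by
  by_contra hw
  exact hyz (commute_of_commute hA hw hy hz)

include hp in
/-- A non-central element has minimal polynomial of degree `p`. -/
theorem natDegree_minpoly (hA : Module.finrank K A = p ^ 2) {x : A}
    (hx : x ∉ (algebraMap K A).range) : (minpoly K x).natDegree = p := by
  have hint : IsIntegral K x := IsIntegral.of_finite K x
  have hirr : Irreducible (minpoly K x) := minpoly.irreducible hint
  have : Fact (Irreducible (minpoly K x)) := ⟨hirr⟩
  let ι : AdjoinRoot (minpoly K x) →ₐ[K] A :=
    Ideal.Quotient.liftₐ (Ideal.span {minpoly K x}) (Polynomial.aeval x) (by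
      intro q hq
      rw [Ideal.mem_span_singleton] at hq
      obtain ⟨r, rfl⟩ := hq
      simp [minpoly.aeval])
  have hinj : Function.Injective ι := (ι : AdjoinRoot (minpoly K x) →+* A).injective
  have hcomm : ∀ a ∈ ι.range, ∀ b ∈ ι.range, a * b = b * a := by
    rintro _ ⟨a, rfl⟩ _ ⟨b, rfl⟩
    rw [← map_mul, ← map_mul, mul_comm]
  have hfr : Module.finrank K ι.range = (minpoly K x).natDegree := by
    rw [← (AlgEquiv.ofInjective ι hinj).toLinearEquiv.finrank_eq,
      (AdjoinRoot.powerBasis hirr.ne_zero).finrank, AdjoinRoot.powerBasis_dim]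
  rcases comm_subalgebra_finrank hA ι.range hcomm with h | h
  · exfalso
    rw [hfr] at h
    exact hx (minpoly.natDegree_eq_one_iff.mp h)
  · rw [← hfr]; exact h

include hp in
/-- If `x ∉ K` but `x ^ p ∈ K` (characteristic `p`), then `x` is not separable over `K`. -/
theorem not_isSeparable_of_pow_mem [CharP K p] (hA : Module.finrank K A = p ^ 2) {x : A}
    (hx : x ∉ (algebraMap K A).range) (hxp : x ^ p ∈ (algebraMap K A).range) :
    ¬ IsSeparable K x := by
  obtain ⟨k, hk⟩ := hxp
  have hint : IsIntegral K x := IsIntegral.of_finite K x
  have hirr : Irreducible (minpoly K x) := minpoly.irreducible hint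
  have hdeg := natDegree_minpoly hA hx
  have hdvd : minpoly K x ∣ X ^ p - C k := by
    apply minpoly.dvd
    simp [hk]
  have hmon : (X ^ p - C k : K[X]).Monic := monic_X_pow_sub_C k hp.out.ne_zero
  have heq : X ^ p - C k = minpoly K x := by
    apply Polynomial.eq_of_monic_of_dvd_of_natDegree_le (minpoly.monic hint) hmon hdvd
    rw [hdeg, natDegree_X_pow_sub_C]
  intro hsep
  unfold IsSeparable at hsep
  rw [Polynomial.separable_iff_derivative_ne_zero hirr, ← heq] at hsep
  apply hsep
  rw [derivative_sub, derivative_C, sub_zero, derivative_X_pow,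
    CharP.cast_eq_zero K p, C_0, zero_mul]

end Central

end Groth.Agent.H75
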