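/-
Helper library (helper75), part 2: more elementary facts about central division algebras of
dimension `p ^ 2`.  No milestone statement is proved here.
-/
import Groth.Agent.H75.DivAlg

set_option autoImplicit false
universe u v

namespace Groth.Agent.H75

open Polynomial

section Model

variable {K : Type u} [Field K] {A : Type v} [DivisionRing A] [Algebra K A]

/-- A commutative subalgebra of a finite-dimensional division algebra is the image of a field. -/
theorem exists_field_model [FiniteDimensional K A] (B : Subalgebra K A)
    (hB : ∀ x ∈ B, ∀ y ∈ B, x * y = y * x) :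
    ∃ (L : Type v) (_ : Field L) (_ : Algebra K L) (e : L →ₐ[K] A), e.range = B := by
  let _ : CommRing B := { (inferInstance : Ring B) with
    mul_comm := fun x y => Subtype.ext (hB x x.2 y y.2) }
  let _ : Field B := fieldOfFiniteDimensional K B
  exact ⟨B, inferInstance, inferInstance, B.val, B.range_val⟩

/-- conjugation by a nonzero element, as an algebra endomorphism -/
noncomputable def conjAlgHom (w : A) (hw : w ≠ 0) : A →ₐ[K] A where
  toFun x := w * x * w⁻¹
  map_one' := by simp [hw]
  map_mul' x y := by simp only [mul_assoc, inv_mul_cancel_left₀ hw]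
  map_zero' := by simp
  map_add' x y := by simp [mul_add, add_mul]
  commutes' k := by rw [← Algebra.commutes, mul_assoc, mul_inv_cancel₀ hw, mul_one]

@[simp] theorem conjAlgHom_apply (w : A) (hw : w ≠ 0) (x : A) :
    conjAlgHom (K := K) w hw x = w * x * w⁻¹ := rfl

end Model

section Central

variable {K : Type u} [Field K] {A : Type v} [DivisionRing A] [Algebra K A]
  [Algebra.IsCentral K A] [FiniteDimensional K A] {p : ℕ} [hp : Fact p.Prime]

include hp in
/-- A subalgebra containing two non-commuting elements is everything. -/
theorem eq_top_of_not_commute (hA : Module.finrank K A = p ^ 2) (B : Subalgebra K A) {x y : A}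
    (hx : x ∈ B) (hy : y ∈ B) (hxy : x * y ≠ y * x) : B = ⊤ := by
  have hxr : x ∉ (algebraMap K A).range := by
    rintro ⟨k, rfl⟩
    exact hxy (Algebra.commutes k y)
  have hle : Algebra.adjoin K {x} ≤ B := Algebra.adjoin_le (by
    intro z hz
    rw [Set.mem_singleton_iff] at hz
    rw [hz]; exact hx)
  have h1 := finrank_adjoin_singleton hA hxr
  have hmono := Submodule.finrank_mono (Subalgebra.toSubmodule.monotone hle)
  simp only [Subalgebra.finrank_toSubmodule] at hmono
  rw [h1] at hmono
  have hdvd := finrank_subalgebra_dvd B
  rw [hA, Nat.dvd_prime_pow hp.out] at hdvd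
  obtain ⟨i, hi, hfi⟩ := hdvd
  have h2 := hp.out.two_le
  interval_cases i
  · exfalso
    rw [hfi, pow_zero] at hmono
    omega
  · exfalso
    have heq : Subalgebra.toSubmodule (Algebra.adjoin K {x}) = Subalgebra.toSubmodule B := by
      apply Submodule.eq_of_le_of_finrank_eq (Subalgebra.toSubmodule.monotone hle)
      simp only [Subalgebra.finrank_toSubmodule]
      rw [h1, hfi, pow_one]
    have heq' := Subalgebra.toSubmodule_injective heq
    rw [← heq'] at hy
    apply hxy
    exact adjoin_comm (K := K) ({x} : Set A) (by
      intro a ha b hb
      rw [Set.mem_singleton_iff] at ha hb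
      rw [ha, hb]) x (Algebra.self_mem_adjoin_singleton K x) y hy
  · apply Algebra.toSubmodule_eq_top.1
    apply Submodule.eq_top_of_finrank_eq
    rw [Subalgebra.finrank_toSubmodule, hfi, hA]

end Central

end Groth.Agent.H75
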