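/-
Helper library (helper75), part 3: commutative subalgebras of finite-dimensional domains, and
irreducible factors of `X ^ m - k` over a field containing the roots of unity.
No milestone statement is proved here.
-/
import Groth.Agent.H75.DivAlg
import Mathlib.FieldTheory.IsAlgClosed.AlgebraicClosure
import Mathlib.Algebra.Polynomial.Splits
import Mathlib.Tactic.FieldSimp
import Mathlib.Tactic.Ring

set_option autoImplicit false
universe u v

namespace Groth.Agent.H75

open Polynomial

section Domain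

variable {K : Type u} [Field K] {A : Type v} [Ring A] [IsDomain A] [Algebra K A]
  [FiniteDimensional K A]

/-- Every element of a finite-dimensional domain lies in a commutative subalgebra whose dimension
is the degree of its minimal polynomial. -/
theorem exists_comm_subalgebra_finrank (x : A) :
    ∃ B : Subalgebra K A, x ∈ B ∧ (∀ a ∈ B, ∀ b ∈ B, a * b = b * a) ∧
      Module.finrank K B = (minpoly K x).natDegree := by
  have hint : IsIntegral K x := IsIntegral.of_finite K x
  have hirr : Irreducible (minpoly K x) := minpoly.irreducible hint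
  have : Fact (Irreducible (minpoly K x)) := ⟨hirr⟩
  let ι : AdjoinRoot (minpoly K x) →ₐ[K] A :=
    Ideal.Quotient.liftₐ (Ideal.span {minpoly K x}) (Polynomial.aeval x) (by
      intro q hq
      rw [Ideal.mem_span_singleton] at hq
      obtain ⟨r, rfl⟩ := hq
      simp [minpoly.aeval])
  have hinj : Function.Injective ι := (ι : AdjoinRoot (minpoly K x) →+* A).injective
  refine ⟨ι.range, ⟨AdjoinRoot.root _, ?_⟩, ?_, ?_⟩
  · change Ideal.Quotient.liftₐ (Ideal.span {minpoly K x}) (Polynomial.aeval x) _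
      (Ideal.Quotient.mk _ X) = x
    rw [Ideal.Quotient.liftₐ_apply, Ideal.Quotient.lift_mk]
    simp
  · rintro _ ⟨a, rfl⟩ _ ⟨b, rfl⟩
    rw [← map_mul, ← map_mul, mul_comm]
  · rw [← (AlgEquiv.ofInjective ι hinj).toLinearEquiv.finrank_eq,
      (AdjoinRoot.powerBasis hirr.ne_zero).finrank, AdjoinRoot.powerBasis_dim]

/-- For subalgebras `B ≤ C` of a finite-dimensional domain, `dim B` divides `dim C`. -/
theorem finrank_dvd_of_le {B C : Subalgebra K A} (h : B ≤ C) :
    Module.finrank K B ∣ Module.finrank K C := by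
  have hinj : Function.Injective (Subalgebra.inclusion h) := Subalgebra.inclusion_injective h
  have h1 := finrank_subalgebra_dvd (K := K) (A := C) (Subalgebra.inclusion h).range
  rwa [← (AlgEquiv.ofInjective (Subalgebra.inclusion h) hinj).toLinearEquiv.finrank_eq] at h1

end Domain

section Kummer

variable {K : Type u} [Field K]

theorem prod_eq_mul_pow {E : Type u} [Field E] [Algebra K E] (t₀ : E) (R : Multiset E)
    (h : ∀ t ∈ R, ∃ ζ : K, t = algebraMap K E ζ * t₀) :
    ∃ c : K, R.prod = algebraMap K E c * t₀ ^ (Multiset.card R) := by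
  induction R using Multiset.induction_on with
  | empty => exact ⟨1, by simp⟩
  | cons t R ih =>
    obtain ⟨c, hc⟩ := ih (fun t' ht' => h t' (Multiset.mem_cons_of_mem ht'))
    obtain ⟨ζ, hζ⟩ := h t (Multiset.mem_cons_self t R)
    refine ⟨ζ * c, ?_⟩
    rw [Multiset.prod_cons, Multiset.card_cons, hc, hζ, map_mul, pow_succ]
    ring

/-- Over a field containing all roots of unity, every monic irreducible factor of `X ^ m - k`
(`k ≠ 0`) is of the form `X ^ r - b`. -/
theorem eq_X_pow_sub_C_of_dvd (hK : ∀ n : ℕ, 0 < n → (X ^ n - 1 : K[X]).Splits) {f : K[X]}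
    (hf : f.Monic) (hirr : Irreducible f) {m : ℕ} (hm : 0 < m) {k : K} (hk : k ≠ 0)
    (hdvd : f ∣ X ^ m - C k) : ∃ b : K, f = X ^ f.natDegree - C b := by
  classical
  have hsp : (f.map (algebraMap K (AlgebraicClosure K))).Splits := IsAlgClosed.splits _
  have hmon : (f.map (algebraMap K (AlgebraicClosure K))).Monic := hf.map _
  obtain ⟨R, hR⟩ : ∃ R : Multiset (AlgebraicClosure K),
      R = (f.map (algebraMap K (AlgebraicClosure K))).roots := ⟨_, rfl⟩
  have hcard : Multiset.card R = f.natDegree := by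
    rw [hR, ← hsp.natDegree_eq_card_roots, natDegree_map]
  have hrpos : 0 < f.natDegree := hirr.natDegree_pos
  have hroot : ∀ t ∈ R, aeval t f = 0 := by
    intro t ht
    rw [hR, mem_roots hmon.ne_zero, IsRoot, eval_map] at ht
    exact ht
  have hRm : ∀ t ∈ R, t ^ m = algebraMap K (AlgebraicClosure K) k := by
    intro t ht
    obtain ⟨q, hq⟩ := hdvd
    have h1 := congrArg (aeval t) hq
    rw [map_mul, hroot t ht, zero_mul, map_sub, map_pow, aeval_X, aeval_C] at h1
    exact sub_eq_zero.mp h1
  have hik : algebraMap K (AlgebraicClosure K) k ≠ 0 := (_root_.map_ne_zero _).mpr hk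
  have hR0 : ∀ t ∈ R, t ≠ 0 := by
    intro t ht h0
    have h1 := hRm t ht
    rw [h0, zero_pow hm.ne'] at h1
    exact hik h1.symm
  obtain ⟨t₀, ht₀⟩ : ∃ t₀, t₀ ∈ R :=
    Multiset.card_pos_iff_exists_mem.mp (by rw [hcard]; exact hrpos)
  have ht₀0 := hR0 t₀ ht₀
  have hζ : ∀ t ∈ R, ∃ ζ : K, t = algebraMap K (AlgebraicClosure K) ζ * t₀ := by
    intro t ht
    have h1 : (t / t₀) ^ m = 1 := by
      rw [div_pow, hRm t ht, hRm t₀ ht₀, div_self hik]
    have hne : ((X ^ m - 1 : K[X]).map (algebraMap K (AlgebraicClosure K))) ≠ 0 := by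
      have : (X ^ m - 1 : K[X]).Monic := by
        have := monic_X_pow_sub_C (1 : K) hm.ne'
        rwa [C_1] at this
      exact (this.map _).ne_zero
    have h2 : t / t₀ ∈ ((X ^ m - 1 : K[X]).map (algebraMap K (AlgebraicClosure K))).roots := by
      rw [mem_roots hne, IsRoot, eval_map, eval₂_sub, eval₂_pow, eval₂_X, eval₂_one, h1, sub_self]
    rw [(hK m hm).roots_map, Multiset.mem_map] at h2
    obtain ⟨ζ, _, hζ⟩ := h2
    refine ⟨ζ, ?_⟩
    rw [hζ, div_mul_cancel₀ _ ht₀0]
  obtain ⟨c, hc⟩ := prod_eq_mul_pow t₀ R hζ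
  have hprod0 : R.prod ≠ 0 := Multiset.prod_ne_zero (fun h0 => hR0 0 h0 rfl)
  have hc0 : c ≠ 0 := by
    rintro rfl
    rw [map_zero, zero_mul] at hc
    exact hprod0 hc
  have hic : algebraMap K (AlgebraicClosure K) c ≠ 0 := (_root_.map_ne_zero _).mpr hc0
  have hcoeff : algebraMap K (AlgebraicClosure K) (f.coeff 0) = (-1) ^ f.natDegree * R.prod := by
    have h1 := hsp.coeff_zero_eq_prod_roots_of_monic hmon
    rw [coeff_map, natDegree_map, ← hR] at h1
    exact h1
  have hs : ((-1 : AlgebraicClosure K) ^ f.natDegree) * ((-1) ^ f.natDegree) = 1 := by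
    rw [← mul_pow]; simp
  obtain ⟨b, hb⟩ : ∃ b : K, t₀ ^ f.natDegree = algebraMap K (AlgebraicClosure K) b := by
    refine ⟨(-1) ^ f.natDegree * f.coeff 0 / c, ?_⟩
    rw [hc, hcard] at hcoeff
    rw [map_div₀, map_mul, map_pow, map_neg, map_one, hcoeff, ← mul_assoc, hs, one_mul,
      mul_div_cancel_left₀ _ hic]
  have hmin : f = minpoly K t₀ :=
    minpoly.eq_of_irreducible_of_monic hirr (hroot t₀ ht₀) hf
  refine ⟨b, ?_⟩
  have hdvd2 : f ∣ X ^ f.natDegree - C b := by
    have h := minpoly.dvd K t₀ (p := X ^ f.natDegree - C b) (by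
      rw [map_sub, map_pow, aeval_X, aeval_C, hb, sub_self])
    rwa [← hmin] at h
  exact (Polynomial.eq_of_monic_of_dvd_of_natDegree_le hf (monic_X_pow_sub_C b hrpos.ne') hdvd2
    (by rw [natDegree_X_pow_sub_C])).symm

end Kummer

end Groth.Agent.H75
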