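import Mathlib

/-!
# Formanek's theorem and the Eakin–Nagata theorem

* `isNoetherian_of_acc_smul_top`: if `M` is a finite `R`-module such that the submodules of the
  form `I • ⊤` satisfy the ascending chain condition, then `M` is a Noetherian `R`-module.
* `isNoetherianRing_of_finite`: if `B → A` is injective, `A` is a finite `B`-module and `A` is a
  Noetherian ring, then `B` is a Noetherian ring.
-/

namespace Groth.Agent.H75.EakinNagata

variable {R : Type*} {M : Type*} [CommRing R] [AddCommGroup M] [Module R M]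

/-- Formanek's theorem (no faithfulness needed for this conclusion). -/
theorem isNoetherian_of_acc_smul_top [Module.Finite R M]
    (hACC : ∀ S : Set (Ideal R), S.Nonempty → ∃ I ∈ S, ∀ J ∈ S,
      I • (⊤ : Submodule R M) ≤ J • (⊤ : Submodule R M) →
      J • (⊤ : Submodule R M) ≤ I • (⊤ : Submodule R M)) :
    IsNoetherian R M := by
  classical
  by_contra hM
  obtain ⟨n, b, hb⟩ := Module.Finite.exists_fin (R := R) (M := M)
  -- if `a • b i ∈ N` for all `i` then `a • m ∈ N` for all `m`
  have hgen : ∀ (N : Submodule R M) (a : R), (∀ i, a • b i ∈ N) → ∀ m, a • m ∈ N := by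
    intro N a h m
    have hm : m ∈ Submodule.span R (Set.range b) := by rw [hb]; exact Submodule.mem_top
    induction hm using Submodule.span_induction with
    | mem x hx => obtain ⟨i, rfl⟩ := hx; exact h i
    | zero => rw [smul_zero]; exact N.zero_mem
    | add x y _ _ hx hy => rw [smul_add]; exact N.add_mem hx hy
    | smul r x _ hx => rw [smul_comm]; exact N.smul_mem r hx
  -- Step 1: a maximal counterexample among the `I • ⊤`
  let S : Set (Ideal R) := {I | ¬ IsNoetherian R (M ⧸ (I • (⊤ : Submodule R M)))}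
  have hS : S.Nonempty := by
    refine ⟨⊥, ?_⟩
    intro h
    apply hM
    have e : (M ⧸ ((⊥ : Ideal R) • (⊤ : Submodule R M))) ≃ₗ[R] M :=
      Submodule.quotEquivOfEqBot _ (Submodule.bot_smul _)
    exact isNoetherian_of_linearEquiv e
  obtain ⟨I, hIS, hImax⟩ := hACC S hS
  obtain ⟨P₁, hP₁⟩ : ∃ P : Submodule R M, P = I • (⊤ : Submodule R M) := ⟨_, rfl⟩
  have hA : ∀ J : Ideal R, ¬ (J • (⊤ : Submodule R M) ≤ P₁) →
      IsNoetherian R (M ⧸ ((I ⊔ J) • (⊤ : Submodule R M))) := by
    intro J hJ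
    by_contra hcon
    have h1 : (I ⊔ J) • (⊤ : Submodule R M) ≤ I • (⊤ : Submodule R M) :=
      hImax (I ⊔ J) hcon (Submodule.smul_mono_left le_sup_left)
    rw [hP₁] at hJ
    exact hJ ((Submodule.smul_mono_left le_sup_right).trans h1)
  have hP₁not : ¬ IsNoetherian R (M ⧸ P₁) := by
    rw [hP₁]; exact hIS
  -- Step 2: Zorn
  let Γ : Set (Submodule R M) :=
    {N | P₁ ≤ N ∧ ∀ a : R, (∀ m, a • m ∈ N) → ∀ m, a • m ∈ P₁}
  have hP₁Γ : P₁ ∈ Γ := ⟨le_rfl, fun a h => h⟩
  obtain ⟨N₀, hP₁N₀, hN₀max⟩ := zorn_le_nonempty₀ Γ (by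
    intro c hcΓ hchain y hy
    refine ⟨sSup c, ⟨(hcΓ hy).1.trans (le_sSup hy), ?_⟩, fun z hz => le_sSup hz⟩
    intro a ha
    have hdir : DirectedOn (· ≤ ·) c := hchain.directedOn
    have hfin : ∀ T : Finset (Fin n), ∃ N ∈ c, ∀ i ∈ T, a • b i ∈ N := by
      intro T
      induction T using Finset.induction_on with
      | empty => exact ⟨y, hy, fun i hi => absurd hi (Finset.notMem_empty i)⟩
      | insert i T hiT ih =>
        obtain ⟨N, hNc, hN⟩ := ih
        obtain ⟨N', hN'c, hN'⟩ :=
          (Submodule.mem_sSup_of_directed ⟨y, hy⟩ hdir).mp (ha (b i))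
        rcases hchain.total hNc hN'c with hle | hle
        · refine ⟨N', hN'c, fun j hj => ?_⟩
          rcases Finset.mem_insert.mp hj with rfl | hj
          · exact hN'
          · exact hle (hN j hj)
        · refine ⟨N, hNc, fun j hj => ?_⟩
          rcases Finset.mem_insert.mp hj with rfl | hj
          · exact hle hN'
          · exact hN j hj
    obtain ⟨N, hNc, hN⟩ := hfin Finset.univ
    exact (hcΓ hNc).2 a (hgen N a fun i => hN i (Finset.mem_univ i))) P₁ hP₁Γ
  have hN₀Γ : N₀ ∈ Γ := hN₀max.1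
  -- Step 3: `M ⧸ N₀` is Noetherian
  have hM₂ : IsNoetherian R (M ⧸ N₀) := by
    rw [isNoetherian_def]
    intro N''
    by_cases hbot : N'' = ⊥
    · rw [hbot]; exact Submodule.fg_bot
    obtain ⟨N', hN'⟩ : ∃ N' : Submodule R M, N' = N''.comap N₀.mkQ := ⟨_, rfl⟩
    have hmemN' : ∀ x : M, x ∈ N' ↔ N₀.mkQ x ∈ N'' := by
      intro x; rw [hN']; exact Submodule.mem_comap
    have hN₀N' : N₀ ≤ N' := by
      intro x hx
      rw [hmemN', Submodule.mkQ_apply, (Submodule.Quotient.mk_eq_zero N₀).mpr hx]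
      exact N''.zero_mem
    have hN'Γ : N' ∉ Γ := by
      intro hmem
      have hle : N' ≤ N₀ := hN₀max.2 hmem hN₀N'
      apply hbot
      rw [eq_bot_iff]
      intro z hz
      obtain ⟨x, rfl⟩ := Submodule.mkQ_surjective N₀ z
      have hx : x ∈ N₀ := hle ((hmemN' x).mpr hz)
      rw [Submodule.mem_bot, Submodule.mkQ_apply, Submodule.Quotient.mk_eq_zero]
      exact hx
    have hex : ∃ a : R, (∀ m, a • m ∈ N') ∧ ¬ ∀ m, a • m ∈ P₁ := by
      by_contra hcon
      push_neg at hcon
      exact hN'Γ ⟨hP₁N₀.trans hN₀N', hcon⟩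
    obtain ⟨a, haN', haP₁⟩ := hex
    obtain ⟨J, hJ⟩ : ∃ J : Ideal R, J = Ideal.span {a} := ⟨_, rfl⟩
    have haJ : a ∈ J := by rw [hJ]; exact Ideal.subset_span rfl
    have hJP₁ : ¬ (J • (⊤ : Submodule R M) ≤ P₁) := by
      intro hle
      exact haP₁ fun m => hle (Submodule.smul_mem_smul haJ Submodule.mem_top)
    have hnoeth := hA J hJP₁
    obtain ⟨K, hK⟩ : ∃ K : Submodule R (M ⧸ N₀), K = J • (⊤ : Submodule R (M ⧸ N₀)) := ⟨_, rfl⟩
    have hKN'' : K ≤ N'' := by
      rw [hK]
      apply Submodule.smul_le.mpr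
      intro r hr z _
      rw [hJ] at hr
      obtain ⟨c, rfl⟩ := Ideal.mem_span_singleton'.mp hr
      obtain ⟨x, rfl⟩ := Submodule.mkQ_surjective N₀ z
      have h1 : (c * a) • N₀.mkQ x = c • N₀.mkQ (a • x) := by rw [mul_smul, map_smul]
      rw [h1]
      exact N''.smul_mem c ((hmemN' _).mp (haN' x))
    have hKfg : K.FG := by
      rw [hK, hJ]
      exact Submodule.FG.smul (Submodule.fg_span_singleton a) Module.Finite.fg_top
    have hquot : IsNoetherian R ((M ⧸ N₀) ⧸ K) := by
      have hker : (I ⊔ J) • (⊤ : Submodule R M) ≤ LinearMap.ker (K.mkQ.comp N₀.mkQ) := by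
        rw [Submodule.sup_smul]
        apply sup_le
        · intro x hx
          rw [← hP₁] at hx
          rw [LinearMap.mem_ker, LinearMap.comp_apply, Submodule.mkQ_apply N₀,
            (Submodule.Quotient.mk_eq_zero N₀).mpr (hP₁N₀ hx), map_zero]
        · apply Submodule.smul_le.mpr
          intro r hr x _
          rw [LinearMap.mem_ker, LinearMap.comp_apply, map_smul, Submodule.mkQ_apply K,
            Submodule.Quotient.mk_eq_zero, hK]
          exact Submodule.smul_mem_smul hr Submodule.mem_top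
      haveI := hnoeth
      refine isNoetherian_of_surjective (Submodule.liftQ _ (K.mkQ.comp N₀.mkQ) hker) ?_
      rw [Submodule.range_liftQ, LinearMap.range_eq_top]
      exact (Submodule.mkQ_surjective K).comp (Submodule.mkQ_surjective N₀)
    apply Submodule.fg_of_fg_map_of_fg_inf_ker K.mkQ
    · exact IsNoetherian.noetherian _
    · rw [Submodule.ker_mkQ, inf_eq_right.mpr hKN'']
      exact hKfg
  -- Step 4: `M ⧸ P₁` is Noetherian, contradiction
  apply hP₁not
  let ψ : R →ₗ[R] (Fin n → M ⧸ N₀) :=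
    LinearMap.pi fun i => LinearMap.toSpanSingleton R (M ⧸ N₀) (N₀.mkQ (b i))
  obtain ⟨K, hK⟩ : ∃ K : Submodule R R, K = LinearMap.ker ψ := ⟨_, rfl⟩
  haveI hRK : IsNoetherian R (R ⧸ K) := by
    rw [hK]
    exact isNoetherian_of_linearEquiv ψ.quotKerEquivRange.symm
  have hKP : ∀ r ∈ K, ∀ m, r • m ∈ P₁ := by
    intro r hr
    apply hN₀Γ.2 r
    apply hgen N₀ r
    intro i
    rw [hK] at hr
    have h1 : ψ r = 0 := hr
    have h2 : r • N₀.mkQ (b i) = 0 := by
      have := congrFun h1 i
      simpa [ψ] using this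
    rw [← map_smul, Submodule.mkQ_apply, Submodule.Quotient.mk_eq_zero] at h2
    exact h2
  let g : Fin n → (R ⧸ K) →ₗ[R] (M ⧸ P₁) := fun i =>
    K.liftQ (LinearMap.toSpanSingleton R (M ⧸ P₁) (P₁.mkQ (b i))) (by
      intro r hr
      rw [LinearMap.mem_ker, LinearMap.toSpanSingleton_apply, ← map_smul, Submodule.mkQ_apply,
        Submodule.Quotient.mk_eq_zero]
      exact hKP r hr (b i))
  let Φ : (Fin n → R ⧸ K) →ₗ[R] (M ⧸ P₁) := ∑ i, (g i).comp (LinearMap.proj i)
  have hΦ : Function.Surjective Φ := by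
    intro z
    obtain ⟨m, rfl⟩ := Submodule.mkQ_surjective P₁ z
    have hm : m ∈ Submodule.span R (Set.range b) := by rw [hb]; exact Submodule.mem_top
    obtain ⟨c, rfl⟩ := (Submodule.mem_span_range_iff_exists_fun R).mp hm
    refine ⟨fun i => Submodule.Quotient.mk (c i), ?_⟩
    simp only [Φ, g, LinearMap.sum_apply, LinearMap.comp_apply, LinearMap.proj_apply, map_sum,
      map_smul, Submodule.liftQ_apply, LinearMap.toSpanSingleton_apply]
  exact isNoetherian_of_surjective Φ (LinearMap.range_eq_top.mpr hΦ)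

/-- **Eakin–Nagata**: if `B ⊆ A`, `A` is a finite `B`-module and `A` is Noetherian,
then `B` is Noetherian. -/
theorem isNoetherianRing_of_finite {B : Type*} {A : Type*} [CommRing B] [CommRing A] [Algebra B A]
    [Module.Finite B A] [IsNoetherianRing A] (hinj : Function.Injective (algebraMap B A)) :
    IsNoetherianRing B := by
  haveI : IsNoetherian B A := by
    apply isNoetherian_of_acc_smul_top
    intro S hS
    have hwf : WellFounded ((· > ·) : Ideal A → Ideal A → Prop) := wellFounded_gt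
    obtain ⟨I', ⟨I, hIS, rfl⟩, hmin⟩ :=
      hwf.has_min (Ideal.map (algebraMap B A) '' S) (hS.image _)
    refine ⟨I, hIS, fun J hJS hle => ?_⟩
    rw [Ideal.smul_top_eq_map, Ideal.smul_top_eq_map] at hle ⊢
    have hle' : I.map (algebraMap B A) ≤ J.map (algebraMap B A) := fun x hx => hle hx
    have hnot : ¬ I.map (algebraMap B A) < J.map (algebraMap B A) := hmin _ ⟨J, hJS, rfl⟩
    have heq : I.map (algebraMap B A) = J.map (algebraMap B A) := eq_of_le_of_not_lt hle' hnot
    rw [heq]
  exact isNoetherian_of_injective (Algebra.linearMap B A) hinj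

end Groth.Agent.H75.EakinNagata
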