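import Mathlib
import Groth.Prelude.Def_SGA1t

set_option autoImplicit false
universe u v
open AlgebraicGeometry CategoryTheory CategoryTheory.Limits

namespace Groth.Agent.H75.FEtRing

variable {A : Type u} [CommRing A]

section Model
variable (P : FEt.Cat (Spec (CommRingCat.of A)))

/-- `P.hom` with its codomain displayed as `Spec A`. -/
def hom' : P.left ⟶ Spec (CommRingCat.of A) := P.hom

theorem isFinite_hom : IsFinite (hom' P) := P.prop.1
theorem etale_hom : Etale (hom' P) := P.prop.2

theorem isAffine_left : IsAffine P.left := by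
  have := isFinite_hom P
  exact isAffine_of_isAffineHom (hom' P)

/-- the structure map `A → Γ(P.left, ⊤)` -/
noncomputable def phi : CommRingCat.of A ⟶ Γ(P.left, ⊤) :=
  (Scheme.ΓSpecIso (CommRingCat.of A)).inv ≫ (hom' P).appTop

theorem hom_eq : haveI := isAffine_left P
    P.left.isoSpec.hom ≫ Spec.map (phi P) = hom' P := by
  haveI := isAffine_left P
  rw [phi, Spec.map_comp, ← Category.assoc, Scheme.isoSpec_hom_naturality, Category.assoc,
    Scheme.isoSpec_Spec_hom, ← Spec.map_comp, Iso.inv_hom_id, Spec.map_id, Category.comp_id]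

theorem phi_finite : (phi P).hom.Finite := by
  haveI := isAffine_left P
  haveI := isFinite_hom P
  have hfin : RingHom.Finite (hom' P).appTop.hom :=
    ((HasAffineProperty.iff_of_isAffine (P := @IsFinite)).mp ‹IsFinite (hom' P)›).2
  let e := Scheme.ΓSpecIso (CommRingCat.of A)
  have hesurj : Function.Surjective e.inv.hom := fun x =>
    ⟨e.hom.hom x, by
      have := congrArg (fun k => k.hom x) e.hom_inv_id
      simpa using this⟩
  exact hfin.comp (RingHom.Finite.of_surjective _ hesurj)

theorem phi_etale : (phi P).hom.Etale := by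
  haveI := isAffine_left P
  haveI := etale_hom P
  have h1 : RingHom.Etale (hom' P).appTop.hom :=
    (HasRingHomProperty.iff_of_isAffine (P := @Etale)).mp ‹Etale (hom' P)›
  have h2 : RingHom.Etale (Scheme.ΓSpecIso (CommRingCat.of A)).inv.hom :=
    RingHom.Etale.of_bijective
      (ConcreteCategory.bijective_of_isIso (Scheme.ΓSpecIso (CommRingCat.of A)).inv)
  exact RingHom.Etale.stableUnderComposition _ _ h2 h1

/-- the action of an automorphism on global sections, as an `A`-algebra map -/
theorem appTop_comp_phi (f : P ⟶ P) : phi P ≫ f.left.appTop = phi P := by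
  have hw : f.left ≫ hom' P = hom' P := Over.w f.hom
  rw [phi, Category.assoc, ← Scheme.Hom.comp_appTop, hw]

end Model

section Main
variable (A)

theorem exists_ring_model (G : Type v) [Group G] (P : FEt.Cat (Spec (CommRingCat.of A)))
    (ρ : G →* Aut P) :
    ∃ (B : Type u) (_ : CommRing B) (_ : Algebra A B) (_ : Module.Finite A B)
      (_ : Algebra.Etale A B)
      (e : P.left ≅ Spec (CommRingCat.of B)) (σ : G → (B →ₐ[A] B)),
      e.hom ≫ Spec.map (CommRingCat.ofHom (algebraMap A B)) = P.hom ∧
      (∀ g, (ρ g).hom.left ≫ e.hom = e.hom ≫ Spec.map (CommRingCat.ofHom (σ g).toRingHom)) ∧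
      (σ 1 = AlgHom.id A B) ∧ (∀ g h, σ (g * h) = (σ h).comp (σ g)) ∧
      (SGA1t.IsPrincipal G P ρ →
        Function.Surjective (PrimeSpectrum.comap (algebraMap A B)) ∧
        ∀ (Ω : Type u) [Field Ω] [IsAlgClosed Ω] (χ χ' : B →+* Ω),
          χ.comp (algebraMap A B) = χ'.comp (algebraMap A B) →
          ∃! g : G, χ.comp (σ g).toRingHom = χ') := by
  haveI := isAffine_left P
  letI alg : Algebra A Γ(P.left, ⊤) := (phi P).hom.toAlgebra
  have halg : algebraMap A Γ(P.left, ⊤) = (phi P).hom := rfl
  have hfin : Module.Finite A Γ(P.left, ⊤) := phi_finite P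
  have het : Algebra.Etale A Γ(P.left, ⊤) := phi_etale P
  let σ : G → (Γ(P.left, ⊤) →ₐ[A] Γ(P.left, ⊤)) := fun g =>
    { toRingHom := (ρ g).hom.left.appTop.hom
      commutes' := fun r => by
        have := congrArg (fun k => k.hom r) (appTop_comp_phi P (ρ g).hom)
        exact this }
  have hσ : ∀ g, (σ g).toRingHom = (ρ g).hom.left.appTop.hom := fun g => rfl
  have hnat : ∀ g, (ρ g).hom.left ≫ P.left.isoSpec.hom =
      P.left.isoSpec.hom ≫ Spec.map (CommRingCat.ofHom (σ g).toRingHom) := by
    intro g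
    rw [hσ, CommRingCat.ofHom_hom, Scheme.isoSpec_hom_naturality]
  have hnat' : ∀ g, P.left.isoSpec.inv ≫ (ρ g).hom.left =
      Spec.map (CommRingCat.ofHom (σ g).toRingHom) ≫ P.left.isoSpec.inv := by
    intro g
    rw [hσ, CommRingCat.ofHom_hom, Scheme.isoSpec_inv_naturality]
  have hhom : P.left.isoSpec.hom ≫
      Spec.map (CommRingCat.ofHom (algebraMap A Γ(P.left, ⊤))) = P.hom := by
    rw [halg, CommRingCat.ofHom_hom]; exact hom_eq P
  refine ⟨Γ(P.left, ⊤), inferInstance, alg, hfin, het, P.left.isoSpec, σ, hhom, hnat, ?_, ?_, ?_⟩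
  · apply AlgHom.ext
    intro x
    show (ρ 1).hom.left.appTop.hom x = x
    have h1 : (ρ 1).hom.left = 𝟙 P.left := by rw [map_one]; rfl
    rw [h1]
    simp
  · intro g h
    apply AlgHom.ext
    intro x
    show (ρ (g * h)).hom.left.appTop.hom x =
      (ρ h).hom.left.appTop.hom ((ρ g).hom.left.appTop.hom x)
    rw [map_mul]
    have : (ρ g * ρ h).hom.left = (ρ h).hom.left ≫ (ρ g).hom.left := rfl
    rw [this, Scheme.Hom.comp_appTop]
    rfl
  · intro hP
    constructor
    · have h1 : Function.Surjective (hom' P).base := hP.1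
      have h2 : Function.Surjective (Spec.map (phi P)).base := by
        rw [← hom_eq P] at h1
        intro y
        obtain ⟨x, hx⟩ := h1 y
        exact ⟨P.left.isoSpec.hom.base x, by simpa using hx⟩
      intro y
      obtain ⟨x, hx⟩ := h2 y
      exact ⟨x, hx⟩
    · intro Ω _ _ χ χ' hχ
      let ξ : Spec (CommRingCat.of Ω) ⟶ Spec (CommRingCat.of A) :=
        Spec.map (CommRingCat.ofHom (χ.comp (algebraMap A Γ(P.left, ⊤))))
      have hs : ∀ (c : Γ(P.left, ⊤) →+* Ω),
          c.comp (algebraMap A Γ(P.left, ⊤)) = χ.comp (algebraMap A Γ(P.left, ⊤)) →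
          (Spec.map (CommRingCat.ofHom c) ≫ P.left.isoSpec.inv) ≫ P.hom = ξ := by
        intro c hc
        rw [← hhom, Category.assoc, Iso.inv_hom_id_assoc, ← Spec.map_comp, ← CommRingCat.ofHom_comp, hc]
      let s : FEt.fiberObj ξ P := ⟨Spec.map (CommRingCat.ofHom χ) ≫ P.left.isoSpec.inv, hs χ rfl⟩
      let t : FEt.fiberObj ξ P := ⟨Spec.map (CommRingCat.ofHom χ') ≫ P.left.isoSpec.inv, hs χ' hχ.symm⟩
      have key : ∀ g : G, (FEt.fiber ξ).map (ρ g).hom s = t ↔ χ.comp (σ g).toRingHom = χ' := by
        intro g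
        have e1 : ((FEt.fiber ξ).map (ρ g).hom s).1 = s.1 ≫ (ρ g).hom.left := rfl
        have e2 : s.1 ≫ (ρ g).hom.left =
            Spec.map (CommRingCat.ofHom (χ.comp (σ g).toRingHom)) ≫ P.left.isoSpec.inv := by
          show (Spec.map (CommRingCat.ofHom χ) ≫ P.left.isoSpec.inv) ≫ (ρ g).hom.left = _
          rw [Category.assoc, hnat' g, ← Category.assoc, ← Spec.map_comp, ← CommRingCat.ofHom_comp]
        constructor
        · intro h
          have h' : ((FEt.fiber ξ).map (ρ g).hom s).1 = t.1 := congrArg Subtype.val h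
          rw [e1, e2] at h'
          have h'' : Spec.map (CommRingCat.ofHom (χ.comp (σ g).toRingHom)) =
              Spec.map (CommRingCat.ofHom χ') := (cancel_mono P.left.isoSpec.inv).mp h'
          exact congrArg CommRingCat.Hom.hom (Spec.map_injective h'')
        · intro h
          apply Subtype.ext
          rw [e1, e2, h]
      obtain ⟨g, hg, huniq⟩ := hP.2 Ω ξ s t
      exact ⟨g, (key g).mp hg, fun g' hg' => huniq g' ((key g').mpr hg')⟩

end Main

end Groth.Agent.H75.FEtRing
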