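/-
Helper library (helper75): the Lubin–Tate lemma.  For `f = π T + T ^ q` the equation
`π H + c H ^ q = H (f X₁, …, f Xₙ)` has at most one solution with prescribed linear part, and it
has one as soon as the difference of the two sides is always divisible by `π`.
No milestone is proved here.
-/
import Mathlib.RingTheory.FormalGroup.Basic
import Mathlib.RingTheory.MvPowerSeries.Expand
import Mathlib.RingTheory.MvPowerSeries.Order
import Mathlib.RingTheory.DiscreteValuationRing.Basic
import Mathlib.RingTheory.LocalRing.ResidueField.Basic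
import Mathlib.FieldTheory.Finite.Basic
import Mathlib.Algebra.Ring.GeomSum
import Mathlib.Tactic.LinearCombination

set_option autoImplicit false

noncomputable section

namespace Groth.Agent.H75.LT

open MvPowerSeries

variable {A : Type*} [CommRing A] {σ : Type*}

/-- `f (X i)` for `f = π T + T ^ q` -/
def fX (σ : Type*) (π : A) (q : ℕ) (i : σ) : MvPowerSeries σ A := π • X i + X i ^ q

/-- `H ↦ H (f X₁, …, f Xₙ)` -/
def phi (π : A) (q : ℕ) (H : MvPowerSeries σ A) : MvPowerSeries σ A := subst (fX σ π q) H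

/-- `H ↦ π H + c H ^ q` -/
def psi (π : A) (q : ℕ) (c : A) (H : MvPowerSeries σ A) : MvPowerSeries σ A :=
  π • H + c • H ^ q

/-- the cofactor of `X i` in `f (X i)` -/
def wX (σ : Type*) (π : A) (q : ℕ) (i : σ) : MvPowerSeries σ A := C π + X i ^ (q - 1)

lemma constantCoeff_fX (π : A) {q : ℕ} (hq : 2 ≤ q) (i : σ) :
    constantCoeff (fX σ π q i) = 0 := by
  rw [fX, map_add, smul_eq_C_mul, map_mul, constantCoeff_X, mul_zero, map_pow, constantCoeff_X,
    zero_pow (by omega), add_zero]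

lemma hasSubst_fX [Finite σ] (π : A) {q : ℕ} (hq : 2 ≤ q) : HasSubst (fX σ π q) :=
  hasSubst_of_constantCoeff_zero (constantCoeff_fX π hq)

lemma fX_eq (π : A) {q : ℕ} (hq : 2 ≤ q) (i : σ) : fX σ π q i = X i * wX σ π q i := by
  rw [fX, wX, mul_add, smul_eq_C_mul, mul_comm (X i) (C π), ← pow_succ',
    Nat.sub_add_cancel (by omega)]

lemma constantCoeff_wX (π : A) {q : ℕ} (hq : 2 ≤ q) (i : σ) :
    constantCoeff (wX σ π q i) = π := by
  rw [wX, map_add, constantCoeff_C, map_pow, constantCoeff_X, zero_pow (by omega), add_zero]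

lemma coeff_subst_X_mul [Finite σ] (π : A) (w : σ → MvPowerSeries σ A)
    (hw : ∀ s, constantCoeff (w s) = π) (D : MvPowerSeries σ A) (d : σ →₀ ℕ)
    (hd : (d.degree : ℕ∞) ≤ D.order) :
    coeff d (subst (fun s => X s * w s) D) = π ^ d.degree * coeff d D := by
  classical
  have ha : HasSubst (fun s => X s * w s) :=
    hasSubst_of_constantCoeff_zero (fun s => by rw [map_mul, constantCoeff_X, zero_mul])
  have hprod : ∀ e : σ →₀ ℕ, (e.prod fun s k => (X s * w s) ^ k) =
      monomial e (1 : A) * e.prod fun s k => w s ^ k := by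
    intro e
    rw [monomial_one_eq, ← Finsupp.prod_mul]
    simp only [mul_pow]
  have hp : (d.prod fun _ k => π ^ k) = π ^ d.degree := by
    rw [Finsupp.degree_apply, ← Finset.prod_pow_eq_pow_sum]
    rfl
  rw [coeff_subst ha, finsum_eq_single _ d]
  · rw [hprod, coeff_monomial_mul, if_pos le_rfl, tsub_self, one_mul,
      coeff_zero_eq_constantCoeff_apply, map_finsuppProd]
    simp only [map_pow, hw]
    rw [hp, smul_eq_mul, mul_comm]
  · intro e he
    by_cases hDe : coeff e D = 0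
    · rw [hDe, zero_smul]
    · rw [hprod, coeff_monomial_mul, if_neg, smul_zero]
      intro hle
      apply he
      have h1 : (d.degree : ℕ∞) ≤ e.degree := hd.trans (order_le hDe)
      have h2 : d.degree ≤ e.degree := by exact_mod_cast h1
      have h3 : e + (d - e) = d := add_tsub_cancel_of_le hle
      have h4 : e.degree + (d - e).degree = d.degree := by rw [← map_add, h3]
      have h5 : (d - e).degree = 0 := by omega
      have h6 : d - e = 0 := (Finsupp.degree_eq_zero_iff _).mp h5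
      rw [← h3, h6, add_zero]

lemma coeff_phi [Finite σ] (π : A) {q : ℕ} (hq : 2 ≤ q) (D : MvPowerSeries σ A) (d : σ →₀ ℕ)
    (hd : (d.degree : ℕ∞) ≤ D.order) : coeff d (phi π q D) = π ^ d.degree * coeff d D := by
  have h : fX σ π q = fun s => X s * wX σ π q s := funext (fX_eq π hq)
  rw [phi, h]
  exact coeff_subst_X_mul π _ (constantCoeff_wX π hq) D d hd

lemma le_order_phi [Finite σ] (π : A) {q : ℕ} (hq : 2 ≤ q) (D : MvPowerSeries σ A) :
    D.order ≤ (phi π q D).order := by
  refine le_order fun d hd => ?_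
  rw [coeff_phi π hq D d hd.le, coeff_of_lt_order hd, mul_zero]

lemma phi_sub [Finite σ] (π : A) {q : ℕ} (hq : 2 ≤ q) (H H' : MvPowerSeries σ A) :
    phi π q (H - H') = phi π q H - phi π q H' := by
  rw [phi, phi, phi, subst_sub (hasSubst_fX π hq)]

lemma phi_add [Finite σ] (π : A) {q : ℕ} (hq : 2 ≤ q) (H H' : MvPowerSeries σ A) :
    phi π q (H + H') = phi π q H + phi π q H' := by
  rw [phi, phi, phi, subst_add (hasSubst_fX π hq)]

lemma phi_smul [Finite σ] (π : A) {q : ℕ} (hq : 2 ≤ q) (r : A) (H : MvPowerSeries σ A) :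
    phi π q (r • H) = r • phi π q H := by
  rw [phi, phi, subst_smul (hasSubst_fX π hq)]

lemma le_order_sub' {n : ℕ∞} {a b : MvPowerSeries σ A} (ha : n ≤ a.order) (hb : n ≤ b.order) :
    n ≤ (a - b).order := by
  rw [sub_eq_add_neg]
  exact le_trans (le_min ha (by rwa [order_neg])) min_order_le_add

lemma le_order_add' {n : ℕ∞} {a b : MvPowerSeries σ A} (ha : n ≤ a.order) (hb : n ≤ b.order) :
    n ≤ (a + b).order :=
  le_trans (le_min ha hb) min_order_le_add

lemma psi_sub (π : A) (q : ℕ) (c : A) (H H' : MvPowerSeries σ A) :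
    psi π q c H - psi π q c H' =
      π • (H - H') + c • ((H - H') * ∑ i ∈ Finset.range q, H ^ i * H' ^ (q - 1 - i)) := by
  have hg := geom_sum₂_mul H H' q
  rw [psi, psi, mul_comm (H - H'), hg, smul_sub, smul_sub]
  abel

lemma constantCoeff_geom {q : ℕ} (hq : 2 ≤ q) (H H' : MvPowerSeries σ A)
    (h0 : constantCoeff H = 0) (h0' : constantCoeff H' = 0) :
    constantCoeff (∑ i ∈ Finset.range q, H ^ i * H' ^ (q - 1 - i)) = 0 := by
  rw [map_sum]
  refine Finset.sum_eq_zero fun i hi => ?_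
  rw [map_mul, map_pow, map_pow, h0, h0']
  rcases Nat.eq_zero_or_pos i with rfl | hi0
  · rw [zero_pow (by omega : q - 1 - 0 ≠ 0), mul_zero]
  · rw [zero_pow (by omega : i ≠ 0), zero_mul]

lemma order_mul_geom {q : ℕ} (hq : 2 ≤ q) (H H' : MvPowerSeries σ A)
    (h0 : constantCoeff H = 0) (h0' : constantCoeff H' = 0) {n : ℕ}
    (hn : (n : ℕ∞) ≤ (H - H').order) :
    ((n + 1 : ℕ) : ℕ∞) ≤
      ((H - H') * ∑ i ∈ Finset.range q, H ^ i * H' ^ (q - 1 - i)).order := by
  refine le_trans ?_ le_order_mul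
  push_cast
  exact add_le_add hn
    (one_le_order_iff_constCoeff_eq_zero.mpr (constantCoeff_geom hq H H' h0 h0'))

lemma coeff_psi_sub {q : ℕ} (hq : 2 ≤ q) (π c : A) (H H' : MvPowerSeries σ A)
    (h0 : constantCoeff H = 0) (h0' : constantCoeff H' = 0) {n : ℕ}
    (hn : (n : ℕ∞) ≤ (H - H').order) (d : σ →₀ ℕ) (hd : d.degree ≤ n) :
    coeff d (psi π q c H - psi π q c H') = π * coeff d (H - H') := by
  have hlt : (d.degree : ℕ∞) <
      ((H - H') * ∑ i ∈ Finset.range q, H ^ i * H' ^ (q - 1 - i)).order :=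
    lt_of_lt_of_le (by exact_mod_cast Nat.lt_succ_of_le hd) (order_mul_geom hq H H' h0 h0' hn)
  rw [psi_sub, map_add, coeff_smul, coeff_smul, coeff_of_lt_order hlt, mul_zero, add_zero]

lemma le_order_psi_sub {q : ℕ} (hq : 2 ≤ q) (π c : A) (H H' : MvPowerSeries σ A)
    (h0 : constantCoeff H = 0) (h0' : constantCoeff H' = 0) {n : ℕ}
    (hn : (n : ℕ∞) ≤ (H - H').order) :
    (n : ℕ∞) ≤ (psi π q c H - psi π q c H').order := by
  rw [psi_sub]
  refine le_order_add' (hn.trans le_order_smul) (le_trans ?_ le_order_smul)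
  exact le_trans (by exact_mod_cast Nat.le_succ n) (order_mul_geom hq H H' h0 h0' hn)

/-- uniqueness in the Lubin–Tate lemma -/
theorem uniq [IsDomain A] [Finite σ] (π : A) {q : ℕ} (hq : 2 ≤ q) (c : A) (hπ : π ≠ 0)
    (hun : ∀ r : ℕ, 1 ≤ r → IsUnit (1 - π ^ r))
    (H H' : MvPowerSeries σ A) (h0 : constantCoeff H = 0) (h0' : constantCoeff H' = 0)
    (h2 : ((2 : ℕ) : ℕ∞) ≤ (H - H').order)
    (hH : psi π q c H = phi π q H) (hH' : psi π q c H' = phi π q H') : H = H' := by
  have key : ∀ n : ℕ, ((n + 2 : ℕ) : ℕ∞) ≤ (H - H').order := by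
    intro n
    induction n with
    | zero => exact h2
    | succ n ih =>
      refine nat_le_order fun d hd => ?_
      by_cases hlt : d.degree < n + 2
      · exact coeff_of_lt_order (lt_of_lt_of_le (by exact_mod_cast hlt) ih)
      · have hdeg : d.degree = n + 2 := by omega
        have e1 := coeff_psi_sub hq π c H H' h0 h0' ih d (by omega)
        have e2 : psi π q c H - psi π q c H' = phi π q (H - H') := by
          rw [hH, hH', phi_sub π hq]
        have e3 := coeff_phi π hq (H - H') d (by rw [hdeg]; exact ih)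
        rw [e2, e3, hdeg] at e1
        have e4 : π * (1 - π ^ (n + 1)) * coeff d (H - H') = 0 := by
          have : π * (1 - π ^ (n + 1)) * coeff d (H - H') =
              π * coeff d (H - H') - π ^ (n + 2) * coeff d (H - H') := by ring
          rw [this, e1, sub_self]
        have hne : π * (1 - π ^ (n + 1)) ≠ 0 :=
          mul_ne_zero hπ (hun (n + 1) (by omega)).ne_zero
        exact (mul_eq_zero.mp e4).resolve_left hne
  have hz : H - H' = 0 := by
    ext d
    rw [map_zero]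
    exact coeff_of_lt_order (lt_of_lt_of_le
      (by exact_mod_cast (by omega : d.degree < d.degree + 2)) (key d.degree))
  exact sub_eq_zero.mp hz

lemma base [Finite σ] (π : A) {q : ℕ} (hq : 2 ≤ q) (c : A) (H : MvPowerSeries σ A)
    (h0 : constantCoeff H = 0) : ((2 : ℕ) : ℕ∞) ≤ (psi π q c H - phi π q H).order := by
  have h1 : (1 : ℕ∞) ≤ H.order := one_le_order_iff_constCoeff_eq_zero.mpr h0
  have hq' : ((q : ℕ) : ℕ∞) ≤ (H ^ q).order := le_order_pow_of_constantCoeff_eq_zero q h0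
  refine nat_le_order fun d hd => ?_
  have e3 := coeff_phi π hq H d
    (le_trans (by exact_mod_cast (by omega : d.degree ≤ 1)) h1)
  have e4 : coeff d (H ^ q) = 0 :=
    coeff_of_lt_order (lt_of_lt_of_le (by exact_mod_cast (by omega : d.degree < q)) hq')
  rw [psi, map_sub, map_add, coeff_smul, coeff_smul, e3, e4, mul_zero, add_zero]
  by_cases hd0 : d.degree = 0
  · have : coeff d H = 0 :=
      coeff_of_lt_order (lt_of_lt_of_le (by exact_mod_cast (by omega : d.degree < 1)) h1)
    rw [this]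
    ring
  · have : d.degree = 1 := by omega
    rw [this]
    ring

lemma step [IsDomain A] [Finite σ] (π : A) {q : ℕ} (hq : 2 ≤ q) (c : A) (hπ : π ≠ 0)
    (H Δ : MvPowerSeries σ A) (hΔ : π • Δ = psi π q c H - phi π q H)
    (n : ℕ) (u : A) (hu : (1 - π ^ (n + 1)) * u = 1) (h0 : constantCoeff H = 0)
    (hord : ((n + 2 : ℕ) : ℕ∞) ≤ (psi π q c H - phi π q H).order) :
    constantCoeff (H - u • Δ) = 0 ∧ ((n + 2 : ℕ) : ℕ∞) ≤ (H - (H - u • Δ)).order ∧
      ((n + 1 + 2 : ℕ) : ℕ∞) ≤ (psi π q c (H - u • Δ) - phi π q (H - u • Δ)).order := by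
  have hΔord : ((n + 2 : ℕ) : ℕ∞) ≤ Δ.order := by
    refine nat_le_order fun d hd => ?_
    have h1 : coeff d (π • Δ) = 0 := by
      rw [hΔ]
      exact coeff_of_lt_order (lt_of_lt_of_le (by exact_mod_cast hd) hord)
    rw [coeff_smul] at h1
    exact (mul_eq_zero.mp h1).resolve_left hπ
  have hE : H - (H - u • Δ) = u • Δ := sub_sub_cancel _ _
  have hEord : ((n + 2 : ℕ) : ℕ∞) ≤ (H - (H - u • Δ)).order := by
    rw [hE]
    exact hΔord.trans le_order_smul
  have hE0 : constantCoeff (u • Δ) = 0 := by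
    rw [← coeff_zero_eq_constantCoeff_apply]
    refine coeff_of_lt_order (lt_of_lt_of_le ?_ (hΔord.trans le_order_smul))
    rw [map_zero]
    exact_mod_cast (by omega : 0 < n + 2)
  have h0' : constantCoeff (H - u • Δ) = 0 := by rw [map_sub, h0, hE0, sub_zero]
  refine ⟨h0', hEord, ?_⟩
  refine nat_le_order fun d hd => ?_
  have hdecomp : psi π q c (H - u • Δ) - phi π q (H - u • Δ) =
      π • Δ - (psi π q c H - psi π q c (H - u • Δ)) + phi π q (H - (H - u • Δ)) := by
    rw [hΔ, phi_sub π hq]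
    abel
  have e1 := coeff_psi_sub hq π c H (H - u • Δ) h0 h0' hEord d (by omega)
  have e3 := coeff_phi π hq (H - (H - u • Δ)) d
    (le_trans (by exact_mod_cast (by omega : d.degree ≤ n + 2)) hEord)
  rw [hdecomp, map_add, map_sub, e1, e3, hE, coeff_smul, coeff_smul]
  by_cases hlt : d.degree < n + 2
  · have : coeff d Δ = 0 := coeff_of_lt_order (lt_of_lt_of_le (by exact_mod_cast hlt) hΔord)
    rw [this]
    ring
  · have hdeg : d.degree = n + 2 := by omega
    rw [hdeg]
    linear_combination (-(π * coeff d Δ)) * hu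

/-- the sequence of successive approximations -/
def seq (Δ : MvPowerSeries σ A → MvPowerSeries σ A) (u : ℕ → A) (L : MvPowerSeries σ A) :
    ℕ → MvPowerSeries σ A
  | 0 => L
  | n + 1 => seq Δ u L n - u n • Δ (seq Δ u L n)

lemma seq_zero (Δ : MvPowerSeries σ A → MvPowerSeries σ A) (u : ℕ → A) (L : MvPowerSeries σ A) :
    seq Δ u L 0 = L := rfl

lemma seq_succ (Δ : MvPowerSeries σ A → MvPowerSeries σ A) (u : ℕ → A) (L : MvPowerSeries σ A)
    (n : ℕ) : seq Δ u L (n + 1) = seq Δ u L n - u n • Δ (seq Δ u L n) := rfl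

lemma seq_inv [IsDomain A] [Finite σ] (π : A) {q : ℕ} (hq : 2 ≤ q) (c : A) (hπ : π ≠ 0)
    (Δ : MvPowerSeries σ A → MvPowerSeries σ A)
    (hΔ : ∀ H, π • Δ H = psi π q c H - phi π q H)
    (u : ℕ → A) (hu : ∀ n, (1 - π ^ (n + 1)) * u n = 1) (L : MvPowerSeries σ A)
    (hL : constantCoeff L = 0) (n : ℕ) :
    constantCoeff (seq Δ u L n) = 0 ∧
      ((n + 2 : ℕ) : ℕ∞) ≤ (psi π q c (seq Δ u L n) - phi π q (seq Δ u L n)).order := by
  induction n with
  | zero => exact ⟨hL, base π hq c L hL⟩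
  | succ n ih =>
    obtain ⟨h1, -, h3⟩ := step π hq c hπ (seq Δ u L n) (Δ (seq Δ u L n)) (hΔ _) n (u n) (hu n)
      ih.1 ih.2
    rw [seq_succ]
    exact ⟨h1, h3⟩

lemma seq_diff [IsDomain A] [Finite σ] (π : A) {q : ℕ} (hq : 2 ≤ q) (c : A) (hπ : π ≠ 0)
    (Δ : MvPowerSeries σ A → MvPowerSeries σ A)
    (hΔ : ∀ H, π • Δ H = psi π q c H - phi π q H)
    (u : ℕ → A) (hu : ∀ n, (1 - π ^ (n + 1)) * u n = 1) (L : MvPowerSeries σ A)
    (hL : constantCoeff L = 0) (n : ℕ) :
    ((n + 2 : ℕ) : ℕ∞) ≤ (seq Δ u L n - seq Δ u L (n + 1)).order := by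
  have h := seq_inv π hq c hπ Δ hΔ u hu L hL n
  rw [seq_succ]
  exact (step π hq c hπ (seq Δ u L n) (Δ (seq Δ u L n)) (hΔ _) n (u n) (hu n) h.1 h.2).2.1

/-- the coefficientwise limit of a sequence -/
def lim (s : ℕ → MvPowerSeries σ A) : MvPowerSeries σ A := fun d => coeff d (s d.degree)

lemma coeff_lim (s : ℕ → MvPowerSeries σ A) (d : σ →₀ ℕ) :
    coeff d (lim s) = coeff d (s d.degree) := rfl

lemma coeff_stable (s : ℕ → MvPowerSeries σ A)
    (hs : ∀ n, ((n + 2 : ℕ) : ℕ∞) ≤ (s n - s (n + 1)).order)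
    (d : σ →₀ ℕ) (m k : ℕ) (hd : d.degree < m + 2) :
    coeff d (s (m + k)) = coeff d (s m) := by
  induction k with
  | zero => rfl
  | succ k ih =>
    have h := coeff_of_lt_order (f := s (m + k) - s (m + k + 1)) (d := d)
      (lt_of_lt_of_le (by exact_mod_cast (by omega : d.degree < m + k + 2)) (hs (m + k)))
    rw [map_sub, sub_eq_zero] at h
    rw [← add_assoc, ← h, ih]

lemma coeff_lim_eq (s : ℕ → MvPowerSeries σ A)
    (hs : ∀ n, ((n + 2 : ℕ) : ℕ∞) ≤ (s n - s (n + 1)).order)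
    (d : σ →₀ ℕ) (n : ℕ) (hd : d.degree < n + 2) : coeff d (lim s) = coeff d (s n) := by
  rw [coeff_lim]
  rcases le_total n d.degree with h | h
  · obtain ⟨k, hk⟩ := Nat.exists_eq_add_of_le h
    rw [hk]
    exact coeff_stable s hs d n k hd
  · obtain ⟨k, hk⟩ := Nat.exists_eq_add_of_le h
    rw [hk]
    exact (coeff_stable s hs d d.degree k (by omega)).symm

lemma le_order_lim_sub (s : ℕ → MvPowerSeries σ A)
    (hs : ∀ n, ((n + 2 : ℕ) : ℕ∞) ≤ (s n - s (n + 1)).order) (n : ℕ) :
    ((n + 2 : ℕ) : ℕ∞) ≤ (lim s - s n).order := by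
  refine nat_le_order fun d hd => ?_
  rw [map_sub, coeff_lim_eq s hs d n hd, sub_self]

/-- existence in the Lubin–Tate lemma -/
theorem exist [IsDomain A] [Finite σ] (π : A) {q : ℕ} (hq : 2 ≤ q) (c : A) (hπ : π ≠ 0)
    (hun : ∀ r : ℕ, 1 ≤ r → IsUnit (1 - π ^ r))
    (hFr : ∀ H : MvPowerSeries σ A, ∃ Δ : MvPowerSeries σ A, π • Δ = psi π q c H - phi π q H)
    (L : MvPowerSeries σ A) (hL : constantCoeff L = 0) :
    ∃ H : MvPowerSeries σ A, constantCoeff H = 0 ∧ ((2 : ℕ) : ℕ∞) ≤ (H - L).order ∧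
      psi π q c H = phi π q H := by
  classical
  choose Δ hΔ using hFr
  have hu : ∀ n : ℕ, ∃ u : A, (1 - π ^ (n + 1)) * u = 1 :=
    fun n => (hun (n + 1) (by omega)).exists_right_inv
  choose u hu using hu
  have hinv := seq_inv π hq c hπ Δ hΔ u hu L hL
  have hs := seq_diff π hq c hπ Δ hΔ u hu L hL
  have hlim0 : constantCoeff (lim (seq Δ u L)) = 0 := by
    rw [← coeff_zero_eq_constantCoeff_apply,
      coeff_lim_eq _ hs 0 0 (by rw [map_zero]; omega), coeff_zero_eq_constantCoeff_apply]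
    exact (hinv 0).1
  refine ⟨lim (seq Δ u L), hlim0, ?_, ?_⟩
  · exact le_order_lim_sub _ hs 0
  · rw [← sub_eq_zero]
    ext d
    rw [map_zero]
    have hn := le_order_lim_sub _ hs d.degree
    have h1 := le_order_psi_sub hq π c _ _ hlim0 (hinv d.degree).1 hn
    have h2 : ((d.degree + 2 : ℕ) : ℕ∞) ≤
        (phi π q (lim (seq Δ u L) - seq Δ u L d.degree)).order :=
      hn.trans (le_order_phi π hq _)
    have h3 := (hinv d.degree).2
    have hdecomp : psi π q c (lim (seq Δ u L)) - phi π q (lim (seq Δ u L)) =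
        (psi π q c (lim (seq Δ u L)) - psi π q c (seq Δ u L d.degree)) -
          phi π q (lim (seq Δ u L) - seq Δ u L d.degree) +
          (psi π q c (seq Δ u L d.degree) - phi π q (seq Δ u L d.degree)) := by
      rw [phi_sub π hq]
      abel
    rw [hdecomp]
    exact coeff_of_lt_order (lt_of_lt_of_le
      (by exact_mod_cast (by omega : d.degree < d.degree + 2))
      (le_order_add' (le_order_sub' h1 h2) h3))

end Groth.Agent.H75.LT
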