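/-
Helper library (helper75): composition and linear parts for the Lubin–Tate lemma, and its
instances over a discrete valuation ring and over its fraction field.
No milestone is proved here.
-/
import Groth.Agent.H75.LT

set_option autoImplicit false

noncomputable section

namespace Groth.Agent.H75.LT

open MvPowerSeries

variable {A : Type*} [CommRing A] {σ : Type*}

lemma comm_X [Finite σ] (π : A) {q : ℕ} (hq : 2 ≤ q) (i : σ) :
    psi π q 1 (X i) = phi π q (X i) := by
  rw [psi, one_smul, phi, subst_X (hasSubst_fX π hq), fX]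

lemma psi_zero (π : A) (q : ℕ) (H : MvPowerSeries σ A) : psi π q 0 H = π • H := by
  rw [psi, zero_smul, add_zero]

lemma comm_comp {τ : Type*} [Finite σ] [Finite τ] (π : A) {q : ℕ} (hq : 2 ≤ q) (c : A)
    (G : MvPowerSeries τ A) (a : τ → MvPowerSeries σ A) (ha0 : ∀ t, constantCoeff (a t) = 0)
    (hG : psi π q c G = phi π q G) (ha : ∀ t, psi π q 1 (a t) = phi π q (a t)) :
    psi π q c (subst a G) = phi π q (subst a G) := by
  have has : HasSubst a := hasSubst_of_constantCoeff_zero ha0
  have e1 : subst a (psi π q c G) = psi π q c (subst a G) := by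
    rw [psi, psi, subst_add has, subst_smul has, subst_smul has, subst_pow has]
  have hfun : (fun t => subst a (fX τ π q t)) = fun t => subst (fX σ π q) (a t) := by
    funext t
    rw [fX, subst_add has, subst_smul has, subst_pow has, subst_X has]
    have h := ha t
    rw [psi, one_smul, phi] at h
    exact h
  have e2 : subst a (phi π q G) = phi π q (subst a G) := by
    rw [phi, phi, subst_comp_subst_apply (hasSubst_fX π hq) has,
      subst_comp_subst_apply has (hasSubst_fX π hq), hfun]
  rw [← e1, hG, e2]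

lemma comm_comp1 [Finite σ] (π : A) {q : ℕ} (hq : 2 ≤ q) (c : A) (G : PowerSeries A)
    (a : MvPowerSeries σ A) (ha0 : constantCoeff a = 0)
    (hG : psi π q c (G : MvPowerSeries Unit A) = phi π q (G : MvPowerSeries Unit A))
    (ha : psi π q 1 a = phi π q a) :
    psi π q c (PowerSeries.subst a G) = phi π q (PowerSeries.subst a G) :=
  comm_comp π hq c (G : MvPowerSeries Unit A) (fun _ => a) (fun _ => ha0) hG (fun _ => ha)

lemma comm_comp2 [Finite σ] (π : A) {q : ℕ} (hq : 2 ≤ q) (c : A) (G : MvPowerSeries (Fin 2) A)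
    (a b : MvPowerSeries σ A) (ha0 : constantCoeff a = 0) (hb0 : constantCoeff b = 0)
    (hG : psi π q c G = phi π q G) (ha : psi π q 1 a = phi π q a)
    (hb : psi π q 1 b = phi π q b) :
    psi π q c (subst ![a, b] G) = phi π q (subst ![a, b] G) :=
  comm_comp π hq c G ![a, b] (Fin.forall_fin_two.mpr ⟨ha0, hb0⟩) hG
    (Fin.forall_fin_two.mpr ⟨ha, hb⟩)

/-- congruence modulo terms of degree at least two -/
def Cong2 (H H' : MvPowerSeries σ A) : Prop := ((2 : ℕ) : ℕ∞) ≤ (H - H').order

lemma Cong2.refl (H : MvPowerSeries σ A) : Cong2 H H := by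
  rw [Cong2, sub_self, order_zero]
  exact le_top

lemma Cong2.symm {H H' : MvPowerSeries σ A} (h : Cong2 H H') : Cong2 H' H := by
  rw [Cong2, ← neg_sub, order_neg]
  exact h

lemma Cong2.trans {H H' H'' : MvPowerSeries σ A} (h1 : Cong2 H H') (h2 : Cong2 H' H'') :
    Cong2 H H'' := by
  rw [Cong2, ← sub_add_sub_cancel H H' H'']
  exact le_order_add' h1 h2

lemma Cong2.add {H H' K K' : MvPowerSeries σ A} (h1 : Cong2 H H') (h2 : Cong2 K K') :
    Cong2 (H + K) (H' + K') := by
  rw [Cong2, add_sub_add_comm]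
  exact le_order_add' h1 h2

lemma Cong2.smul (r : A) {H H' : MvPowerSeries σ A} (h : Cong2 H H') :
    Cong2 (r • H) (r • H') := by
  rw [Cong2, ← smul_sub]
  exact le_trans h le_order_smul

lemma degree_lt_two {d : σ →₀ ℕ} (hd : d.degree < 2) :
    d = 0 ∨ ∃ i, d = Finsupp.single i 1 := by
  classical
  by_cases h0 : d = 0
  · exact Or.inl h0
  · right
    obtain ⟨i, hi⟩ : ∃ i, d i ≠ 0 := by
      by_contra hcon
      push Not at hcon
      exact h0 (Finsupp.ext hcon)
    refine ⟨i, ?_⟩
    have hle : Finsupp.single i 1 ≤ d := by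
      rw [Finsupp.single_le_iff]
      exact Nat.one_le_iff_ne_zero.mpr hi
    have h3 : Finsupp.single i 1 + (d - Finsupp.single i 1) = d := add_tsub_cancel_of_le hle
    have h4 : (Finsupp.single i 1 : σ →₀ ℕ).degree + (d - Finsupp.single i 1).degree =
        d.degree := by rw [← map_add, h3]
    rw [Finsupp.degree_single] at h4
    have h5 : (d - Finsupp.single i 1).degree = 0 := by omega
    have h6 := (Finsupp.degree_eq_zero_iff _).mp h5
    rw [← h3, h6, add_zero]

lemma cong2_of_coeff {H H' : MvPowerSeries σ A} (h0 : constantCoeff H = constantCoeff H')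
    (h1 : ∀ i, coeff (Finsupp.single i 1) H = coeff (Finsupp.single i 1) H') : Cong2 H H' := by
  refine nat_le_order fun d hd => ?_
  rw [map_sub, sub_eq_zero]
  rcases degree_lt_two hd with h | ⟨i, h⟩
  · rw [h, coeff_zero_eq_constantCoeff_apply, coeff_zero_eq_constantCoeff_apply]
    exact h0
  · rw [h]
    exact h1 i

lemma Cong2.coeff_single {H H' : MvPowerSeries σ A} (h : Cong2 H H') (i : σ) :
    coeff (Finsupp.single i 1) H = coeff (Finsupp.single i 1) H' := by
  have h1 : (((Finsupp.single i 1 : σ →₀ ℕ).degree : ℕ) : ℕ∞) < (H - H').order := by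
    rw [Finsupp.degree_single]
    exact lt_of_lt_of_le (by exact_mod_cast (by omega : 1 < 2)) h
  have h2 := coeff_of_lt_order h1
  rwa [map_sub, sub_eq_zero] at h2

lemma cong2_subst {τ : Type*} [Fintype τ] (G : MvPowerSeries τ A) (hG0 : constantCoeff G = 0)
    (a : τ → MvPowerSeries σ A) (ha0 : ∀ t, constantCoeff (a t) = 0) :
    Cong2 (subst a G) (∑ t, coeff (Finsupp.single t 1) G • a t) := by
  classical
  have has : HasSubst a := hasSubst_of_constantCoeff_zero ha0
  have hLG : Cong2 G (∑ t, coeff (Finsupp.single t 1) G • X t) := by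
    refine cong2_of_coeff ?_ ?_
    · rw [hG0, map_sum]
      refine (Finset.sum_eq_zero fun t _ => ?_).symm
      rw [smul_eq_C_mul, map_mul, constantCoeff_X, mul_zero]
    · intro i
      rw [map_sum]
      simp only [coeff_smul, coeff_index_single_X, mul_ite, mul_one, mul_zero, Finset.sum_ite_eq,
        Finset.mem_univ, if_true]
  have h3 : subst a (∑ t, coeff (Finsupp.single t 1) G • (X t : MvPowerSeries τ A)) =
      ∑ t, coeff (Finsupp.single t 1) G • a t := by
    rw [← coe_substAlgHom has, map_sum]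
    refine Finset.sum_congr rfl fun t _ => ?_
    rw [map_smul, substAlgHom_X]
  have h1 : (1 : ℕ∞) ≤ ⨅ t, (a t).order :=
    le_iInf fun t => one_le_order_iff_constCoeff_eq_zero.mpr (ha0 t)
  have h2 := le_order_subst has (G - ∑ t, coeff (Finsupp.single t 1) G • X t)
  rw [Cong2, ← h3, ← subst_sub has]
  refine le_trans ?_ h2
  calc ((2 : ℕ) : ℕ∞) = 1 * ((2 : ℕ) : ℕ∞) := (one_mul _).symm
    _ ≤ _ := mul_le_mul' h1 hLG

lemma cong2_subst2 (G : MvPowerSeries (Fin 2) A) (hG0 : constantCoeff G = 0)
    (hX : coeff (Finsupp.single 0 1) G = 1) (hY : coeff (Finsupp.single 1 1) G = 1)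
    (a : Fin 2 → MvPowerSeries σ A) (ha0 : ∀ t, constantCoeff (a t) = 0) :
    Cong2 (subst a G) (a 0 + a 1) := by
  have h := cong2_subst G hG0 a ha0
  rw [Fin.sum_univ_two, hX, hY, one_smul, one_smul] at h
  exact h

lemma cong2_subst1 (G : PowerSeries A) (hG0 : PowerSeries.constantCoeff G = 0)
    (a : MvPowerSeries σ A) (ha0 : constantCoeff a = 0) :
    Cong2 (PowerSeries.subst a G) (PowerSeries.coeff 1 G • a) := by
  have h := cong2_subst (G : MvPowerSeries Unit A) hG0 (fun _ => a) (fun _ => ha0)
  rw [Fintype.sum_unique] at h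
  exact h

lemma bridge_psi (π : A) (q : ℕ) (H : MvPowerSeries σ A) (h0 : constantCoeff H = 0) :
    PowerSeries.subst H (π • PowerSeries.X + PowerSeries.X ^ q : PowerSeries A) =
      psi π q 1 H := by
  have hH : PowerSeries.HasSubst H := PowerSeries.HasSubst.of_constantCoeff_zero h0
  rw [PowerSeries.subst_add hH, PowerSeries.subst_smul hH, PowerSeries.subst_pow hH,
    PowerSeries.subst_X hH, psi, one_smul]

lemma bridge_fX (π : A) (q : ℕ) (i : σ) :
    PowerSeries.subst (X i : MvPowerSeries σ A)
      (π • PowerSeries.X + PowerSeries.X ^ q : PowerSeries A) = fX σ π q i := by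
  have hH : PowerSeries.HasSubst (X i : MvPowerSeries σ A) := PowerSeries.HasSubst.X i
  rw [PowerSeries.subst_add hH, PowerSeries.subst_smul hH, PowerSeries.subst_pow hH,
    PowerSeries.subst_X hH, fX]

lemma bridge_phi (π : A) (q : ℕ) (H : MvPowerSeries σ A) :
    subst (fun i => PowerSeries.subst (X i : MvPowerSeries σ A)
      (π • PowerSeries.X + PowerSeries.X ^ q : PowerSeries A)) H = phi π q H := by
  have h : (fun i => PowerSeries.subst (X i : MvPowerSeries σ A)
      (π • PowerSeries.X + PowerSeries.X ^ q : PowerSeries A)) = fX σ π q :=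
    funext (bridge_fX π q)
  rw [h, phi]

lemma bridge_phi1 (π : A) (q : ℕ) (g : PowerSeries A) :
    PowerSeries.subst (π • PowerSeries.X + PowerSeries.X ^ q : PowerSeries A) g =
      phi π q (g : MvPowerSeries Unit A) := by
  have h : (fun _ : Unit => (π • PowerSeries.X + PowerSeries.X ^ q : PowerSeries A)) =
      fX Unit π q := by
    funext u
    rfl
  rw [phi, PowerSeries.subst_def, h]

section maps

variable {A' : Type*} [CommRing A']

lemma map_smul' (h : A →+* A') (r : A) (G : MvPowerSeries σ A) :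
    map h (r • G) = h r • map h G := by
  rw [smul_eq_C_mul G r, map_mul, map_C, smul_eq_C_mul (map h G) (h r)]

lemma map_psi (h : A →+* A') (π : A) (q : ℕ) (c : A) (H : MvPowerSeries σ A) :
    map h (psi π q c H) = psi (h π) q (h c) (map h H) := by
  rw [psi, psi, map_add, map_smul', map_smul', map_pow]

lemma map_fX (h : A →+* A') (π : A) (q : ℕ) (i : σ) :
    map h (fX σ π q i) = fX σ (h π) q i := by
  rw [fX, fX, map_add, map_smul', map_pow, map_X]

lemma map_phi [Finite σ] (h : A →+* A') (π : A) {q : ℕ} (hq : 2 ≤ q) (H : MvPowerSeries σ A) :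
    map h (phi π q H) = phi (h π) q (map h H) := by
  have h1 : (fun i => map h (fX σ π q i)) = fX σ (h π) q := funext (map_fX h π q)
  rw [phi, phi, map_subst (hasSubst_fX π hq), h1]

end maps

section dvr

variable {O : Type*} [CommRing O] [IsDomain O] [IsDiscreteValuationRing O]

lemma dvr_unit {π : O} (hπ : Irreducible π) (r : ℕ) (hr : 1 ≤ r) : IsUnit (1 - π ^ r) := by
  apply IsLocalRing.isUnit_one_sub_self_of_mem_nonunits
  rw [mem_nonunits_iff, isUnit_pow_iff (by omega)]
  exact hπ.not_isUnit

lemma dvr_card [Finite (IsLocalRing.ResidueField O)] :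
    2 ≤ Nat.card (IsLocalRing.ResidueField O) := Finite.one_lt_card

lemma expand_card_eq_pow (k : Type*) [Field k] [Finite k] (G : MvPowerSeries σ k)
    (m : ℕ) (hm : m ≠ 0) (hmk : m = Nat.card k) : expand m hm G = G ^ m := by
  classical
  have := Fintype.ofFinite k
  obtain ⟨p, hp⟩ := CharP.exists k
  haveI := hp
  obtain ⟨n, hprime, hcard⟩ := FiniteField.card k p
  haveI : ExpChar k p := ExpChar.prime hprime
  have hq : m = p ^ (n : ℕ) := by rw [hmk, Nat.card_eq_fintype_card, hcard]
  have key := map_iterateFrobenius_expand p hprime.ne_zero G (n : ℕ)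
  have hid : iterateFrobenius k p n = RingHom.id k := by
    ext x
    rw [iterateFrobenius_def, RingHom.id_apply, ← hcard]
    exact FiniteField.pow_card x
  rw [hid, MvPowerSeries.map_id, RingHom.id_apply] at key
  subst hq
  exact key

lemma frob_O [Finite (IsLocalRing.ResidueField O)] [Finite σ] {π : O} (hπ : Irreducible π)
    (q : ℕ) (hqk : q = Nat.card (IsLocalRing.ResidueField O)) (H : MvPowerSeries σ O) :
    ∃ Δ : MvPowerSeries σ O, π • Δ = psi π q 1 H - phi π q H := by
  classical
  have hq : 2 ≤ q := by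
    rw [hqk]
    exact Finite.one_lt_card
  have hq0 : q ≠ 0 := by omega
  have hρπ : IsLocalRing.residue O π = 0 := by
    rw [IsLocalRing.residue_eq_zero_iff, hπ.maximalIdeal_eq]
    exact Ideal.mem_span_singleton_self π
  have hfX : fX σ (0 : IsLocalRing.ResidueField O) q = fun i => X i ^ q := by
    funext i
    rw [fX, zero_smul, zero_add]
  have hexp := expand_card_eq_pow (IsLocalRing.ResidueField O)
    (map (IsLocalRing.residue O) H) q hq0 hqk
  have hmap : map (IsLocalRing.residue O) (psi π q 1 H - phi π q H) = 0 := by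
    rw [map_sub, map_psi, map_phi (IsLocalRing.residue O) π hq, hρπ, map_one, psi, zero_smul,
      zero_add, one_smul, phi, hfX, ← hexp, expand, substAlgHom_apply, sub_self]
  have hdiv : ∀ d, ∃ c, coeff d (psi π q 1 H - phi π q H) = π * c := by
    intro d
    have h1 : IsLocalRing.residue O (coeff d (psi π q 1 H - phi π q H)) = 0 := by
      rw [← coeff_map, hmap, map_zero]
    rw [IsLocalRing.residue_eq_zero_iff, hπ.maximalIdeal_eq, Ideal.mem_span_singleton] at h1
    exact h1
  choose cf hcf using hdiv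
  refine ⟨fun d => cf d, ?_⟩
  ext d
  rw [coeff_smul, hcf d]
  rfl

end dvr

section frac

variable {O : Type*} [CommRing O] [IsDomain O] [IsDiscreteValuationRing O]
  {K : Type*} [Field K] [Algebra O K] [IsFractionRing O K]

lemma frac_ne_zero {π : O} (hπ : Irreducible π) : algebraMap O K π ≠ 0 := by
  rw [Ne, map_eq_zero_iff _ (IsFractionRing.injective O K)]
  exact hπ.ne_zero

lemma frac_unit {π : O} (hπ : Irreducible π) (r : ℕ) (hr : 1 ≤ r) :
    IsUnit (1 - (algebraMap O K π) ^ r) := by
  have h := (dvr_unit hπ r hr).map (algebraMap O K)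
  rwa [map_sub, map_one, map_pow] at h

lemma frac_frob (π' : K) (hπ' : π' ≠ 0) (q : ℕ) (c : K) (H : MvPowerSeries σ K) :
    ∃ Δ : MvPowerSeries σ K, π' • Δ = psi π' q c H - phi π' q H :=
  ⟨π'⁻¹ • (psi π' q c H - phi π' q H), by rw [smul_smul, mul_inv_cancel₀ hπ', one_smul]⟩

end frac

end Groth.Agent.H75.LT
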