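/-
Helper library (helper75): small conveniences on top of the Lubin–Tate lemma.
No milestone is proved here.
-/
import Groth.Agent.H75.LT2

set_option autoImplicit false

noncomputable section

namespace Groth.Agent.H75.LT

open MvPowerSeries

variable {A : Type*} [CommRing A] {σ : Type*}

lemma cc_subst {τ : Type*} [Finite τ] (G : MvPowerSeries τ A) (hG0 : constantCoeff G = 0)
    (a : τ → MvPowerSeries σ A) (ha0 : ∀ t, constantCoeff (a t) = 0) :
    constantCoeff (subst a G) = 0 :=
  constantCoeff_subst_eq_zero (hasSubst_of_constantCoeff_zero ha0) ha0 hG0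

lemma cc_subst1 (G : PowerSeries A) (hG0 : PowerSeries.constantCoeff G = 0)
    (a : MvPowerSeries σ A) (ha0 : constantCoeff a = 0) :
    constantCoeff (PowerSeries.subst a G) = 0 :=
  cc_subst (G : MvPowerSeries Unit A) hG0 (fun _ => a) (fun _ => ha0)

lemma cc_subst2 (G : MvPowerSeries (Fin 2) A) (hG0 : constantCoeff G = 0)
    (a b : MvPowerSeries σ A) (ha0 : constantCoeff a = 0) (hb0 : constantCoeff b = 0) :
    constantCoeff (subst ![a, b] G) = 0 :=
  cc_subst G hG0 ![a, b] (Fin.forall_fin_two.mpr ⟨ha0, hb0⟩)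

lemma cong2_subst2' (G : MvPowerSeries (Fin 2) A) (hG0 : constantCoeff G = 0)
    (hX : coeff (Finsupp.single 0 1) G = 1) (hY : coeff (Finsupp.single 1 1) G = 1)
    (a b : MvPowerSeries σ A) (ha0 : constantCoeff a = 0) (hb0 : constantCoeff b = 0) :
    Cong2 (subst ![a, b] G) (a + b) :=
  cong2_subst2 G hG0 hX hY ![a, b] (Fin.forall_fin_two.mpr ⟨ha0, hb0⟩)

lemma cong2_XY (G : MvPowerSeries (Fin 2) A) (hG0 : constantCoeff G = 0)
    (hX : coeff (Finsupp.single 0 1) G = 1) (hY : coeff (Finsupp.single 1 1) G = 1) :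
    Cong2 G (X 0 + X 1) := by
  classical
  refine cong2_of_coeff ?_ (Fin.forall_fin_two.mpr ⟨?_, ?_⟩)
  · rw [hG0, map_add, constantCoeff_X, constantCoeff_X, add_zero]
  · rw [hX, map_add, coeff_index_single_self_X, coeff_index_single_X,
      if_neg (by decide), add_zero]
  · rw [hY, map_add, coeff_index_single_X, if_neg (by decide), coeff_index_single_self_X,
      zero_add]

lemma map_f {A' : Type*} [CommRing A'] (h : A →+* A') (π : A) (q : ℕ) :
    PowerSeries.map h (π • PowerSeries.X + PowerSeries.X ^ q : PowerSeries A) =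
      h π • PowerSeries.X + PowerSeries.X ^ q :=
  map_fX (σ := Unit) h π q ()

lemma comm_of_eq (π : A) (q : ℕ) (g : PowerSeries A) (hg0 : PowerSeries.constantCoeff g = 0)
    (hgf : PowerSeries.subst g (π • PowerSeries.X + PowerSeries.X ^ q : PowerSeries A) =
      PowerSeries.subst (π • PowerSeries.X + PowerSeries.X ^ q : PowerSeries A) g) :
    psi π q 1 (g : MvPowerSeries Unit A) = phi π q (g : MvPowerSeries Unit A) := by
  rw [← bridge_psi π q g hg0, ← bridge_phi1]
  exact hgf

lemma comm_of_eq2 (π : A) (q : ℕ) (F : MvPowerSeries σ A) (hF0 : constantCoeff F = 0)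
    (hF : PowerSeries.subst F (π • PowerSeries.X + PowerSeries.X ^ q : PowerSeries A) =
      subst (fun i => PowerSeries.subst (X i : MvPowerSeries σ A)
        (π • PowerSeries.X + PowerSeries.X ^ q : PowerSeries A)) F) :
    psi π q 1 F = phi π q F := by
  rw [← bridge_psi π q F hF0, ← bridge_phi]
  exact hF

end Groth.Agent.H75.LT
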