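/-
Helper library (helper75): order estimates for substitution into power series and the inverse of
a one-dimensional formal group law.  No milestone is proved here.
-/
import Groth.Agent.H75.LT3
import Mathlib.RingTheory.MvPowerSeries.Trunc

set_option autoImplicit false

noncomputable section

namespace Groth.Agent.H75.LT

open MvPowerSeries

variable {A : Type*} [CommRing A] {σ : Type*}

lemma truncTotal_eq_of_order [Finite σ] {k : ℕ} {a a' : MvPowerSeries σ A}
    (h : (k : ℕ∞) ≤ (a - a').order) : truncTotal k a = truncTotal k a' := by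
  ext x
  rw [coeff_truncTotal_eq_ite, coeff_truncTotal_eq_ite]
  split_ifs with hx
  · have h1 := coeff_of_lt_order (f := a - a') (d := x)
      (lt_of_lt_of_le (by exact_mod_cast hx) h)
    rwa [map_sub, sub_eq_zero] at h1
  · rfl

/-- substitution is Lipschitz for the order filtration -/
lemma lipschitz {τ : Type*} [Finite σ] (a a' : τ → MvPowerSeries σ A) (ha : HasSubst a)
    (ha' : HasSubst a') (k : ℕ) (h : ∀ t, (k : ℕ∞) ≤ (a t - a' t).order)
    (G : MvPowerSeries τ A) : (k : ℕ∞) ≤ (subst a G - subst a' G).order := by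
  refine nat_le_order fun d hd => ?_
  rw [map_sub, sub_eq_zero]
  have e1 := truncTotal_subst_eq_truncTotal_subst_truncTotal_of_le (f := G)
    (x := fun _ => k) (k := k) ha (fun _ => le_rfl)
  have e2 := truncTotal_subst_eq_truncTotal_subst_truncTotal_of_le (f := G)
    (x := fun _ => k) (k := k) ha' (fun _ => le_rfl)
  have e3 : (fun i => ((a i).truncTotal k).toMvPowerSeries) =
      fun i => ((a' i).truncTotal k).toMvPowerSeries := by
    funext i
    rw [truncTotal_eq_of_order (h i)]
  rw [e3] at e1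
  have e4 : truncTotal k (subst a G) = truncTotal k (subst a' G) := e1.trans e2.symm
  have e5 := congrArg (MvPolynomial.coeff d) e4
  rwa [coeff_truncTotal _ hd, coeff_truncTotal _ hd] at e5

lemma cong2_lin {τ : Type*} [Fintype τ] (G : MvPowerSeries τ A) (hG0 : constantCoeff G = 0) :
    Cong2 G (∑ t, coeff (Finsupp.single t 1) G • (X t : MvPowerSeries τ A)) := by
  classical
  refine cong2_of_coeff ?_ ?_
  · rw [hG0, map_sum]
    refine (Finset.sum_eq_zero fun t _ => ?_).symm
    rw [smul_eq_C_mul, map_mul, constantCoeff_X, mul_zero]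
  · intro i
    rw [map_sum]
    simp only [coeff_smul, coeff_index_single_X, mul_ite, mul_one, mul_zero, Finset.sum_ite_eq,
      Finset.mem_univ, if_true]

lemma order_subst_sub_lin {τ : Type*} [Fintype τ] (G : MvPowerSeries τ A)
    (hG0 : constantCoeff G = 0) (a : τ → MvPowerSeries σ A) (m : ℕ) (hm : 1 ≤ m)
    (ha : ∀ t, (m : ℕ∞) ≤ (a t).order) :
    ((2 * m : ℕ) : ℕ∞) ≤ (subst a G - ∑ t, coeff (Finsupp.single t 1) G • a t).order := by
  classical
  have ha0 : ∀ t, constantCoeff (a t) = 0 := fun t =>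
    one_le_order_iff_constCoeff_eq_zero.mp
      (le_trans (by exact_mod_cast hm) (ha t))
  have has : HasSubst a := hasSubst_of_constantCoeff_zero ha0
  have hLG := cong2_lin G hG0
  have h3 : subst a (∑ t, coeff (Finsupp.single t 1) G • (X t : MvPowerSeries τ A)) =
      ∑ t, coeff (Finsupp.single t 1) G • a t := by
    rw [← coe_substAlgHom has, map_sum]
    refine Finset.sum_congr rfl fun t _ => ?_
    rw [map_smul, substAlgHom_X]
  have h1 : (m : ℕ∞) ≤ ⨅ t, (a t).order := le_iInf ha
  have h2 := le_order_subst has (G - ∑ t, coeff (Finsupp.single t 1) G • X t)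
  rw [← h3, ← subst_sub has]
  refine le_trans ?_ h2
  calc ((2 * m : ℕ) : ℕ∞) = (m : ℕ∞) * ((2 : ℕ) : ℕ∞) := by
        push_cast
        ring
    _ ≤ _ := mul_le_mul' h1 hLG

end Groth.Agent.H75.LT

namespace Groth.Agent.H75.FG

open MvPowerSeries Groth.Agent.H75.LT

variable {R : Type*} [CommRing R] (F : FormalGroup R)

/-- the sum of two series for the formal group law -/
def fadd (a b : PowerSeries R) : PowerSeries R := subst ![a, b] F.toPowerSeries

lemma hasSubst2 (a b : PowerSeries R) (ha0 : constantCoeff (a : MvPowerSeries Unit R) = 0)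
    (hb0 : constantCoeff (b : MvPowerSeries Unit R) = 0) :
    HasSubst (![a, b] : Fin 2 → MvPowerSeries Unit R) :=
  hasSubst_of_constantCoeff_zero (Fin.forall_fin_two.mpr ⟨ha0, hb0⟩)

lemma cc_fadd (a b : PowerSeries R) (ha0 : constantCoeff (a : MvPowerSeries Unit R) = 0)
    (hb0 : constantCoeff (b : MvPowerSeries Unit R) = 0) :
    constantCoeff (fadd F a b : MvPowerSeries Unit R) = 0 :=
  cc_subst2 F.toPowerSeries F.zero_constantCoeff a b ha0 hb0

lemma fadd_assoc (a b c : PowerSeries R) (ha0 : constantCoeff (a : MvPowerSeries Unit R) = 0)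
    (hb0 : constantCoeff (b : MvPowerSeries Unit R) = 0)
    (hc0 : constantCoeff (c : MvPowerSeries Unit R) = 0) :
    fadd F (fadd F a b) c = fadd F a (fadd F b c) :=
  F.assoc' (PowerSeries.HasSubst.of_constantCoeff_zero ha0)
    (PowerSeries.HasSubst.of_constantCoeff_zero hb0)
    (PowerSeries.HasSubst.of_constantCoeff_zero hc0)

lemma fadd_zero (a : PowerSeries R) (ha0 : constantCoeff (a : MvPowerSeries Unit R) = 0) :
    fadd F a 0 = a :=
  F.add_zero (PowerSeries.HasSubst.of_constantCoeff_zero ha0)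

lemma zero_fadd (a : PowerSeries R) (ha0 : constantCoeff (a : MvPowerSeries Unit R) = 0) :
    fadd F 0 a = a :=
  F.zero_add (PowerSeries.HasSubst.of_constantCoeff_zero ha0)

lemma order_fadd (a b : PowerSeries R) (m : ℕ) (hm : 1 ≤ m)
    (ha : (m : ℕ∞) ≤ MvPowerSeries.order (a : MvPowerSeries Unit R))
    (hb : (m : ℕ∞) ≤ MvPowerSeries.order (b : MvPowerSeries Unit R)) :
    ((2 * m : ℕ) : ℕ∞) ≤ MvPowerSeries.order (fadd F a b - (a + b) : MvPowerSeries Unit R) := by
  have h := order_subst_sub_lin F.toPowerSeries F.zero_constantCoeff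
    (![a, b] : Fin 2 → MvPowerSeries Unit R) m hm (Fin.forall_fin_two.mpr ⟨ha, hb⟩)
  rw [Fin.sum_univ_two, F.lin_coeff_X, F.lin_coeff_Y, one_smul, one_smul] at h
  exact h

lemma lip_fadd (k : ℕ) (a a' b b' : PowerSeries R)
    (ha0 : constantCoeff (a : MvPowerSeries Unit R) = 0)
    (ha0' : constantCoeff (a' : MvPowerSeries Unit R) = 0)
    (hb0 : constantCoeff (b : MvPowerSeries Unit R) = 0)
    (hb0' : constantCoeff (b' : MvPowerSeries Unit R) = 0)
    (h1 : (k : ℕ∞) ≤ MvPowerSeries.order (a - a' : MvPowerSeries Unit R))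
    (h2 : (k : ℕ∞) ≤ MvPowerSeries.order (b - b' : MvPowerSeries Unit R)) :
    (k : ℕ∞) ≤ MvPowerSeries.order (fadd F a b - fadd F a' b' : MvPowerSeries Unit R) :=
  lipschitz (![a, b] : Fin 2 → MvPowerSeries Unit R) ![a', b'] (hasSubst2 a b ha0 hb0)
    (hasSubst2 a' b' ha0' hb0') k (Fin.forall_fin_two.mpr ⟨h1, h2⟩) F.toPowerSeries

lemma cc_X : constantCoeff (PowerSeries.X : MvPowerSeries Unit R) = 0 := constantCoeff_X ()

/-- successive approximations of the inverse -/
def gseq : ℕ → PowerSeries R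
  | 0 => -PowerSeries.X
  | n + 1 => fadd F (gseq n) (-(fadd F PowerSeries.X (gseq n)))

lemma gseq_succ (n : ℕ) :
    gseq F (n + 1) = fadd F (gseq F n) (-(fadd F PowerSeries.X (gseq F n))) := rfl

lemma gseq_inv (n : ℕ) : constantCoeff (gseq F n : MvPowerSeries Unit R) = 0 ∧
    ((n + 2 : ℕ) : ℕ∞) ≤ MvPowerSeries.order (fadd F PowerSeries.X (gseq F n) : MvPowerSeries Unit R) := by
  induction n with
  | zero =>
    have h0 : constantCoeff (-PowerSeries.X : MvPowerSeries Unit R) = 0 := by
      rw [map_neg, cc_X, neg_zero]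
    refine ⟨h0, ?_⟩
    have hX1 : ((1 : ℕ) : ℕ∞) ≤ MvPowerSeries.order (PowerSeries.X : MvPowerSeries Unit R) := by
      exact_mod_cast one_le_order_iff_constCoeff_eq_zero.mpr (cc_X (R := R))
    have h := order_fadd F PowerSeries.X (-PowerSeries.X) 1 le_rfl hX1
      (by rw [order_neg]; exact hX1)
    rw [add_neg_cancel, sub_zero] at h
    exact h
  | succ n ih =>
    obtain ⟨h0, h2⟩ := ih
    have hε0 := cc_fadd F PowerSeries.X (gseq F n) cc_X h0
    have hnε0 : constantCoeff (-(fadd F PowerSeries.X (gseq F n)) : MvPowerSeries Unit R) = 0 := by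
      rw [map_neg, hε0, neg_zero]
    rw [gseq_succ]
    refine ⟨cc_fadd F _ _ h0 hnε0, ?_⟩
    rw [← fadd_assoc F _ _ _ cc_X h0 hnε0]
    have h := order_fadd F (fadd F PowerSeries.X (gseq F n))
      (-(fadd F PowerSeries.X (gseq F n))) (n + 2) (by omega) h2
      (by rw [order_neg]; exact h2)
    rw [add_neg_cancel, sub_zero] at h
    exact le_trans (by exact_mod_cast (by omega : n + 1 + 2 ≤ 2 * (n + 2))) h

lemma gseq_diff (n : ℕ) :
    ((n + 2 : ℕ) : ℕ∞) ≤ MvPowerSeries.order (gseq F n - gseq F (n + 1) : MvPowerSeries Unit R) := by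
  obtain ⟨h0, h2⟩ := gseq_inv F n
  have hε0 := cc_fadd F PowerSeries.X (gseq F n) cc_X h0
  have hnε0 : constantCoeff (-(fadd F PowerSeries.X (gseq F n)) : MvPowerSeries Unit R) = 0 := by
    rw [map_neg, hε0, neg_zero]
  have h := lip_fadd F (n + 2) (gseq F n) (gseq F n) 0 (-(fadd F PowerSeries.X (gseq F n)))
    h0 h0 (map_zero _) hnε0 (by rw [sub_self, order_zero]; exact le_top)
    (by rw [zero_sub, neg_neg]; exact h2)
  rw [fadd_zero F _ h0] at h
  rw [gseq_succ]
  exact h

/-- the right inverse -/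
theorem exists_right_inv : ∃ g : PowerSeries R,
    constantCoeff (g : MvPowerSeries Unit R) = 0 ∧ fadd F PowerSeries.X g = 0 := by
  have hs := gseq_diff F
  have hg0 : constantCoeff (lim (gseq F) : MvPowerSeries Unit R) = 0 := by
    rw [← coeff_zero_eq_constantCoeff_apply,
      coeff_lim_eq _ hs 0 0 (by rw [map_zero]; omega), coeff_zero_eq_constantCoeff_apply]
    exact (gseq_inv F 0).1
  refine ⟨lim (gseq F), hg0, ?_⟩
  refine MvPowerSeries.ext fun d => ?_
  rw [map_zero]
  have hn := le_order_lim_sub _ hs d.degree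
  obtain ⟨h0, h2⟩ := gseq_inv F d.degree
  have h1 := lip_fadd F (d.degree + 2) PowerSeries.X PowerSeries.X (lim (gseq F))
    (gseq F d.degree) cc_X cc_X hg0 h0 (by rw [sub_self, order_zero]; exact le_top) hn
  have h3 : ((d.degree + 2 : ℕ) : ℕ∞) ≤
      MvPowerSeries.order (fadd F PowerSeries.X (lim (gseq F)) : MvPowerSeries Unit R) := by
    have h4 := le_order_add' h1 h2
    rwa [sub_add_cancel] at h4
  exact coeff_of_lt_order (lt_of_lt_of_le
    (by exact_mod_cast (by omega : d.degree < d.degree + 2)) h3)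

end Groth.Agent.H75.FG
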