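import Mathlib
import Groth.Agent.H87.FlatQuotLoc
import Groth.Agent.H87.FlatQuotGlobal
import Groth.Agent.H66.GlobalCI2

set_option autoImplicit false
set_option maxHeartbeats 400000
universe u

open IsLocalRing RingTheory.Sequence Algebra

namespace Groth.Agent.H75.FibreRegFlat

/-- membership in `I • ⊤` of a quotient module -/
theorem mk_mem_smul_top_quotient {S : Type*} [CommRing S] {N : Type*} [AddCommGroup N] [Module S N]
    (X : Submodule S N) (I : Ideal S) (y : N) :
    (Submodule.Quotient.mk y : N ⧸ X) ∈ I • (⊤ : Submodule S (N ⧸ X)) ↔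
      y ∈ I • (⊤ : Submodule S N) ⊔ X := by
  have h : I • (⊤ : Submodule S (N ⧸ X)) = (I • (⊤ : Submodule S N)).map X.mkQ := by
    rw [Submodule.map_smul'', Submodule.map_top, Submodule.range_mkQ]
  rw [h]
  constructor
  · rintro ⟨y', hy', hyy'⟩
    have h1 : y - y' ∈ X := by
      rw [← Submodule.Quotient.mk_eq_zero, Submodule.Quotient.mk_sub]
      rw [Submodule.mkQ_apply] at hyy'
      rw [hyy', sub_self]
    have h2 : y = y' + (y - y') := by abel
    rw [h2]
    exact Submodule.add_mem_sup hy' h1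
  · intro hy
    obtain ⟨a, ha, b, hb, rfl⟩ := Submodule.mem_sup.mp hy
    refine ⟨a, ha, ?_⟩
    rw [Submodule.mkQ_apply, Submodule.Quotient.mk_add, (Submodule.Quotient.mk_eq_zero X).mpr hb,
      add_zero]

theorem ofList_take_ofFn {S : Type*} [CommRing S] {m : ℕ} (g : Fin m → S) (i : ℕ) :
    Ideal.ofList ((List.ofFn g).take i) = Ideal.span (g '' {j : Fin m | (j : ℕ) < i}) := by
  unfold Ideal.ofList
  congr 1
  ext z
  simp only [Set.mem_setOf_eq, Set.mem_image]
  rw [List.mem_take_iff_getElem]
  constructor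
  · rintro ⟨j, hj, rfl⟩
    rw [List.length_ofFn] at hj
    refine ⟨⟨j, (lt_min_iff.mp hj).2⟩, (lt_min_iff.mp hj).1, ?_⟩
    rw [List.getElem_ofFn]
  · rintro ⟨j, hj, rfl⟩
    refine ⟨j, ?_, ?_⟩
    · rw [List.length_ofFn]; exact lt_min hj j.2
    · rw [List.getElem_ofFn]

/-- ideal-theoretic regularity modulo `mS` gives weak regularity on the quotient module. -/
theorem isWeaklyRegular_of_forall {S : Type u} [CommRing S] (mS : Ideal S) {m : ℕ} (g : Fin m → S)
    (h : ∀ (k : Fin m) (x : S), g k * x ∈ mS ⊔ Ideal.span (g '' {j | j < k}) →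
      x ∈ mS ⊔ Ideal.span (g '' {j | j < k})) :
    IsWeaklyRegular (S ⧸ (mS • (⊤ : Submodule S S))) (List.ofFn g) := by
  rw [isWeaklyRegular_iff_Fin]
  intro i
  have hi : (i : ℕ) < m := lt_of_lt_of_eq i.2 List.length_ofFn
  rw [isSMulRegular_iff_right_eq_zero_of_smul]
  intro z hz
  obtain ⟨z, rfl⟩ := Submodule.Quotient.mk_surjective _ z
  obtain ⟨x, rfl⟩ := Submodule.Quotient.mk_surjective _ z
  rw [← Submodule.Quotient.mk_smul, ← Submodule.Quotient.mk_smul, Submodule.Quotient.mk_eq_zero,
    mk_mem_smul_top_quotient, ofList_take_ofFn, smul_eq_mul, Ideal.mul_top, smul_eq_mul,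
    Ideal.mul_top, Fin.getElem_fin, List.getElem_ofFn, sup_comm] at hz
  rw [Submodule.Quotient.mk_eq_zero, mk_mem_smul_top_quotient, ofList_take_ofFn, smul_eq_mul,
    Ideal.mul_top, smul_eq_mul, Ideal.mul_top, sup_comm]
  exact h ⟨i, hi⟩ x hz

theorem flat_localization_quotient_of_regular {R D : Type u} [CommRing R] [CommRing D]
    [Algebra R D] [Module.Flat R D] [Algebra.FinitePresentation R D] {m : ℕ} (f : Fin m → D)
    (Q : Ideal D) [Q.IsPrime] :
    (∀ (k : Fin m) (x : D),
      f k * x ∈ (Q.under R).map (algebraMap R D) ⊔ Ideal.span (f '' {j | j < k}) →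
      x ∈ (Q.under R).map (algebraMap R D) ⊔ Ideal.span (f '' {j | j < k})) →
    Module.Flat R (Localization.AtPrime Q ⧸
      Ideal.span (Set.range fun i => algebraMap D (Localization.AtPrime Q) (f i))) := by
  classical
  set p := Q.under R with hp
  haveI : Q.LiesOver p := ⟨rfl⟩
  let Rp := Localization.AtPrime p
  let Sp := Localization (algebraMapSubmonoid D p.primeCompl)
  let Sq := Localization.AtPrime Q
  letI := Localization.AtPrime.algebraOfLiesOver p Q
  let f₀ : Sp →ₐ[D] Sq := IsLocalization.liftAlgHom (M := algebraMapSubmonoid D p.primeCompl)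
        (f := Algebra.ofId _ _) (by
      rintro ⟨_, x, hx, rfl⟩
      simpa using! IsLocalization.map_units (M := Q.primeCompl) Sq ⟨algebraMap _ _ x,
        by simp_all [Q.over_def p]⟩)
  algebraize [f₀.toRingHom]
  have : IsScalarTower R Sp Sq := .to₁₃₄ _ D _ _
  have : IsScalarTower Rp Sp Sq := .of_algebraMap_eq' <| by
    apply IsLocalization.ringHom_ext p.primeCompl
    simp only [RingHom.comp_assoc, ← IsScalarTower.algebraMap_eq]
  have : IsLocalization (algebraMapSubmonoid Sp Q.primeCompl) Sq :=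
    .isLocalization_of_submonoid_le _ _ (algebraMapSubmonoid D p.primeCompl) _
    (by rintro _ ⟨x, hx, rfl⟩; simp_all [Q.over_def p])
  have : FinitePresentation Rp Sp := by
    have : Algebra.IsPushout R Rp D Sp :=
      .symm <| Algebra.isPushout_of_isLocalization p.primeCompl _ _ _
    exact .equiv (Algebra.IsPushout.equiv R Rp D Sp)
  haveI : IsLocalHom (algebraMap Rp Sq) := by
    rw [RingHom.algebraMap_toAlgebra]; infer_instance
  haveI : Module.Flat Rp Sq :=
    (Module.flat_iff_of_isLocalization Rp p.primeCompl Sq).mpr inferInstance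
  intro hreg
  set pB := p.map (algebraMap R D) with hpB
  set mS := (maximalIdeal Rp).map (algebraMap Rp Sq) with hmSdef
  have hmS : mS = pB.map (algebraMap D Sq) := by
    rw [hmSdef, hpB, ← Localization.AtPrime.map_eq_maximalIdeal, Ideal.map_map, Ideal.map_map,
      ← IsScalarTower.algebraMap_eq, ← IsScalarTower.algebraMap_eq]
  let g : Fin m → Sq := fun i => algebraMap D Sq (f i)
  have hJ : ∀ k : Fin m, mS ⊔ Ideal.span (g '' {j | j < k}) =
      (pB ⊔ Ideal.span (f '' {j | j < k})).map (algebraMap D Sq) := by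
    intro k
    rw [Ideal.map_sup, Ideal.map_span, hmS, Set.image_image]
  have hg : ∀ (k : Fin m) (x : Sq), g k * x ∈ mS ⊔ Ideal.span (g '' {j | j < k}) →
      x ∈ mS ⊔ Ideal.span (g '' {j | j < k}) := by
    intro k x hx
    rw [hJ k] at hx ⊢
    obtain ⟨y, s, rfl⟩ := IsLocalization.exists_mk'_eq Q.primeCompl x
    have h1 : algebraMap D Sq (f k * y) ∈
        (pB ⊔ Ideal.span (f '' {j | j < k})).map (algebraMap D Sq) := by
      have h2 : algebraMap D Sq (f k * y) =
          algebraMap D Sq s * (g k * IsLocalization.mk' Sq y s) := by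
        rw [map_mul, mul_left_comm, IsLocalization.mk'_spec']
      rw [h2]
      exact Ideal.mul_mem_left _ _ hx
    obtain ⟨t, ht, htJ⟩ :=
      (IsLocalization.algebraMap_mem_map_algebraMap_iff Q.primeCompl Sq _ _).mp h1
    have h3 : t * y ∈ pB ⊔ Ideal.span (f '' {j | j < k}) := by
      apply hreg k
      have : f k * (t * y) = t * (f k * y) := by ring
      rw [this]
      exact htJ
    have h4 : algebraMap D Sq y ∈ (pB ⊔ Ideal.span (f '' {j | j < k})).map (algebraMap D Sq) :=
      (IsLocalization.algebraMap_mem_map_algebraMap_iff Q.primeCompl Sq _ _).mpr ⟨t, ht, h3⟩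
    rw [IsLocalization.mk'_eq_mul_mk'_one]
    exact Ideal.mul_mem_right _ _ h4
  have hwr := isWeaklyRegular_of_forall mS g hg
  have hcore := Groth.Agent.H87.FlatQuotLoc.flat_quot_of_isWeaklyRegular_fibre (R := Rp) (S := Sq) Sp
    (algebraMapSubmonoid Sp Q.primeCompl) (List.ofFn g) Sq hwr
  let e' : (Sq ⧸ Ideal.ofList (List.ofFn g) • (⊤ : Submodule Sq Sq)) ≃ₗ[Sq]
      (Sq ⧸ Ideal.span (Set.range g)) :=
    Submodule.quotEquivOfEq _ _ (by
      rw [smul_eq_mul, Ideal.mul_top, Groth.Agent.H87.FlatQuotGlobal.ofList_ofFn])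
  haveI : Module.Flat Rp (Sq ⧸ Ideal.span (Set.range g)) :=
    Module.Flat.of_linearEquiv (e'.symm.restrictScalars Rp)
  haveI : Module.Flat R Rp := IsLocalization.flat Rp p.primeCompl
  exact Module.Flat.trans R Rp _

theorem flat_atPrime_quot_of_fibre_regular {R D : Type u} [CommRing R] [CommRing D] [Algebra R D]
    [Module.Flat R D] [Algebra.FinitePresentation R D] {m : ℕ} (f : Fin m → D)
    (q : Ideal (D ⧸ Ideal.span (Set.range f))) [q.IsPrime]
    (hreg : ∀ (k : Fin m) (x : D),
      f k * x ∈ (q.comap (algebraMap R (D ⧸ Ideal.span (Set.range f)))).map (algebraMap R D) ⊔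
        Ideal.span (f '' {j | j < k}) →
      x ∈ (q.comap (algebraMap R (D ⧸ Ideal.span (Set.range f)))).map (algebraMap R D) ⊔
        Ideal.span (f '' {j | j < k})) :
    Module.Flat R (Localization.AtPrime q) := by
  classical
  let φ : D →ₐ[R] D ⧸ Ideal.span (Set.range f) := Ideal.Quotient.mkₐ R (Ideal.span (Set.range f))
  have hφ : Function.Surjective φ := Ideal.Quotient.mkₐ_surjective R _
  haveI : (q.comap φ.toRingHom).IsPrime := Ideal.comap_isPrime _ _
  obtain ⟨e⟩ := Groth.Agent.H66.GlobalCI.nonempty_atPrime_equiv_quot φ hφ q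
  have hker : RingHom.ker φ.toRingHom = Ideal.span (Set.range f) := Ideal.Quotient.mkₐ_ker R _
  have hmap : (RingHom.ker φ.toRingHom).map
      (algebraMap D (Localization.AtPrime (q.comap φ.toRingHom))) =
      Ideal.span (Set.range fun i => algebraMap D (Localization.AtPrime (q.comap φ.toRingHom)) (f i)) := by
    rw [hker, Ideal.map_span, ← Set.range_comp]
    rfl
  have hunder : (q.comap φ.toRingHom).under R =
      q.comap (algebraMap R (D ⧸ Ideal.span (Set.range f))) := by
    ext x
    simp only [Ideal.under_def, Ideal.mem_comap]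
    rfl
  have hflat := flat_localization_quotient_of_regular f (q.comap φ.toRingHom) (by
    rw [hunder]; exact hreg)
  rw [← hmap] at hflat
  exact Module.Flat.of_linearEquiv e.toLinearEquiv

end Groth.Agent.H75.FibreRegFlat
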