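import Mathlib
set_option autoImplicit false
universe u

namespace Groth.Agent.H75.FlatAway

open HomogeneousLocalization

/-- (FA) the degree-zero localisation A_(b) is flat over R when the graded pieces of large degree are flat. -/
theorem flat_away {R A σ : Type u} [CommRing R] [CommRing A] [SetLike σ A] [AddSubgroupClass σ A]
    (𝒜 : ℕ → σ) [GradedRing 𝒜] (ρ : R →+* A) (hρ : ∀ r, ρ r ∈ 𝒜 0) (d₀ : ℕ)
    (hflat : ∀ d : ℕ, d₀ ≤ d →
      letI := ρ.toAlgebra
      Module.Flat R ↥(Submodule.span R (𝒜 d : Set A)))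
    {e : ℕ} (he : 0 < e) (b : A) (hb : b ∈ 𝒜 e)
    (φ : R →+* HomogeneousLocalization.Away 𝒜 b)
    (hφ : ∀ r, (φ r).val = Localization.mk (ρ r) 1) : φ.Flat := by
  classical
  letI algA : Algebra R A := ρ.toAlgebra
  letI algZ : Algebra R (HomogeneousLocalization.Away 𝒜 b) := φ.toAlgebra
  show Module.Flat R (HomogeneousLocalization.Away 𝒜 b)
  have hsmulA : ∀ (r : R) (x : A), r • x = ρ r * x := fun r x => rfl
  have hsmulZ : ∀ (r : R) (x : HomogeneousLocalization.Away 𝒜 b), r • x = φ r * x :=
    fun r x => rfl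
  let ι : A →+* Localization.Away b := algebraMap A (Localization.Away b)
  let V : HomogeneousLocalization.Away 𝒜 b →+* Localization.Away b :=
    algebraMap (HomogeneousLocalization.Away 𝒜 b) (Localization.Away b)
  have hV : ∀ y, V y = y.val := fun y => rfl
  have hφval : ∀ r, (φ r).val = ι (ρ r) := fun r => by
    rw [hφ, Localization.mk_one_eq_algebraMap]
  have hspan : ∀ (d : ℕ) (x : A), x ∈ Submodule.span R (𝒜 d : Set A) → x ∈ 𝒜 d := by
    intro d x hx
    induction hx using Submodule.span_induction with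
    | mem x hx => exact hx
    | zero => exact zero_mem _
    | add x y _ _ hx hy => exact add_mem hx hy
    | smul r x _ hx =>
      rw [hsmulA]
      have := SetLike.mul_mem_graded (hρ r) hx
      rwa [zero_add] at this
  apply Module.Flat.of_forall_isTrivialRelation
  intro l r z hrel
  -- Step 1: common denominators
  have hev : ∀ᶠ n in Filter.atTop, (∀ i, b ^ n • (z i).val ∈
      algebraMap A (Localization.Away b) '' (𝒜 (n • e) : Set A)) ∧ d₀ ≤ n := by
    refine Filter.Eventually.and ?_ (Filter.eventually_ge_atTop d₀)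
    rw [Filter.eventually_all]
    intro i
    exact Away.eventually_smul_mem hb (z i)
  obtain ⟨k, hk, hkd⟩ := hev.exists
  choose a ha haz using hk
  have haz' : ∀ i, ι (a i) = ι (b ^ k) * V (z i) := by
    intro i
    rw [hV]
    exact (haz i).trans (Algebra.smul_def _ _)
  -- Step 2: the relation in `A` up to a power of `b`
  have hrel' : ι (∑ i, ρ (r i) * a i) = 0 := by
    have h1 : ι (∑ i, ρ (r i) * a i) = ι (b ^ k) * V (∑ i, r i • z i) := by
      rw [map_sum, map_sum, Finset.mul_sum]
      refine Finset.sum_congr rfl fun i _ => ?_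
      rw [map_mul, haz' i, hsmulZ, map_mul, hV (φ (r i)), hφval]
      ring
    rw [h1, hrel, map_zero, mul_zero]
  obtain ⟨⟨_, N, rfl⟩, hN⟩ :=
    (IsLocalization.map_eq_zero_iff (Submonoid.powers b) (Localization.Away b) _).mp hrel'
  -- Step 3: a relation in a flat graded piece
  have hd : d₀ ≤ (N + k) • e := by
    rw [smul_eq_mul]; nlinarith
  have ha' : ∀ i, b ^ N * a i ∈ 𝒜 ((N + k) • e) := by
    intro i
    rw [add_smul]
    exact SetLike.mul_mem_graded (SetLike.pow_mem_graded N hb) (ha i)
  haveI : Module.Flat R ↥(Submodule.span R (𝒜 ((N + k) • e) : Set A)) := hflat ((N + k) • e) hd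
  let x' : Fin l → ↥(Submodule.span R (𝒜 ((N + k) • e) : Set A)) :=
    fun i => ⟨b ^ N * a i, Submodule.subset_span (ha' i)⟩
  have hx'rel : ∑ i, r i • x' i = 0 := by
    apply Subtype.ext
    rw [Submodule.coe_sum]
    simp only [Submodule.coe_smul, x', Submodule.coe_zero, hsmulA]
    rw [← hN, Finset.mul_sum]
    refine Finset.sum_congr rfl fun i _ => by ring
  obtain ⟨κ, α, y, hxy, hα⟩ := Module.Flat.isTrivialRelation_of_sum_smul_eq_zero hx'rel
  -- Step 4: transport the trivialisation
  have hy : ∀ j, (y j : A) ∈ 𝒜 ((N + k) • e) := fun j => hspan _ _ (y j).2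
  refine ⟨κ, α, fun j => Away.mk 𝒜 hb (N + k) (y j : A) (hy j), ?_, hα⟩
  intro i
  apply HomogeneousLocalization.val_injective
  have hu : IsUnit (ι (b ^ (N + k))) :=
    IsLocalization.map_units (Localization.Away b) (⟨b ^ (N + k), N + k, rfl⟩ : Submonoid.powers b)
  apply hu.mul_left_cancel
  have h1 : ι (b ^ (N + k)) * (z i).val = ι (b ^ N * a i) := by
    rw [map_mul, haz' i, hV, pow_add, map_mul]; ring
  have h2 : ι (b ^ (N + k)) * (∑ j, α i j • Away.mk 𝒜 hb (N + k) (y j : A) (hy j)).val =
      ι (∑ j, ρ (α i j) * (y j : A)) := by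
    rw [← hV, map_sum, Finset.mul_sum, map_sum]
    refine Finset.sum_congr rfl fun j _ => ?_
    have h3 : ι (b ^ (N + k)) * Localization.mk (y j : A)
        (⟨b ^ (N + k), N + k, rfl⟩ : Submonoid.powers b) = ι (y j : A) := by
      rw [Localization.mk_eq_mk'_apply]
      exact IsLocalization.mk'_spec' (Localization.Away b) (y j : A)
        (⟨b ^ (N + k), N + k, rfl⟩ : Submonoid.powers b)
    rw [hsmulZ, map_mul, hV, hV, hφval, Away.val_mk, map_mul, ← h3]
    ring
  rw [h1, h2]
  congr 1
  have := congrArg Subtype.val (hxy i)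
  simpa [x', hsmulA, Submodule.coe_sum] using this

end Groth.Agent.H75.FlatAway
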