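import Mathlib

/-! (COV1) for helper98's S8341 squad: the preimages of `D₊(f)`, `f ∈ 𝒜 1`, cover `Proj ℬ`
when `𝒜₊` is generated by `𝒜 1`. -/

set_option autoImplicit false
universe u
open CategoryTheory CategoryTheory.Limits AlgebraicGeometry Opposite TopologicalSpace TensorProduct
open scoped HomogeneousIdeal

namespace Groth.Agent.H75.GMBC_COV1

variable {A σ : Type u} [CommRing A] [SetLike σ A]
    [AddSubgroupClass σ A] {𝒜 : ℕ → σ} [GradedRing 𝒜] {B σ' : Type u} [CommRing B] [SetLike σ' B]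
    [AddSubgroupClass σ' B]
    {ℬ : ℕ → σ'} [GradedRing ℬ] (ψ : 𝒜 →+*ᵍ ℬ) (hψ : ℬ₊ ≤ (𝒜₊).map ψ)
    (hgen : (𝒜₊).toIdeal = Ideal.span (𝒜 1 : Set A))

include hgen in
/-- (COV1) -/
theorem isOpenCover_preimage_basicOpen_one :
    IsOpenCover fun f : {f : A // f ∈ 𝒜 1} => Proj.map ψ hψ ⁻¹ᵁ Proj.basicOpen 𝒜 f.1 := by
  refine Proj.iSup_basicOpen_eq_top ℬ (fun f : {f : A // f ∈ 𝒜 1} => ψ f.1) ?_
  refine (show (ℬ₊).toIdeal ≤ ((𝒜₊).map ψ).toIdeal from hψ).trans ?_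
  refine Ideal.map_le_of_le_comap ?_
  rw [hgen]
  refine Ideal.span_le.mpr fun x hx => ?_
  exact Ideal.subset_span ⟨⟨x, hx⟩, rfl⟩

end Groth.Agent.H75.GMBC_COV1
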