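import Mathlib

/-!
# Lagrange interpolation identities for `∏ (X - w c)` (helper for S0271)
-/

set_option autoImplicit false
open Polynomial

namespace Groth.Agent.H75.IE1

variable {R : Type*} [CommRing R] {ι : Type*} [Fintype ι] [DecidableEq ι]

/-- `fpoly w = ∏_c (X - w c)` -/
noncomputable def fpoly (w : ι → R) : R[X] := ∏ c, (X - C (w c))

/-- `lag w v = ∑_c v c * ∏_{c' ≠ c} (X - w c')` -/
noncomputable def lag (w v : ι → R) : R[X] :=
  ∑ c, C (v c) * ∏ c' ∈ Finset.univ.erase c, (X - C (w c'))

theorem fpoly_monic (w : ι → R) : (fpoly w).Monic :=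
  monic_prod_of_monic _ _ fun c _ => monic_X_sub_C (w c)

theorem derivative_fpoly (w : ι → R) : derivative (fpoly w) = lag w (fun _ => 1) := by
  unfold fpoly lag
  rw [derivative_prod_finset]
  apply Finset.sum_congr rfl
  intro c _
  simp only [derivative_sub, derivative_X, derivative_C, sub_zero, mul_one, map_one, one_mul]

theorem eval_fpoly (w : ι → R) (c : ι) : (fpoly w).eval (w c) = 0 := by
  unfold fpoly
  rw [eval_prod]
  apply Finset.prod_eq_zero (Finset.mem_univ c)
  rw [eval_sub, eval_X, eval_C, sub_self]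

theorem eval_lag (w v : ι → R) (c₀ : ι) :
    (lag w v).eval (w c₀) = v c₀ * ∏ c' ∈ Finset.univ.erase c₀, (w c₀ - w c') := by
  unfold lag
  rw [eval_finset_sum, Finset.sum_eq_single c₀]
  · rw [eval_mul, eval_C, eval_prod]
    congr 1
    apply Finset.prod_congr rfl
    intro c' _
    rw [eval_sub, eval_X, eval_C]
  · intro c _ hc
    rw [eval_mul, eval_prod]
    have h0 : ∏ j ∈ Finset.univ.erase c, eval (w c₀) (X - C (w j)) = 0 := by
      apply Finset.prod_eq_zero (Finset.mem_erase.mpr ⟨Ne.symm hc, Finset.mem_univ c₀⟩)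
      rw [eval_sub, eval_X, eval_C, sub_self]
    rw [h0, mul_zero]
  · intro h
    exact absurd (Finset.mem_univ _) h

theorem dvd_lagrange (w : ι → R) (W : R[X]) :
    fpoly w ∣ W * lag w (fun _ => 1) - lag w (fun c => W.eval (w c)) := by
  have h : W * lag w (fun _ => 1) - lag w (fun c => W.eval (w c))
      = ∑ c, (W - C (W.eval (w c))) * ∏ c' ∈ Finset.univ.erase c, (X - C (w c')) := by
    unfold lag
    rw [Finset.mul_sum, ← Finset.sum_sub_distrib]
    apply Finset.sum_congr rfl
    intro c _
    simp only [map_one, one_mul]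
    ring
  rw [h]
  apply Finset.dvd_sum
  intro c _
  obtain ⟨U, hU⟩ := X_sub_C_dvd_sub_C_eval (a := w c) (p := W)
  rw [hU]
  have h2 : fpoly w = (X - C (w c)) * ∏ c' ∈ Finset.univ.erase c, (X - C (w c')) := by
    unfold fpoly
    exact (Finset.mul_prod_erase Finset.univ _ (Finset.mem_univ c)).symm
  rw [h2]
  exact ⟨U, by ring⟩

section Equivariant

variable {G : Type*} [Group G] [MulSemiringAction G R] [MulAction G ι]

theorem smul_fpoly (w : ι → R) (hw : ∀ (γ : G) c, γ • w c = w (γ • c)) (γ : G) :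
    γ • fpoly w = fpoly w := by
  unfold fpoly
  rw [Finset.smul_prod']
  have h : ∀ c, γ • (X - C (w c)) = X - C (w (γ • c)) := by
    intro c
    rw [smul_sub, smul_X, smul_C, hw]
  simp_rw [h]
  exact Fintype.prod_equiv (MulAction.toPerm γ) _ _ (fun c => rfl)

theorem smul_lag (w v : ι → R) (hw : ∀ (γ : G) c, γ • w c = w (γ • c))
    (hv : ∀ (γ : G) c, γ • v c = v (γ • c)) (γ : G) :
    γ • lag w v = lag w v := by
  unfold lag
  rw [Finset.smul_sum]
  have h : ∀ c, γ • (C (v c) * ∏ c' ∈ Finset.univ.erase c, (X - C (w c')))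
      = C (v (γ • c)) * ∏ c' ∈ Finset.univ.erase (γ • c), (X - C (w c')) := by
    intro c
    rw [smul_mul', smul_C, hv, Finset.smul_prod']
    congr 1
    apply Finset.prod_equiv (MulAction.toPerm γ)
    · intro c'
      simp only [Finset.mem_erase, Finset.mem_univ, and_true, MulAction.toPerm_apply, ne_eq,
        smul_left_cancel_iff]
    · intro c' _
      rw [smul_sub, smul_X, smul_C, hw]
      rfl
  simp_rw [h]
  exact Fintype.sum_equiv (MulAction.toPerm γ) _ _ (fun c => rfl)

theorem exists_map_eq_of_smul_eq (p : R[X]) (hp : ∀ γ : G, γ • p = p) :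
    ∃ pB : (FixedPoints.subring R G)[X], pB.map (FixedPoints.subring R G).subtype = p := by
  have hc : (↑p.coeffs : Set R) ⊆ (FixedPoints.subring R G : Set R) := by
    intro x hx
    obtain ⟨n, -, rfl⟩ := Polynomial.mem_coeffs_iff.mp hx
    show ∀ γ : G, γ • p.coeff n = p.coeff n
    intro γ
    rw [← Polynomial.coeff_smul, hp γ]
  exact ⟨p.toSubring _ hc, Polynomial.map_toSubring _ _ hc⟩

theorem smul_map_subtype (pB : (FixedPoints.subring R G)[X]) (γ : G) :
    γ • pB.map (FixedPoints.subring R G).subtype = pB.map (FixedPoints.subring R G).subtype := by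
  ext n
  rw [coeff_smul, coeff_map]
  exact (pB.coeff n).2 γ

end Equivariant

end Groth.Agent.H75.IE1
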