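import Mathlib
import Groth.Prelude.Def_Pi1
import Groth.Agent.H75.IE1

/-!
# Standard étale chart for `R^H` over `R^G` from a separating element (helper for S0271)
-/

set_option autoImplicit false
open Polynomial
universe u

namespace Groth.Agent.H75.IE2

open Pi1

theorem etale_away {G R : Type u} [Group G] [Finite G] [CommRing R] [MulSemiringAction G R]
    (H : Subgroup G) (q : Ideal R) [q.IsPrime] (z : FixedPoints.subring R H)
    (hz : ∀ τ : G, τ ∉ H → (z : R) - τ • (z : R) ∉ q) :
    ∃ g : FixedPoints.subring R H, (g : R) ∉ q ∧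
      Algebra.Etale (FixedPoints.subring R G) (Localization.Away g) := by
  classical
  haveI : Fintype (G ⧸ H) := Fintype.ofFinite _
  have hzH : ∀ h : G, h ∈ H → h • (z : R) = z := fun h hh => z.2 ⟨h, hh⟩
  have hout : ∀ (a : G) (y : R), (∀ h : G, h ∈ H → h • y = y) →
      ((a : G ⧸ H).out) • y = a • y := by
    intro a y hy
    obtain ⟨h, hh⟩ := QuotientGroup.mk_out_eq_mul H a
    rw [hh, mul_smul, hy _ h.2]
  have hequiv : ∀ (y : R), (∀ h : G, h ∈ H → h • y = y) → ∀ (γ : G) (c : G ⧸ H),
      γ • (c.out • y) = (γ • c).out • y := by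
    intro y hy γ c
    have hc : γ • c = ((γ * c.out : G) : G ⧸ H) := by
      conv_lhs => rw [← QuotientGroup.out_eq' c]
      rfl
    rw [hc, hout _ _ hy, mul_smul]
  let w : G ⧸ H → R := fun c => c.out • (z : R)
  have hw : ∀ (γ : G) (c : G ⧸ H), γ • w c = w (γ • c) := hequiv z hzH
  have hw0 : w ((1 : G) : G ⧸ H) = z := by
    show ((1 : G) : G ⧸ H).out • (z : R) = z
    rw [hout _ _ hzH, one_smul]
  have hsep : ∀ c : G ⧸ H, c ≠ ((1 : G) : G ⧸ H) → (z : R) - w c ∉ q := by
    intro c hc
    apply hz
    intro hmem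
    apply hc
    rw [← QuotientGroup.out_eq' c]
    apply QuotientGroup.eq.mpr
    rw [mul_one]
    exact H.inv_mem hmem
  -- the polynomial
  have hfR_inv : ∀ γ : G, γ • IE1.fpoly w = IE1.fpoly w := IE1.smul_fpoly w hw
  obtain ⟨fB, hfB⟩ := IE1.exists_map_eq_of_smul_eq (IE1.fpoly w) hfR_inv
  have hfB_monic : fB.Monic := by
    have h1 : (fB.map (FixedPoints.subring R G).subtype).Monic := by
      rw [hfB]; exact IE1.fpoly_monic w
    exact Polynomial.monic_of_injective (Subring.subtype_injective _) h1
  let P : StandardEtalePair (FixedPoints.subring R G) :=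
    { f := fB, monic_f := hfB_monic, g := derivative fB,
      cond := ⟨1, 0, 1, by simp⟩ }
  have hcoe : ∀ pB : (FixedPoints.subring R G)[X],
      ((aeval z pB : FixedPoints.subring R H) : R)
        = (pB.map (FixedPoints.subring R G).subtype).eval (z : R) := by
    intro pB
    rw [Polynomial.eval_map, Polynomial.aeval_def]
    have h := Polynomial.hom_eval₂ pB (algebraMap (FixedPoints.subring R G) (FixedPoints.subring R H))
      (FixedPoints.subring R H).subtype z
    have hcomp : (FixedPoints.subring R H).subtype.comp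
        (algebraMap (FixedPoints.subring R G) (FixedPoints.subring R H))
        = (FixedPoints.subring R G).subtype := RingHom.ext fun x => rfl
    rw [hcomp] at h
    exact h
  have hder : (derivative fB).map (FixedPoints.subring R G).subtype = IE1.lag w (fun _ => 1) := by
    rw [← Polynomial.derivative_map, hfB, IE1.derivative_fpoly]
  have hgC_val : ((aeval z (derivative fB) : FixedPoints.subring R H) : R)
      = ∏ c' ∈ Finset.univ.erase ((1 : G) : G ⧸ H), ((z : R) - w c') := by
    have h := IE1.eval_lag w (fun _ => 1) ((1 : G) : G ⧸ H)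
    rw [hw0, one_mul] at h
    rw [hcoe, hder, h]
  have hgCq : ((aeval z (derivative fB) : FixedPoints.subring R H) : R) ∉ q := by
    rw [hgC_val, Ideal.IsPrime.prod_mem_iff]
    rintro ⟨c', hc', hmem⟩
    exact hsep c' (Finset.ne_of_mem_erase hc') hmem
  have hfz : aeval z fB = 0 := by
    apply Subtype.ext
    rw [hcoe, hfB]
    have h := IE1.eval_fpoly w ((1 : G) : G ⧸ H)
    rw [hw0] at h
    exact h
  refine ⟨aeval z (derivative fB), hgCq, ?_⟩
  -- notation
  obtain ⟨gC, hgC⟩ : ∃ gC : FixedPoints.subring R H, gC = aeval z (derivative fB) := ⟨_, rfl⟩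
  rw [← hgC]
  have hx : P.HasMap (algebraMap (FixedPoints.subring R H) (Localization.Away gC) z) := by
    constructor
    · show aeval _ fB = 0
      rw [Polynomial.aeval_algebraMap_apply, hfz, map_zero]
    · show IsUnit (aeval _ (derivative fB))
      rw [Polynomial.aeval_algebraMap_apply, ← hgC]
      exact IsLocalization.Away.algebraMap_isUnit gC
  let ψ : Localization.Away (AdjoinRoot.mk fB (derivative fB)) →ₐ[FixedPoints.subring R G]
      Localization.Away gC := (P.lift _ hx).comp P.equivAwayAdjoinRoot.symm.toAlgHom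
  have hψ_root : ψ (algebraMap (AdjoinRoot fB) _ (AdjoinRoot.root fB))
      = algebraMap (FixedPoints.subring R H) (Localization.Away gC) z := by
    have h1 : P.equivAwayAdjoinRoot.symm
        (algebraMap (AdjoinRoot fB) (Localization.Away (AdjoinRoot.mk fB (derivative fB)))
          (AdjoinRoot.root fB)) = P.X := by
      rw [AlgEquiv.symm_apply_eq]
      simp [StandardEtalePair.equivAwayAdjoinRoot]
      rfl
    show P.lift _ hx (P.equivAwayAdjoinRoot.symm _) = _
    rw [h1]
    exact P.lift_X _ hx
  have hψ_mk : ∀ W : (FixedPoints.subring R G)[X],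
      ψ (algebraMap (AdjoinRoot fB) _ (AdjoinRoot.mk fB W))
        = algebraMap (FixedPoints.subring R H) (Localization.Away gC) (aeval z W) := by
    intro W
    have h1 : algebraMap (AdjoinRoot fB) (Localization.Away (AdjoinRoot.mk fB (derivative fB)))
        (AdjoinRoot.mk fB W)
        = aeval (algebraMap (AdjoinRoot fB) (Localization.Away (AdjoinRoot.mk fB (derivative fB)))
            (AdjoinRoot.root fB)) W := by
      rw [Polynomial.aeval_algebraMap_apply, AdjoinRoot.aeval_eq]
    rw [h1, ← Polynomial.aeval_algHom_apply, hψ_root, Polynomial.aeval_algebraMap_apply]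
  have hgu : IsUnit (algebraMap (FixedPoints.subring R H) (Localization.Away gC) gC) :=
    IsLocalization.Away.algebraMap_isUnit gC
  have hu : IsUnit (algebraMap (AdjoinRoot fB)
      (Localization.Away (AdjoinRoot.mk fB (derivative fB))) (AdjoinRoot.mk fB (derivative fB))) :=
    IsLocalization.Away.algebraMap_isUnit _
  have hψu : ψ (algebraMap (AdjoinRoot fB) _ (AdjoinRoot.mk fB (derivative fB)))
      = algebraMap (FixedPoints.subring R H) (Localization.Away gC) gC := by
    rw [hψ_mk, hgC]
  -- surjectivity
  have hsurj : Function.Surjective ψ := by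
    intro s
    obtain ⟨⟨c, m⟩, hcm⟩ := IsLocalization.surj (Submonoid.powers gC) s
    obtain ⟨n, hn⟩ := (Submonoid.mem_powers_iff _ _).mp m.2
    have hcm' : s * (algebraMap (FixedPoints.subring R H) (Localization.Away gC) gC) ^ n
        = algebraMap (FixedPoints.subring R H) (Localization.Away gC) c := by
      rw [← map_pow, hn]; exact hcm
    -- Lagrange polynomial of `c`
    have hcH : ∀ h : G, h ∈ H → h • (c : R) = c := fun h hh => c.2 ⟨h, hh⟩
    let v : G ⧸ H → R := fun c' => c'.out • (c : R)
    have hv : ∀ (γ : G) (c' : G ⧸ H), γ • v c' = v (γ • c') := hequiv c hcH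
    obtain ⟨Wc, hWc⟩ := IE1.exists_map_eq_of_smul_eq (IE1.lag w v) (IE1.smul_lag w v hw hv)
    have hWcz : aeval z Wc = c * gC := by
      apply Subtype.ext
      rw [hcoe, hWc]
      have h := IE1.eval_lag w v ((1 : G) : G ⧸ H)
      rw [hw0] at h
      rw [h, hgC]
      show v ((1 : G) : G ⧸ H) * _ = (c : R) * ((aeval z (derivative fB) : FixedPoints.subring R H) : R)
      rw [hgC_val]
      congr 1
      show ((1 : G) : G ⧸ H).out • (c : R) = c
      rw [hout _ _ hcH, one_smul]
    have hinv : ψ (↑(hu.unit⁻¹) : Localization.Away (AdjoinRoot.mk fB (derivative fB)))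
        * algebraMap (FixedPoints.subring R H) (Localization.Away gC) gC = 1 := by
      rw [← hψu, ← map_mul]
      have : (↑(hu.unit⁻¹) : Localization.Away (AdjoinRoot.mk fB (derivative fB)))
          * algebraMap (AdjoinRoot fB) _ (AdjoinRoot.mk fB (derivative fB)) = 1 :=
        IsUnit.val_inv_mul hu
      rw [this, map_one]
    refine ⟨algebraMap (AdjoinRoot fB) _ (AdjoinRoot.mk fB Wc)
      * (↑(hu.unit⁻¹) : Localization.Away (AdjoinRoot.mk fB (derivative fB))) ^ (n + 1), ?_⟩
    rw [map_mul, map_pow, hψ_mk, hWcz, map_mul, ← hcm']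
    calc s * algebraMap (FixedPoints.subring R H) (Localization.Away gC) gC ^ n
          * algebraMap (FixedPoints.subring R H) (Localization.Away gC) gC
          * ψ (↑(hu.unit⁻¹)) ^ (n + 1)
        = s * (ψ (↑(hu.unit⁻¹))
            * algebraMap (FixedPoints.subring R H) (Localization.Away gC) gC) ^ (n + 1) := by ring
      _ = s := by rw [hinv, one_pow, mul_one]
  -- injectivity
  have hinj : Function.Injective ψ := by
    rw [injective_iff_map_eq_zero]
    intro e he
    obtain ⟨⟨a, m⟩, ham⟩ := IsLocalization.surj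
      (Submonoid.powers (AdjoinRoot.mk fB (derivative fB))) e
    obtain ⟨W, rfl⟩ := AdjoinRoot.mk_surjective a
    have h1 : ψ (algebraMap (AdjoinRoot fB) _ (AdjoinRoot.mk fB W)) = 0 := by
      rw [← ham, map_mul, he, zero_mul]
    rw [hψ_mk] at h1
    obtain ⟨⟨_, k, rfl⟩, hk⟩ := (IsLocalization.map_eq_zero_iff (Submonoid.powers gC) _ _).mp h1
    have hW₁z : aeval z (derivative fB ^ k * W) = 0 := by
      rw [map_mul, map_pow, ← hgC]; exact hk
    have hW₁R : ((derivative fB ^ k * W).map (FixedPoints.subring R G).subtype).eval (z : R) = 0 := by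
      rw [← hcoe, hW₁z]; rfl
    have hall : ∀ c : G ⧸ H,
        ((derivative fB ^ k * W).map (FixedPoints.subring R G).subtype).eval (w c) = 0 := by
      intro c
      have h := Polynomial.smul_eval_smul R c.out
        ((derivative fB ^ k * W).map (FixedPoints.subring R G).subtype) (z : R)
      rw [IE1.smul_map_subtype, hW₁R, smul_zero] at h
      exact h
    have hdvd := IE1.dvd_lagrange w ((derivative fB ^ k * W).map (FixedPoints.subring R G).subtype)
    have hzero : IE1.lag w (fun c =>
        ((derivative fB ^ k * W).map (FixedPoints.subring R G).subtype).eval (w c)) = 0 := by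
      unfold IE1.lag
      apply Finset.sum_eq_zero
      intro c _
      simp only [hall c, map_zero, zero_mul]
    rw [hzero, sub_zero, ← hder, ← hfB, ← Polynomial.map_mul] at hdvd
    have hdvdB : fB ∣ derivative fB ^ k * W * derivative fB :=
      (Polynomial.map_dvd_map _ (Subring.subtype_injective _) hfB_monic).mp hdvd
    have hmk : AdjoinRoot.mk fB (derivative fB ^ k * W * derivative fB) = 0 :=
      AdjoinRoot.mk_eq_zero.mpr hdvdB
    have h2 : algebraMap (AdjoinRoot fB) (Localization.Away (AdjoinRoot.mk fB (derivative fB)))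
        (AdjoinRoot.mk fB W) = 0 := by
      rw [IsLocalization.map_eq_zero_iff (Submonoid.powers (AdjoinRoot.mk fB (derivative fB)))]
      refine ⟨⟨_, k + 1, rfl⟩, ?_⟩
      rw [← hmk, map_mul, map_mul, map_pow]
      ring
    rw [h2] at ham
    have hmu : IsUnit (algebraMap (AdjoinRoot fB)
        (Localization.Away (AdjoinRoot.mk fB (derivative fB))) ↑m) :=
      IsLocalization.map_units _ m
    exact (hmu.mul_left_eq_zero).mp ham
  haveI : Algebra.Etale (FixedPoints.subring R G)
      (Localization.Away (AdjoinRoot.mk fB (derivative fB))) :=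
    Algebra.Etale.of_equiv P.equivAwayAdjoinRoot
  exact Algebra.Etale.of_equiv (AlgEquiv.ofBijective ψ ⟨hinj, hsurj⟩)

end Groth.Agent.H75.IE2
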