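import Mathlib

/-!
# A separating element in the inertia invariants (helper for S0271)

For a finite group `G` acting on a commutative ring `R` and a prime `q` with inertia group `I`,
there is `z ∈ R^I` with `z - τ z ∉ q` for all `τ ∉ I`.
-/

set_option autoImplicit false
open Polynomial
open scoped Pointwise
universe u

namespace Groth.Agent.H75.IE3

variable {G R : Type u} [Group G] [Finite G] [CommRing R] [MulSemiringAction G R]
  (q : Ideal R) [q.IsPrime]

theorem stab_mem_iff (δ : G) (hδ : δ ∈ MulAction.stabilizer G q) (x : R) :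
    δ • x ∈ q ↔ x ∈ q := by
  have h : δ • q = q := hδ
  conv_lhs => rw [← h]
  exact Ideal.smul_mem_pointwise_smul_iff

omit [q.IsPrime] in
theorem smul_eq_of_smul_le (σ : G) (h : σ • q ≤ q) : σ • q = q := by
  have hpow : ∀ k : ℕ, σ ^ k • q ≤ q := by
    intro k
    induction k with
    | zero => rw [pow_zero, one_smul]
    | succ k ih =>
      rw [pow_succ, mul_smul]
      exact (Ideal.pointwise_smul_le_pointwise_smul_iff.mpr h).trans ih
  apply le_antisymm h
  obtain ⟨n, hn⟩ : ∃ n, σ ^ (n + 1) = 1 :=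
    ⟨orderOf σ - 1, by rw [Nat.sub_add_cancel (orderOf_pos σ)]; exact pow_orderOf_eq_one σ⟩
  calc q = σ ^ (n + 1) • q := by rw [hn, one_smul]
    _ = σ • (σ ^ n • q) := by rw [pow_succ', mul_smul]
    _ ≤ σ • q := Ideal.pointwise_smul_le_pointwise_smul_iff.mpr (hpow n)

theorem exists_t : ∃ t : R, (∀ δ ∈ MulAction.stabilizer G q, δ • t = t) ∧ t ∉ q ∧
    ∀ τ : G, τ ∉ MulAction.stabilizer G q → τ • t ∈ q := by
  classical
  haveI : Fintype G := Fintype.ofFinite G
  have hx : ∀ τ : G, τ ∉ MulAction.stabilizer G q → ∃ x : R, x ∉ q ∧ τ • x ∈ q := by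
    intro τ hτ
    by_contra hcon
    push_neg at hcon
    apply hτ
    have hle : τ⁻¹ • q ≤ q := by
      intro x hx
      rw [Ideal.mem_inv_pointwise_smul_iff] at hx
      by_contra hxq
      exact hcon x hxq hx
    have h1 : τ⁻¹ ∈ MulAction.stabilizer G q := smul_eq_of_smul_le q τ⁻¹ hle
    simpa using (MulAction.stabilizer G q).inv_mem h1
  choose! xf hxf using hx
  have ht₀q : (∏ τ ∈ Finset.univ.filter (fun τ => τ ∉ MulAction.stabilizer G q), xf τ) ∉ q := by
    rw [Ideal.IsPrime.prod_mem_iff]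
    rintro ⟨τ, hτ, hmem⟩
    exact (hxf τ (Finset.mem_filter.mp hτ).2).1 hmem
  have ht₀τ : ∀ τ : G, τ ∉ MulAction.stabilizer G q →
      τ • (∏ τ ∈ Finset.univ.filter (fun τ => τ ∉ MulAction.stabilizer G q), xf τ) ∈ q := by
    intro τ hτ
    rw [Finset.smul_prod', Ideal.IsPrime.prod_mem_iff]
    exact ⟨τ, Finset.mem_filter.mpr ⟨Finset.mem_univ _, hτ⟩, (hxf τ hτ).2⟩
  obtain ⟨t₀, ht₀⟩ : ∃ t₀ : R,
      t₀ = ∏ τ ∈ Finset.univ.filter (fun τ => τ ∉ MulAction.stabilizer G q), xf τ := ⟨_, rfl⟩
  rw [← ht₀] at ht₀q ht₀τ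
  refine ⟨∏ δ ∈ Finset.univ.filter (fun δ => δ ∈ MulAction.stabilizer G q), δ • t₀, ?_, ?_, ?_⟩
  · intro δ hδ
    rw [Finset.smul_prod']
    simp_rw [smul_smul]
    apply Finset.prod_bij (fun δ' _ => δ * δ')
    · intro a ha
      rw [Finset.mem_filter] at ha ⊢
      exact ⟨Finset.mem_univ _, (MulAction.stabilizer G q).mul_mem hδ ha.2⟩
    · intro a _ b _ hab
      exact mul_left_cancel hab
    · intro b hb
      rw [Finset.mem_filter] at hb
      refine ⟨δ⁻¹ * b, ?_, by simp⟩
      rw [Finset.mem_filter]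
      exact ⟨Finset.mem_univ _, (MulAction.stabilizer G q).mul_mem
        ((MulAction.stabilizer G q).inv_mem hδ) hb.2⟩
    · intro a _
      rfl
  · rw [Ideal.IsPrime.prod_mem_iff]
    rintro ⟨δ, hδ, hmem⟩
    exact ht₀q ((stab_mem_iff q δ (Finset.mem_filter.mp hδ).2 t₀).mp hmem)
  · intro τ hτ
    rw [Finset.smul_prod', Ideal.IsPrime.prod_mem_iff]
    refine ⟨1, Finset.mem_filter.mpr ⟨Finset.mem_univ _, (MulAction.stabilizer G q).one_mem⟩, ?_⟩
    rw [one_smul]
    exact ht₀τ τ hτ

omit [Finite G] [q.IsPrime] in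
theorem conj_mem_inertia (δ : G) (hδ : δ ∈ MulAction.stabilizer G q) (σ : G)
    (hσ : σ ∈ q.inertia G) : δ⁻¹ * σ * δ ∈ q.inertia G := by
  intro y
  have h1 : σ • (δ • y) - δ • y ∈ q := hσ (δ • y)
  have h2 : (δ⁻¹ * σ * δ) • y - y = δ⁻¹ • (σ • (δ • y) - δ • y) := by
    rw [smul_sub, inv_smul_smul, mul_smul, mul_smul]
  show (δ⁻¹ * σ * δ) • y - y ∈ q
  rw [h2]
  have hδ' : δ⁻¹ • q = q := (MulAction.stabilizer G q).inv_mem hδ
  have h3 := Ideal.smul_mem_pointwise_smul δ⁻¹ _ q h1
  rwa [hδ'] at h3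

omit [q.IsPrime] in
theorem fx_pow (δ : G) (c : R) (h : δ • c - c ∈ q) (k : ℕ) : δ • c ^ k - c ^ k ∈ q := by
  obtain ⟨d, hd⟩ := sub_dvd_pow_sub_pow (δ • c) c k
  rw [smul_pow', hd]
  exact q.mul_mem_right _ h

/-- An element of the stabilizer fixing the inertia-invariants modulo `q` is in the inertia group. -/
theorem mem_inertia_of_fixes_invariants (δ : G) (hδ : δ ∈ MulAction.stabilizer G q)
    (h : ∀ c : R, (∀ σ ∈ q.inertia G, σ • c = c) → δ • c - c ∈ q) : δ ∈ q.inertia G := by
  classical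
  intro x
  show δ • x - x ∈ q
  haveI : Fintype (q.inertia G) := Fintype.ofFinite _
  have hπσ : ∀ σ : q.inertia G, ∀ y : R,
      Ideal.Quotient.mk q ((σ : G) • y) = Ideal.Quotient.mk q y := by
    intro σ y
    rw [← sub_eq_zero, ← map_sub]
    exact Ideal.Quotient.eq_zero_iff_mem.mpr (σ.2 y)
  have hπδ : ∀ y y' : R, Ideal.Quotient.mk q y = Ideal.Quotient.mk q y' →
      Ideal.Quotient.mk q (δ • y) = Ideal.Quotient.mk q (δ • y') := by
    intro y y' hyy
    rw [← sub_eq_zero, ← map_sub, ← smul_sub]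
    apply Ideal.Quotient.eq_zero_iff_mem.mpr
    have h1 : y - y' ∈ q :=
      Ideal.Quotient.eq_zero_iff_mem.mp (by rw [map_sub, hyy, sub_self])
    exact (stab_mem_iff q δ hδ _).mpr h1
  have hF1 : (MulSemiringAction.charpoly (q.inertia G) x).map (Ideal.Quotient.mk q)
      = (X - C (Ideal.Quotient.mk q x)) ^ Fintype.card (q.inertia G) := by
    rw [MulSemiringAction.charpoly_eq, Polynomial.map_prod]
    have h1 : ∀ σ : q.inertia G, (X - C (σ • x)).map (Ideal.Quotient.mk q)
        = X - C (Ideal.Quotient.mk q x) := by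
      intro σ
      rw [Polynomial.map_sub, Polynomial.map_X, Polynomial.map_C]
      congr 2
      exact hπσ σ x
    simp_rw [h1]
    rw [Finset.prod_const, Finset.card_univ]
  have hF2 : (δ • MulSemiringAction.charpoly (q.inertia G) x).map (Ideal.Quotient.mk q)
      = (X - C (Ideal.Quotient.mk q (δ • x))) ^ Fintype.card (q.inertia G) := by
    rw [MulSemiringAction.charpoly_eq, Finset.smul_prod', Polynomial.map_prod]
    have h1 : ∀ σ : q.inertia G, (δ • (X - C (σ • x))).map (Ideal.Quotient.mk q)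
        = X - C (Ideal.Quotient.mk q (δ • x)) := by
      intro σ
      rw [smul_sub, smul_X, smul_C, Polynomial.map_sub, Polynomial.map_X, Polynomial.map_C]
      congr 2
      exact hπδ _ _ (hπσ σ x)
    simp_rw [h1]
    rw [Finset.prod_const, Finset.card_univ]
  have hF3 : (δ • MulSemiringAction.charpoly (q.inertia G) x).map (Ideal.Quotient.mk q)
      = (MulSemiringAction.charpoly (q.inertia G) x).map (Ideal.Quotient.mk q) := by
    ext k
    rw [coeff_map, coeff_map, coeff_smul, ← sub_eq_zero, ← map_sub]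
    apply Ideal.Quotient.eq_zero_iff_mem.mpr
    apply h
    intro σ hσ
    exact MulSemiringAction.smul_coeff_charpoly x k (⟨σ, hσ⟩ : q.inertia G)
  rw [hF1, hF2] at hF3
  have h4 := congrArg (Polynomial.eval (Ideal.Quotient.mk q (δ • x))) hF3
  simp only [eval_pow, eval_sub, eval_X, eval_C, sub_self] at h4
  have hcard : Fintype.card (q.inertia G) ≠ 0 := Fintype.card_ne_zero
  rw [zero_pow hcard] at h4
  have h5 := (pow_eq_zero_iff hcard).mp h4.symm
  rw [← map_sub] at h5
  exact Ideal.Quotient.eq_zero_iff_mem.mp h5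

theorem exists_primitive : ∃ c : R, (∀ σ ∈ q.inertia G, σ • c = c) ∧
    ∀ δ ∈ MulAction.stabilizer G q, δ • c - c ∈ q → δ ∈ q.inertia G := by
  classical
  haveI : Fintype G := Fintype.ofFinite G
  have hID : ∀ σ ∈ q.inertia G, σ ∈ MulAction.stabilizer G q :=
    fun σ hσ => Ideal.inertia_le_stabilizer q hσ
  have hF1 : ∀ δ ∈ MulAction.stabilizer G q, δ ∉ q.inertia G →
      ∃ u : R, (∀ σ ∈ q.inertia G, σ • u = u) ∧ δ • u - u ∉ q := by
    intro δ hδ hδI
    by_contra hcon
    push_neg at hcon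
    exact hδI (mem_inertia_of_fixes_invariants q δ hδ hcon)
  by_cases hfin : Finite (R ⧸ q)
  · -- finite residue ring: use a generator of the unit group of the image of `R^I`
    haveI := hfin
    obtain ⟨ζ, hζ⟩ := IsCyclic.exists_monoid_generator
      (α := (↥((FixedPoints.subring R (q.inertia G)).map (Ideal.Quotient.mk q)))ˣ)
    obtain ⟨c, hcC, hcζ⟩ := Subring.mem_map.mp (ζ : ↥((FixedPoints.subring R (q.inertia G)).map
      (Ideal.Quotient.mk q))).2
    refine ⟨c, fun σ hσ => hcC ⟨σ, hσ⟩, ?_⟩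
    intro δ hδ hfix
    apply mem_inertia_of_fixes_invariants q δ hδ
    intro c' hc'
    by_cases h0 : c' ∈ q
    · exact q.sub_mem ((stab_mem_iff q δ hδ c').mpr h0) h0
    · have hc'S : Ideal.Quotient.mk q c' ∈
          (FixedPoints.subring R (q.inertia G)).map (Ideal.Quotient.mk q) :=
        Subring.mem_map.mpr ⟨c', fun σ => hc' σ σ.2, rfl⟩
      have hne : (⟨Ideal.Quotient.mk q c', hc'S⟩ :
          ↥((FixedPoints.subring R (q.inertia G)).map (Ideal.Quotient.mk q))) ≠ 0 := by
        intro h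
        apply h0
        have h1 : Ideal.Quotient.mk q c' = 0 := congrArg Subtype.val h
        exact Ideal.Quotient.eq_zero_iff_mem.mp h1
      obtain ⟨b, hb⟩ := (Finite.isField_of_domain
        ↥((FixedPoints.subring R (q.inertia G)).map (Ideal.Quotient.mk q))).mul_inv_cancel hne
      obtain ⟨k, hk⟩ := (Submonoid.mem_powers_iff _ _).mp
        (hζ ⟨⟨Ideal.Quotient.mk q c', hc'S⟩, b, hb, by rw [mul_comm]; exact hb⟩)
      have hk' : Ideal.Quotient.mk q (c ^ k) = Ideal.Quotient.mk q c' := by
        have h1 := congrArg (fun u : (↥((FixedPoints.subring R (q.inertia G)).map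
          (Ideal.Quotient.mk q)))ˣ => ((u : ↥((FixedPoints.subring R (q.inertia G)).map
          (Ideal.Quotient.mk q))) : R ⧸ q)) hk
        simp only [Units.val_pow_eq_pow_val, SubmonoidClass.coe_pow] at h1
        rw [map_pow, hcζ]
        exact h1
      have hdiff : c' - c ^ k ∈ q := by
        apply Ideal.Quotient.eq_zero_iff_mem.mp
        rw [map_sub, hk', sub_self]
      have hpow : δ • c ^ k - c ^ k ∈ q := fx_pow q δ c hfix k
      have h3 : δ • (c' - c ^ k) ∈ q := (stab_mem_iff q δ hδ _).mpr hdiff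
      have h4 : δ • c' - c' = δ • (c' - c ^ k) + (δ • c ^ k - c ^ k) + (c ^ k - c') := by
        rw [smul_sub]; ring
      have hdiff' : c ^ k - c' ∈ q := by
        have := q.neg_mem hdiff
        rwa [neg_sub] at this
      rw [h4]
      exact q.add_mem (q.add_mem h3 hpow) hdiff'
  · -- infinite residue ring: avoidance argument with scalars from `R^D`
    have hEinf : ((Ideal.Quotient.mk q) '' {a : R | ∀ δ ∈ MulAction.stabilizer G q, δ • a = a}).Infinite := by
      intro hE
      apply hfin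
      have hfinU := Polynomial.bUnion_roots_finite (RingHom.id (R ⧸ q))
        (Fintype.card (MulAction.stabilizer G q)) hE
      apply Set.finite_univ_iff.mp
      apply hfinU.subset
      intro y _
      obtain ⟨x, rfl⟩ := Ideal.Quotient.mk_surjective y
      simp only [Set.mem_iUnion]
      refine ⟨(MulSemiringAction.charpoly (MulAction.stabilizer G q) x).map (Ideal.Quotient.mk q),
        ⟨?_, ?_⟩, ?_⟩
      · refine (Polynomial.natDegree_map_le).trans ?_
        rw [MulSemiringAction.charpoly_eq]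
        refine (Polynomial.natDegree_prod_le _ _).trans ?_
        refine (Finset.sum_le_card_nsmul _ _ 1 (fun _ _ => natDegree_X_sub_C_le _)).trans ?_
        simp
      · intro i
        rw [coeff_map]
        refine ⟨(MulSemiringAction.charpoly (MulAction.stabilizer G q) x).coeff i, ?_, rfl⟩
        intro δ hδ
        exact MulSemiringAction.smul_coeff_charpoly x i (⟨δ, hδ⟩ : MulAction.stabilizer G q)
      · have hmonic : ((MulSemiringAction.charpoly (MulAction.stabilizer G q) x).map
            (Ideal.Quotient.mk q)).Monic :=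
          (MulSemiringAction.monic_charpoly (MulAction.stabilizer G q) x).map _
        rw [Polynomial.map_id, Finset.mem_coe, Multiset.mem_toFinset,
          Polynomial.mem_roots hmonic.ne_zero, IsRoot, eval_map, eval₂_at_apply,
          MulSemiringAction.eval_charpoly, map_zero]
    have key : ∀ T : Finset G,
        (∀ δ ∈ T, δ ∈ MulAction.stabilizer G q ∧ δ ∉ q.inertia G) →
        ∃ c : R, (∀ σ ∈ q.inertia G, σ • c = c) ∧ ∀ δ ∈ T, δ • c - c ∉ q := by
      intro T
      induction T using Finset.induction_on with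
      | empty =>
        intro _
        exact ⟨1, fun σ _ => smul_one σ, by simp⟩
      | insert δ₀ T hδ₀ ih =>
        intro hT
        obtain ⟨c, hcC, hc⟩ := ih (fun δ hδ => hT δ (Finset.mem_insert_of_mem hδ))
        obtain ⟨hδ₀D, hδ₀I⟩ := hT δ₀ (Finset.mem_insert_self _ _)
        by_cases h0 : δ₀ • c - c ∈ q
        swap
        · refine ⟨c, hcC, fun δ hδ => ?_⟩
          rcases Finset.mem_insert.mp hδ with rfl | hδ
          · exact h0
          · exact hc δ hδ
        obtain ⟨u, huC, hu⟩ := hF1 δ₀ hδ₀D hδ₀I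
        obtain ⟨s, hsE, hscard⟩ := hEinf.exists_subset_card_eq (T.card + 1)
        have hpre : ∀ e ∈ s, ∃ a : R, (∀ δ ∈ MulAction.stabilizer G q, δ • a = a) ∧
            Ideal.Quotient.mk q a = e := fun e he => hsE he
        choose! af haf using hpre
        have hyC : ∀ e ∈ s, ∀ σ ∈ q.inertia G, σ • (af e * c + u) = af e * c + u := by
          intro e he σ hσ
          rw [smul_add, smul_mul', (haf e he).1 σ (hID σ hσ), hcC σ hσ, huC σ hσ]
        have hy0 : ∀ e ∈ s, δ₀ • (af e * c + u) - (af e * c + u) ∉ q := by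
          intro e he hmem
          apply hu
          have h1 : δ₀ • u - u = (δ₀ • (af e * c + u) - (af e * c + u)) - af e * (δ₀ • c - c) := by
            rw [smul_add, smul_mul', (haf e he).1 δ₀ hδ₀D]; ring
          rw [h1]
          exact q.sub_mem hmem (q.mul_mem_left _ h0)
        by_contra hcon
        push_neg at hcon
        have hbad : ∀ e ∈ s, ∃ δ ∈ T, δ • (af e * c + u) - (af e * c + u) ∈ q := by
          intro e he
          obtain ⟨δ, hδ, hmem⟩ := hcon (af e * c + u) (hyC e he)
          rcases Finset.mem_insert.mp hδ with rfl | hδT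
          · exact absurd hmem (hy0 e he)
          · exact ⟨δ, hδT, hmem⟩
        choose! df hdf using hbad
        obtain ⟨e₁, he₁, e₂, he₂, hne, heq⟩ := Finset.exists_ne_map_eq_of_card_lt_of_maps_to
          (t := T) (s := s) (f := df) (by rw [hscard]; exact Nat.lt_succ_self _)
          (fun e he => (hdf e he).1)
        have hδT := (hdf e₁ he₁).1
        obtain ⟨hδD, -⟩ := hT _ (Finset.mem_insert_of_mem hδT)
        have hm1 := (hdf e₁ he₁).2
        have hm2 := (hdf e₂ he₂).2
        rw [← heq] at hm2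
        have hdiff : (af e₁ - af e₂) * (df e₁ • c - c) ∈ q := by
          have h1 : (af e₁ - af e₂) * (df e₁ • c - c)
              = (df e₁ • (af e₁ * c + u) - (af e₁ * c + u))
                - (df e₁ • (af e₂ * c + u) - (af e₂ * c + u)) := by
            rw [smul_add, smul_add, smul_mul', smul_mul', (haf e₁ he₁).1 _ hδD,
              (haf e₂ he₂).1 _ hδD]
            ring
          rw [h1]
          exact q.sub_mem hm1 hm2
        rcases (inferInstance : q.IsPrime).mem_or_mem hdiff with h | h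
        · apply hne
          rw [← (haf e₁ he₁).2, ← (haf e₂ he₂).2, ← sub_eq_zero, ← map_sub]
          exact Ideal.Quotient.eq_zero_iff_mem.mpr h
        · exact hc _ hδT h
    obtain ⟨c, hcC, hc⟩ := key (Finset.univ.filter fun δ =>
        δ ∈ MulAction.stabilizer G q ∧ δ ∉ q.inertia G)
      (fun δ hδ => (Finset.mem_filter.mp hδ).2)
    refine ⟨c, hcC, ?_⟩
    intro δ hδ hfix
    by_contra hδI
    exact hc δ (Finset.mem_filter.mpr ⟨Finset.mem_univ _, hδ, hδI⟩) hfix

theorem exists_separating : ∃ z : FixedPoints.subring R (q.inertia G),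
    ∀ τ : G, τ ∉ q.inertia G → (z : R) - τ • (z : R) ∉ q := by
  obtain ⟨t, htD, htq, htτ⟩ := exists_t (G := G) q
  obtain ⟨c₀, hc₀I, hc₀⟩ := exists_primitive (G := G) q
  obtain ⟨c, hcI, hc, hcq⟩ : ∃ c : R, (∀ σ ∈ q.inertia G, σ • c = c) ∧
      (∀ δ ∈ MulAction.stabilizer G q, δ • c - c ∈ q → δ ∈ q.inertia G) ∧ c ∉ q := by
    by_cases hcq : c₀ ∈ q
    · refine ⟨1, fun σ _ => smul_one σ, ?_, ?_⟩
      · intro δ hδ _
        apply hc₀ δ hδ
        exact q.sub_mem ((stab_mem_iff q δ hδ c₀).mpr hcq) hcq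
      · exact fun h => (inferInstance : q.IsPrime).ne_top ((Ideal.eq_top_iff_one q).mpr h)
    · exact ⟨c₀, hc₀I, hc₀, hcq⟩
  have hID : ∀ σ ∈ q.inertia G, σ ∈ MulAction.stabilizer G q :=
    fun σ hσ => Ideal.inertia_le_stabilizer q hσ
  refine ⟨⟨t * c, ?_⟩, ?_⟩
  · intro σ
    show (σ : G) • (t * c) = t * c
    rw [smul_mul', htD _ (hID _ σ.2), hcI _ σ.2]
  · intro τ hτ
    show t * c - τ • (t * c) ∉ q
    by_cases hτD : τ ∈ MulAction.stabilizer G q
    · rw [smul_mul', htD τ hτD, ← mul_sub]
      intro hmem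
      rcases (inferInstance : q.IsPrime).mem_or_mem hmem with h | h
      · exact htq h
      · apply hτ
        apply hc τ hτD
        have h1 := q.neg_mem h
        rwa [neg_sub] at h1
    · intro hmem
      have h1 : τ • (t * c) ∈ q := by
        rw [smul_mul']
        exact q.mul_mem_right _ (htτ τ hτD)
      have h2 : t * c ∈ q := by
        have h3 := q.add_mem hmem h1
        rwa [sub_add_cancel] at h3
      rcases (inferInstance : q.IsPrime).mem_or_mem h2 with h | h
      · exact htq h
      · exact hcq h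

end Groth.Agent.H75.IE3
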