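import Mathlib
import Groth.Agent.H75.IE3

/-!
# Relative traces, separating elements for subgroups containing the decomposition group,
and a local criterion for `A/m^n ≅ S/m^n` (helpers for S6017)
-/

set_option autoImplicit false
open scoped Pointwise
universe u

namespace Groth.Agent.H75.IE4

/-- Relative trace `T = ∑_{c ∈ G/K} c • y` of a `K`-invariant element. -/
theorem exists_tr {G R : Type*} [Group G] [Finite G] [CommRing R] [MulSemiringAction G R]
    (K : Subgroup G) (y : R) (hy : ∀ k : G, k ∈ K → k • y = y) :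
    ∃ T : R, (∀ γ : G, γ • T = T) ∧
      (∀ q : Ideal R, (∀ τ : G, τ ∉ K → τ • y ∈ q) → T - y ∈ q) ∧
      (∀ J : Ideal R, (∀ g : G, g • y ∈ J) → T ∈ J) := by
  classical
  haveI : Fintype (G ⧸ K) := Fintype.ofFinite _
  have hout : ∀ (a : G), ((a : G ⧸ K).out) • y = a • y := by
    intro a
    obtain ⟨h, hh⟩ := QuotientGroup.mk_out_eq_mul K a
    rw [hh, mul_smul, hy _ h.2]
  have hequiv : ∀ (γ : G) (c : G ⧸ K), γ • (c.out • y) = (γ • c).out • y := by
    intro γ c
    have hc : γ • c = ((γ * c.out : G) : G ⧸ K) := by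
      conv_lhs => rw [← QuotientGroup.out_eq' c]
      rfl
    rw [hc, hout, mul_smul]
  refine ⟨∑ c : G ⧸ K, c.out • y, ?_, ?_, ?_⟩
  · intro γ
    rw [Finset.smul_sum]
    simp_rw [hequiv]
    exact Equiv.sum_comp (MulAction.toPerm γ : Equiv.Perm (G ⧸ K)) (fun c => c.out • y)
  · intro q hq
    rw [← Finset.add_sum_erase Finset.univ (fun c : G ⧸ K => c.out • y)
      (Finset.mem_univ ((1 : G) : G ⧸ K))]
    have h1 : (((1 : G) : G ⧸ K).out) • y = y := by rw [hout, one_smul]
    rw [h1, add_sub_cancel_left]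
    apply Ideal.sum_mem
    intro c hc
    apply hq
    intro hmem
    apply (Finset.mem_erase.mp hc).1
    rw [← QuotientGroup.out_eq' c]
    apply QuotientGroup.eq.mpr
    rw [mul_one]
    exact K.inv_mem hmem
  · intro J hJ
    exact Ideal.sum_mem _ (fun c _ => hJ _)

/-- If `H` contains the decomposition group of `q`, there is `z ∈ R^H`, `z ∉ q`, with
`τ z ∈ q` for all `τ ∉ H`. -/
theorem exists_sep_of_stab_le {G R : Type u} [Group G] [Finite G] [CommRing R]
    [MulSemiringAction G R] (q : Ideal R) [q.IsPrime] (H : Subgroup G)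
    (hD : MulAction.stabilizer G q ≤ H) :
    ∃ z : FixedPoints.subring R H, (z : R) ∉ q ∧ ∀ τ : G, τ ∉ H → τ • (z : R) ∈ q := by
  obtain ⟨t, htD, htq, htτ⟩ := IE3.exists_t (G := G) q
  obtain ⟨z, hzinv, hzq, hzJ⟩ := exists_tr (G := ↥H) (R := R)
    ((MulAction.stabilizer G q).subgroupOf H) t
    (by
      intro k hk
      exact htD (k : G) (Subgroup.mem_subgroupOf.mp hk))
  have hz_t : z - t ∈ q := hzq q (by
    intro τ hτ
    exact htτ (τ : G) (fun h => hτ (Subgroup.mem_subgroupOf.mpr h)))
  refine ⟨⟨z, fun γ => hzinv γ⟩, ?_, ?_⟩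
  · intro hz
    apply htq
    have : t = z - (z - t) := by ring
    rw [this]
    exact q.sub_mem hz hz_t
  · intro τ hτ
    have := hzJ (q.comap (MulSemiringAction.toRingHom G R τ)) (by
      intro g
      rw [Ideal.mem_comap, MulSemiringAction.toRingHom_apply]
      show τ • ((g : G) • t) ∈ q
      rw [smul_smul]
      apply htτ
      intro hmem
      apply hτ
      have h1 : τ * (g : G) ∈ H := hD hmem
      have h2 : τ = (τ * (g : G)) * (g : G)⁻¹ := by group
      rw [h2]
      exact H.mul_mem h1 (H.inv_mem g.2))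
    rw [Ideal.mem_comap, MulSemiringAction.toRingHom_apply] at this
    exact this

/-- Residue fields: every element of `R^H` is congruent mod `q` to a fraction of invariants. -/
theorem exists_residue {G R : Type u} [Group G] [Finite G] [CommRing R] [MulSemiringAction G R]
    (q : Ideal R) [q.IsPrime] (H : Subgroup G) (z : FixedPoints.subring R H)
    (hzq : (z : R) ∉ q) (hzτ : ∀ τ : G, τ ∉ H → τ • (z : R) ∈ q)
    (x : FixedPoints.subring R H) :
    ∃ b c : FixedPoints.subring R G, (c : R) ∉ q ∧ (c : R) * (x : R) - (b : R) ∈ q := by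
  have hzH : ∀ h : G, h ∈ H → h • (z : R) = z := fun h hh => z.2 ⟨h, hh⟩
  have hxH : ∀ h : G, h ∈ H → h • (x : R) = x := fun h hh => x.2 ⟨h, hh⟩
  obtain ⟨T1, hT1inv, hT1q, -⟩ := exists_tr H ((x : R) * (z : R)) (by
    intro k hk; rw [smul_mul', hxH k hk, hzH k hk])
  obtain ⟨T0, hT0inv, hT0q, -⟩ := exists_tr H (z : R) hzH
  have h1 : T1 - (x : R) * (z : R) ∈ q := hT1q q (by
    intro τ hτ; rw [smul_mul']; exact q.mul_mem_left _ (hzτ τ hτ))
  have h0 : T0 - (z : R) ∈ q := hT0q q hzτ
  refine ⟨⟨T1, fun γ => hT1inv γ⟩, ⟨T0, fun γ => hT0inv γ⟩, ?_, ?_⟩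
  · intro hT0
    apply hzq
    have : (z : R) = T0 - (T0 - z) := by ring
    rw [this]; exact q.sub_mem hT0 h0
  · show T0 * (x : R) - T1 ∈ q
    have : T0 * (x : R) - T1 = (T0 - z) * x - (T1 - x * z) := by ring
    rw [this]
    exact q.sub_mem (q.mul_mem_right _ h0) h1

/-- From residue-field surjectivity on numerators to all of a localization. -/
theorem res_of_gens {A S R' : Type*} [CommRing A] [CommRing S] [CommRing R'] [IsLocalRing A]
    [IsLocalRing S] [Algebra A S] [IsLocalHom (algebraMap A S)] [Algebra R' S] (M : Submonoid R')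
    [IsLocalization M S]
    (h : ∀ x : R', ∃ β : A, algebraMap R' S x - algebraMap A S β ∈ IsLocalRing.maximalIdeal S) :
    ∀ s : S, ∃ β : A, s - algebraMap A S β ∈ IsLocalRing.maximalIdeal S := by
  intro s
  obtain ⟨x, y, rfl⟩ := IsLocalization.exists_mk'_eq M s
  obtain ⟨βx, hx⟩ := h x
  obtain ⟨βy, hy⟩ := h (y : R')
  have huy : IsUnit (algebraMap R' S y) := IsLocalization.map_units S y
  have hφβy : IsUnit (algebraMap A S βy) := by
    rw [← IsLocalRing.notMem_maximalIdeal]
    intro hmem
    have : algebraMap R' S y ∈ IsLocalRing.maximalIdeal S := by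
      have e : algebraMap R' S y = (algebraMap R' S y - algebraMap A S βy) + algebraMap A S βy := by
        ring
      rw [e]; exact add_mem hy hmem
    exact (IsLocalRing.notMem_maximalIdeal.mpr huy) this
  have hβy : IsUnit βy := isUnit_of_map_unit (algebraMap A S) βy hφβy
  obtain ⟨v, hv⟩ := hβy.exists_right_inv
  have h1 : algebraMap A S βy * algebraMap A S v = 1 := by rw [← map_mul, hv, map_one]
  have hspec : IsLocalization.mk' S x y * algebraMap R' S y = algebraMap R' S x :=
    IsLocalization.mk'_spec S x y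
  refine ⟨βx * v, ?_⟩
  have e : IsLocalization.mk' S x y - algebraMap A S (βx * v) =
      algebraMap A S v * (IsLocalization.mk' S x y * (algebraMap A S βy - algebraMap R' S y)
        + (algebraMap R' S x - algebraMap A S βx)) := by
    rw [map_mul]
    linear_combination (-(IsLocalization.mk' S x y)) * h1 + algebraMap A S v * hspec
  rw [e]
  apply Ideal.mul_mem_left
  apply add_mem
  · apply Ideal.mul_mem_left
    have e2 : algebraMap A S βy - algebraMap R' S y = -(algebraMap R' S y - algebraMap A S βy) := by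
      ring
    rw [e2]; exact neg_mem hy
  · exact hx

/-- If `m_A S = m_S` and `A → S/m_S` is surjective then `A → S/m_S^n` is surjective. -/
theorem surj_mod_pow {A S : Type*} [CommRing A] [CommRing S] [IsLocalRing A] [IsLocalRing S]
    [Algebra A S]
    (hmax : (IsLocalRing.maximalIdeal A).map (algebraMap A S) = IsLocalRing.maximalIdeal S)
    (hres : ∀ s : S, ∃ a : A, s - algebraMap A S a ∈ IsLocalRing.maximalIdeal S) (n : ℕ) :
    ∀ s : S, ∃ a : A, s - algebraMap A S a ∈ IsLocalRing.maximalIdeal S ^ n := by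
  induction n with
  | zero =>
    intro s
    exact ⟨0, by rw [pow_zero, Ideal.one_eq_top]; exact Submodule.mem_top⟩
  | succ n ih =>
    intro s
    obtain ⟨a, ha⟩ := ih s
    have key : ∀ y ∈ (IsLocalRing.maximalIdeal A ^ n).map (algebraMap A S),
        ∃ β ∈ IsLocalRing.maximalIdeal A ^ n,
          y - algebraMap A S β ∈ IsLocalRing.maximalIdeal S ^ (n + 1) := by
      intro y hy
      refine Submodule.span_induction
        (p := fun y _ => ∃ β ∈ IsLocalRing.maximalIdeal A ^ n,
          y - algebraMap A S β ∈ IsLocalRing.maximalIdeal S ^ (n + 1)) ?_ ?_ ?_ ?_ hy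
      · rintro _ ⟨a', ha', rfl⟩
        exact ⟨a', ha', by rw [sub_self]; exact zero_mem _⟩
      · exact ⟨0, zero_mem _, by rw [map_zero, sub_self]; exact zero_mem _⟩
      · rintro x y _ _ ⟨β₁, h₁, h₁'⟩ ⟨β₂, h₂, h₂'⟩
        refine ⟨β₁ + β₂, add_mem h₁ h₂, ?_⟩
        have e : x + y - algebraMap A S (β₁ + β₂) =
            (x - algebraMap A S β₁) + (y - algebraMap A S β₂) := by rw [map_add]; ring
        rw [e]; exact add_mem h₁' h₂'
      · rintro c x _ ⟨β, hβ, hβ'⟩
        obtain ⟨γ, hγ⟩ := hres c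
        refine ⟨γ * β, Ideal.mul_mem_left _ _ hβ, ?_⟩
        have e : c • x - algebraMap A S (γ * β) =
            (c - algebraMap A S γ) * algebraMap A S β + c * (x - algebraMap A S β) := by
          rw [map_mul, smul_eq_mul]; ring
        rw [e]
        refine add_mem ?_ (Ideal.mul_mem_left _ _ hβ')
        have hφβ : algebraMap A S β ∈ IsLocalRing.maximalIdeal S ^ n := by
          rw [← hmax, ← Ideal.map_pow]; exact Ideal.mem_map_of_mem _ hβ
        rw [pow_succ']
        exact Ideal.mul_mem_mul hγ hφβ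
    have hy : s - algebraMap A S a ∈ (IsLocalRing.maximalIdeal A ^ n).map (algebraMap A S) := by
      rw [Ideal.map_pow, hmax]; exact ha
    obtain ⟨β, _, hβ⟩ := key _ hy
    refine ⟨a + β, ?_⟩
    have e : s - algebraMap A S (a + β) = (s - algebraMap A S a) - algebraMap A S β := by
      rw [map_add]; ring
    rw [e]; exact hβ

end Groth.Agent.H75.IE4
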