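import Groth.Agent.H34.KeyDefs
import Groth.Agent.S1848

/-!
# (RA) antisymmetry of the tame symbol (helper34, S1920 squad)
-/

set_option autoImplicit false
set_option linter.style.haveILetI false

universe u v

open CategoryTheory AlgebraicGeometry TopologicalSpace Opposite

namespace Groth.Agent.H75.KeyRA

open Groth.Agent.H34.Key

variable (R : Type u) [CommRing R] [IsNoetherianRing R] [IsLocalRing R] [IsDomain R]

/-- (RA) antisymmetry of the tame symbol. -/
theorem tame_antisymm (hR : ringKrullDim R = 1) (a b : R) (ha : a ≠ 0) (hb : b ≠ 0) :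
    CycAlg.tameSymbol R a b * CycAlg.tameSymbol R b a = 1 := by
  obtain ⟨-, L2, L3, -, -⟩ := Groth.Agent.S1848.result R hR
  have ha' : a ∈ nonZeroDivisors R := mem_nonZeroDivisors_of_ne_zero ha
  have hb' : b ∈ nonZeroDivisors R := mem_nonZeroDivisors_of_ne_zero hb
  have hab' : a * b ∈ nonZeroDivisors R := mul_mem ha' hb'
  haveI : Ring.KrullDimLE 1 R := Ring.krullDimLE_iff.mpr (by rw [hR]; exact le_rfl)
  have hlen : (Module.length R (R ⧸ Ideal.span {a * b})).toNat =
      (Module.length R (R ⧸ Ideal.span {a})).toNat +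
        (Module.length R (R ⧸ Ideal.span {b})).toNat := by
    have h := Ring.ord_mul R (a := a) (b := b) hb'
    have h1 := Ring.ord_ne_top ha'
    have h2 := Ring.ord_ne_top hb'
    unfold Ring.ord at h h1 h2
    rw [h, ENat.toNat_add h1 h2]
  have e1 := (L2 a b (a * b) ha' hb' hab').1
  have e2 := (L2 a b a ha' hb' ha').2
  have e3 := (L2 a b b ha' hb' hb').2
  rw [e2, e3, L3 (a * b) hab', L3 a ha', L3 b hb', hlen, pow_add] at e1
  have hne : ((-1 : IsLocalRing.ResidueField R) ^
      (Module.length R (R ⧸ Ideal.span {a})).toNat *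
      (-1) ^ (Module.length R (R ⧸ Ideal.span {b})).toNat) ≠ 0 :=
    mul_ne_zero (pow_ne_zero _ (by simp)) (pow_ne_zero _ (by simp))
  apply mul_left_cancel₀ hne
  linear_combination (-1 : IsLocalRing.ResidueField R) * e1

end Groth.Agent.H75.KeyRA
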