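import Groth.Agent.H34.KeyDefs
import Groth.Agent.S1848

/-!
# (RB) `tameFrac` is computed by any representation (helper34, S1920 squad)
-/

set_option autoImplicit false
set_option linter.style.haveILetI false

universe u v

open CategoryTheory AlgebraicGeometry TopologicalSpace Opposite

namespace Groth.Agent.H75.KeyRB

open Groth.Agent.H34.Key

variable (R : Type u) [CommRing R] [IsNoetherianRing R] [IsLocalRing R] [IsDomain R]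

theorem tameExt_congr_left (hR : ringKrullDim R = 1) (a₁ a₂ a₁' a₂' b₁ b₂ : R) (h1 : a₁ ≠ 0)
    (h2 : a₂ ≠ 0) (h1' : a₁' ≠ 0) (h2' : a₂' ≠ 0) (h3 : b₁ ≠ 0) (h4 : b₂ ≠ 0)
    (h : a₁ * a₂' = a₁' * a₂) : tameExt R a₁ a₂ b₁ b₂ = tameExt R a₁' a₂' b₁ b₂ := by
  obtain ⟨L1, L2, -, -, -⟩ := Groth.Agent.S1848.result R hR
  have n1 : a₁ ∈ nonZeroDivisors R := mem_nonZeroDivisors_of_ne_zero h1
  have n2 : a₂ ∈ nonZeroDivisors R := mem_nonZeroDivisors_of_ne_zero h2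
  have n1' : a₁' ∈ nonZeroDivisors R := mem_nonZeroDivisors_of_ne_zero h1'
  have n2' : a₂' ∈ nonZeroDivisors R := mem_nonZeroDivisors_of_ne_zero h2'
  have n3 : b₁ ∈ nonZeroDivisors R := mem_nonZeroDivisors_of_ne_zero h3
  have n4 : b₂ ∈ nonZeroDivisors R := mem_nonZeroDivisors_of_ne_zero h4
  have e1 : CycAlg.tameSymbol R a₁ b₁ * CycAlg.tameSymbol R a₂' b₁ =
      CycAlg.tameSymbol R a₁' b₁ * CycAlg.tameSymbol R a₂ b₁ := by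
    rw [← (L2 a₁ a₂' b₁ n1 n2' n3).1, ← (L2 a₁' a₂ b₁ n1' n2 n3).1, h]
  have e2 : CycAlg.tameSymbol R a₁ b₂ * CycAlg.tameSymbol R a₂' b₂ =
      CycAlg.tameSymbol R a₁' b₂ * CycAlg.tameSymbol R a₂ b₂ := by
    rw [← (L2 a₁ a₂' b₂ n1 n2' n4).1, ← (L2 a₁' a₂ b₂ n1' n2 n4).1, h]
  have hD : CycAlg.tameSymbol R a₁ b₂ * CycAlg.tameSymbol R a₂ b₁ ≠ 0 :=
    mul_ne_zero (L1 _ _ n1 n4) (L1 _ _ n2 n3)
  have hD' : CycAlg.tameSymbol R a₁' b₂ * CycAlg.tameSymbol R a₂' b₁ ≠ 0 :=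
    mul_ne_zero (L1 _ _ n1' n4) (L1 _ _ n2' n3)
  rw [tameExt, tameExt, ← div_eq_mul_inv, ← div_eq_mul_inv, div_eq_div_iff hD hD']
  linear_combination (CycAlg.tameSymbol R a₂ b₂ * CycAlg.tameSymbol R a₁' b₂) * e1 -
    (CycAlg.tameSymbol R a₁' b₁ * CycAlg.tameSymbol R a₂ b₁) * e2

theorem tameExt_congr_right (hR : ringKrullDim R = 1) (a₁ a₂ b₁ b₂ b₁' b₂' : R) (h1 : a₁ ≠ 0)
    (h2 : a₂ ≠ 0) (h3 : b₁ ≠ 0) (h4 : b₂ ≠ 0) (h3' : b₁' ≠ 0) (h4' : b₂' ≠ 0)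
    (h : b₁ * b₂' = b₁' * b₂) : tameExt R a₁ a₂ b₁ b₂ = tameExt R a₁ a₂ b₁' b₂' := by
  obtain ⟨L1, L2, -, -, -⟩ := Groth.Agent.S1848.result R hR
  have n1 : a₁ ∈ nonZeroDivisors R := mem_nonZeroDivisors_of_ne_zero h1
  have n2 : a₂ ∈ nonZeroDivisors R := mem_nonZeroDivisors_of_ne_zero h2
  have n3 : b₁ ∈ nonZeroDivisors R := mem_nonZeroDivisors_of_ne_zero h3
  have n4 : b₂ ∈ nonZeroDivisors R := mem_nonZeroDivisors_of_ne_zero h4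
  have n3' : b₁' ∈ nonZeroDivisors R := mem_nonZeroDivisors_of_ne_zero h3'
  have n4' : b₂' ∈ nonZeroDivisors R := mem_nonZeroDivisors_of_ne_zero h4'
  have e1 : CycAlg.tameSymbol R a₁ b₁ * CycAlg.tameSymbol R a₁ b₂' =
      CycAlg.tameSymbol R a₁ b₁' * CycAlg.tameSymbol R a₁ b₂ := by
    rw [← (L2 b₁ b₂' a₁ n3 n4' n1).2, ← (L2 b₁' b₂ a₁ n3' n4 n1).2, h]
  have e2 : CycAlg.tameSymbol R a₂ b₁ * CycAlg.tameSymbol R a₂ b₂' =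
      CycAlg.tameSymbol R a₂ b₁' * CycAlg.tameSymbol R a₂ b₂ := by
    rw [← (L2 b₁ b₂' a₂ n3 n4' n2).2, ← (L2 b₁' b₂ a₂ n3' n4 n2).2, h]
  have hD : CycAlg.tameSymbol R a₁ b₂ * CycAlg.tameSymbol R a₂ b₁ ≠ 0 :=
    mul_ne_zero (L1 _ _ n1 n4) (L1 _ _ n2 n3)
  have hD' : CycAlg.tameSymbol R a₁ b₂' * CycAlg.tameSymbol R a₂ b₁' ≠ 0 :=
    mul_ne_zero (L1 _ _ n1 n4') (L1 _ _ n2 n3')
  rw [tameExt, tameExt, ← div_eq_mul_inv, ← div_eq_mul_inv, div_eq_div_iff hD hD']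
  -- d(a₁,b₁) d(a₂,b₂) d(a₁,b₂') d(a₂,b₁') = d(a₁,b₁') d(a₂,b₂') d(a₁,b₂) d(a₂,b₁)
  linear_combination (CycAlg.tameSymbol R a₂ b₂ * CycAlg.tameSymbol R a₂ b₁') * e1 -
    (CycAlg.tameSymbol R a₁ b₁' * CycAlg.tameSymbol R a₁ b₂) * e2

variable (K : Type v) [Field K] [Algebra R K] [IsFractionRing R K]

/-- (RB) `tameFrac` is computed by any representation by nonzero numerators/denominators. -/
theorem tameFrac_eq (hR : ringKrullDim R = 1) (ψ χ : K) (a₁ a₂ b₁ b₂ : R) (h1 : a₁ ≠ 0)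
    (h2 : a₂ ≠ 0) (h3 : b₁ ≠ 0) (h4 : b₂ ≠ 0)
    (hψ : ψ * algebraMap R K a₂ = algebraMap R K a₁)
    (hχ : χ * algebraMap R K b₂ = algebraMap R K b₁) :
    tameFrac R K ψ χ = tameExt R a₁ a₂ b₁ b₂ := by
  classical
  have hex : ∃ p : R × R × R × R, p.1 ≠ 0 ∧ p.2.1 ≠ 0 ∧ p.2.2.1 ≠ 0 ∧ p.2.2.2 ≠ 0 ∧
      ψ * algebraMap R K p.2.1 = algebraMap R K p.1 ∧
      χ * algebraMap R K p.2.2.2 = algebraMap R K p.2.2.1 :=
    ⟨(a₁, a₂, b₁, b₂), h1, h2, h3, h4, hψ, hχ⟩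
  rw [tameFrac, dif_pos hex]
  obtain ⟨g1, g2, g3, g4, gψ, gχ⟩ := hex.choose_spec
  have hinj : Function.Injective (algebraMap R K) := IsFractionRing.injective R K
  have ha : hex.choose.1 * a₂ = a₁ * hex.choose.2.1 := by
    apply hinj
    rw [map_mul, map_mul, ← gψ, ← hψ]
    ring
  have hb : hex.choose.2.2.1 * b₂ = b₁ * hex.choose.2.2.2 := by
    apply hinj
    rw [map_mul, map_mul, ← gχ, ← hχ]
    ring
  rw [tameExt_congr_left R hR hex.choose.1 hex.choose.2.1 a₁ a₂ hex.choose.2.2.1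
    hex.choose.2.2.2 g1 g2 h1 h2 g3 g4 ha,
    tameExt_congr_right R hR a₁ a₂ hex.choose.2.2.1 hex.choose.2.2.2 b₁ b₂ h1 h2 g3 g4 h3 h4 hb]

end Groth.Agent.H75.KeyRB
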