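import Groth.Agent.H75.KeyRB

/-!
# (RC1)-(RC3) nonvanishing and bimultiplicativity of `tameFrac` (helper34, S1920 squad)
-/

set_option autoImplicit false
set_option linter.style.haveILetI false

universe u v

open CategoryTheory AlgebraicGeometry TopologicalSpace Opposite

namespace Groth.Agent.H75.KeyRC

open Groth.Agent.H34.Key Groth.Agent.H75.KeyRB

variable (R : Type u) [CommRing R] [IsNoetherianRing R] [IsLocalRing R] [IsDomain R]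
  (K : Type v) [Field K] [Algebra R K] [IsFractionRing R K]

/-- a nonzero element of the fraction field is a quotient of nonzero elements -/
theorem exists_rep (ψ : K) (hψ : ψ ≠ 0) :
    ∃ a₁ a₂ : R, a₁ ≠ 0 ∧ a₂ ≠ 0 ∧ ψ * algebraMap R K a₂ = algebraMap R K a₁ := by
  obtain ⟨a₁, a₂, ha₂, rfl⟩ := IsFractionRing.div_surjective (A := R) ψ
  have ha₂0 : a₂ ≠ 0 := nonZeroDivisors.ne_zero ha₂
  have hm : algebraMap R K a₂ ≠ 0 := by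
    rw [Ne, map_eq_zero_iff _ (IsFractionRing.injective R K)]; exact ha₂0
  refine ⟨a₁, a₂, ?_, ha₂0, div_mul_cancel₀ _ hm⟩
  rintro rfl
  simp at hψ

/-- (RC1) -/
theorem tameFrac_ne_zero (hR : ringKrullDim R = 1) (ψ χ : K) (hψ : ψ ≠ 0) (hχ : χ ≠ 0) :
    tameFrac R K ψ χ ≠ 0 := by
  obtain ⟨L1, -, -, -, -⟩ := Groth.Agent.S1848.result R hR
  obtain ⟨a₁, a₂, h1, h2, ha⟩ := exists_rep R K ψ hψ
  obtain ⟨b₁, b₂, h3, h4, hb⟩ := exists_rep R K χ hχ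
  rw [tameFrac_eq R K hR ψ χ a₁ a₂ b₁ b₂ h1 h2 h3 h4 ha hb, tameExt]
  have n1 : a₁ ∈ nonZeroDivisors R := mem_nonZeroDivisors_of_ne_zero h1
  have n2 : a₂ ∈ nonZeroDivisors R := mem_nonZeroDivisors_of_ne_zero h2
  have n3 : b₁ ∈ nonZeroDivisors R := mem_nonZeroDivisors_of_ne_zero h3
  have n4 : b₂ ∈ nonZeroDivisors R := mem_nonZeroDivisors_of_ne_zero h4
  exact mul_ne_zero (mul_ne_zero (L1 _ _ n1 n3) (L1 _ _ n2 n4))
    (inv_ne_zero (mul_ne_zero (L1 _ _ n1 n4) (L1 _ _ n2 n3)))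

/-- (RC2) -/
theorem tameFrac_mul_left (hR : ringKrullDim R = 1) (ψ ψ' χ : K) (hψ : ψ ≠ 0) (hψ' : ψ' ≠ 0)
    (hχ : χ ≠ 0) : tameFrac R K (ψ * ψ') χ = tameFrac R K ψ χ * tameFrac R K ψ' χ := by
  obtain ⟨-, L2, -, -, -⟩ := Groth.Agent.S1848.result R hR
  obtain ⟨a₁, a₂, h1, h2, ha⟩ := exists_rep R K ψ hψ
  obtain ⟨a₁', a₂', h1', h2', ha'⟩ := exists_rep R K ψ' hψ'
  obtain ⟨b₁, b₂, h3, h4, hb⟩ := exists_rep R K χ hχ
  have n1 : a₁ ∈ nonZeroDivisors R := mem_nonZeroDivisors_of_ne_zero h1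
  have n2 : a₂ ∈ nonZeroDivisors R := mem_nonZeroDivisors_of_ne_zero h2
  have n1' : a₁' ∈ nonZeroDivisors R := mem_nonZeroDivisors_of_ne_zero h1'
  have n2' : a₂' ∈ nonZeroDivisors R := mem_nonZeroDivisors_of_ne_zero h2'
  have n3 : b₁ ∈ nonZeroDivisors R := mem_nonZeroDivisors_of_ne_zero h3
  have n4 : b₂ ∈ nonZeroDivisors R := mem_nonZeroDivisors_of_ne_zero h4
  have hprod : (ψ * ψ') * algebraMap R K (a₂ * a₂') = algebraMap R K (a₁ * a₁') := by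
    rw [map_mul, map_mul, ← ha, ← ha']; ring
  rw [tameFrac_eq R K hR (ψ * ψ') χ (a₁ * a₁') (a₂ * a₂') b₁ b₂ (mul_ne_zero h1 h1')
      (mul_ne_zero h2 h2') h3 h4 hprod hb,
    tameFrac_eq R K hR ψ χ a₁ a₂ b₁ b₂ h1 h2 h3 h4 ha hb,
    tameFrac_eq R K hR ψ' χ a₁' a₂' b₁ b₂ h1' h2' h3 h4 ha' hb]
  rw [tameExt, tameExt, tameExt, (L2 a₁ a₁' b₁ n1 n1' n3).1, (L2 a₂ a₂' b₂ n2 n2' n4).1,
    (L2 a₁ a₁' b₂ n1 n1' n4).1, (L2 a₂ a₂' b₁ n2 n2' n3).1]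
  ring

/-- (RC3) -/
theorem tameFrac_mul_right (hR : ringKrullDim R = 1) (ψ χ χ' : K) (hψ : ψ ≠ 0) (hχ : χ ≠ 0)
    (hχ' : χ' ≠ 0) : tameFrac R K ψ (χ * χ') = tameFrac R K ψ χ * tameFrac R K ψ χ' := by
  obtain ⟨-, L2, -, -, -⟩ := Groth.Agent.S1848.result R hR
  obtain ⟨a₁, a₂, h1, h2, ha⟩ := exists_rep R K ψ hψ
  obtain ⟨b₁, b₂, h3, h4, hb⟩ := exists_rep R K χ hχ
  obtain ⟨b₁', b₂', h3', h4', hb'⟩ := exists_rep R K χ' hχ'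
  have n1 : a₁ ∈ nonZeroDivisors R := mem_nonZeroDivisors_of_ne_zero h1
  have n2 : a₂ ∈ nonZeroDivisors R := mem_nonZeroDivisors_of_ne_zero h2
  have n3 : b₁ ∈ nonZeroDivisors R := mem_nonZeroDivisors_of_ne_zero h3
  have n4 : b₂ ∈ nonZeroDivisors R := mem_nonZeroDivisors_of_ne_zero h4
  have n3' : b₁' ∈ nonZeroDivisors R := mem_nonZeroDivisors_of_ne_zero h3'
  have n4' : b₂' ∈ nonZeroDivisors R := mem_nonZeroDivisors_of_ne_zero h4'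
  have hprod : (χ * χ') * algebraMap R K (b₂ * b₂') = algebraMap R K (b₁ * b₁') := by
    rw [map_mul, map_mul, ← hb, ← hb']; ring
  rw [tameFrac_eq R K hR ψ (χ * χ') a₁ a₂ (b₁ * b₁') (b₂ * b₂') h1 h2 (mul_ne_zero h3 h3')
      (mul_ne_zero h4 h4') ha hprod,
    tameFrac_eq R K hR ψ χ a₁ a₂ b₁ b₂ h1 h2 h3 h4 ha hb,
    tameFrac_eq R K hR ψ χ' a₁ a₂ b₁' b₂' h1 h2 h3' h4' ha hb']
  rw [tameExt, tameExt, tameExt, (L2 b₁ b₁' a₁ n3 n3' n1).2, (L2 b₂ b₂' a₂ n4 n4' n2).2,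
    (L2 b₂ b₂' a₁ n4 n4' n1).2, (L2 b₁ b₁' a₂ n3 n3' n2).2]
  ring

end Groth.Agent.H75.KeyRC
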