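import Mathlib

set_option autoImplicit false
open CategoryTheory CategoryTheory.Limits AlgebraicGeometry
universe u

namespace Groth.Agent.H75.KumFS_CHARTA

/-- (CHARTA) -/
theorem exists_openImmersion_affineSpace {S : Scheme.{u}} (σ : Type u) (U : S.Opens)
    (hU : IsAffineOpen U) :
    ∃ θ : Spec (CommRingCat.of (MvPolynomial σ Γ(S, U))) ⟶ AffineSpace σ S, IsOpenImmersion θ ∧
      θ ≫ (AffineSpace σ S ↘ S) = Spec.map (CommRingCat.ofHom MvPolynomial.C) ≫ hU.fromSpec ∧
      ∀ j, (Scheme.ΓSpecIso _).hom.hom (θ.appTop.hom (AffineSpace.coord S j)) =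
        MvPolynomial.X j := by
  haveI : IsOpenImmersion (AffineSpace.map σ hU.fromSpec) :=
    MorphismProperty.of_isPullback (P := @IsOpenImmersion)
      (AffineSpace.isPullback_map hU.fromSpec).flip inferInstance
  refine ⟨(AffineSpace.SpecIso σ Γ(S, U)).inv ≫ AffineSpace.map σ hU.fromSpec, inferInstance,
    ?_, ?_⟩
  · rw [Category.assoc, AffineSpace.map_over, AffineSpace.SpecIso_inv_over_assoc]
  · intro j
    have h1 : ((AffineSpace.SpecIso σ Γ(S, U)).inv ≫
        AffineSpace.map σ hU.fromSpec).appTop.hom (AffineSpace.coord S j) =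
        (AffineSpace.SpecIso σ Γ(S, U)).inv.appTop.hom
          ((AffineSpace.map σ hU.fromSpec).appTop.hom (AffineSpace.coord S j)) := rfl
    have h2 : (AffineSpace.map σ hU.fromSpec).appTop.hom (AffineSpace.coord S j) =
        AffineSpace.coord (Spec Γ(S, U)) j := AffineSpace.map_appTop_coord _ _
    have h3 : (AffineSpace.SpecIso σ Γ(S, U)).inv.appTop.hom (AffineSpace.coord _ j) =
        (Scheme.ΓSpecIso (.of _)).inv.hom (MvPolynomial.X j) :=
      AffineSpace.SpecIso_inv_appTop_coord _ _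
    rw [h1, h2, h3]
    exact congr($((Scheme.ΓSpecIso _).inv_hom_id) (MvPolynomial.X j))

end Groth.Agent.H75.KumFS_CHARTA
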