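import Mathlib
import Groth.Prelude.Def_SGA1t

set_option autoImplicit false
universe u
open TensorProduct

namespace Groth.Agent.H75.KummerCore

section L1
variable {A : Type u} [CommRing A] [IsLocalRing A]

theorem eq_one_of_pow_eq_one (n : ℕ) (hn : IsUnit ((n : ℕ) : A)) (g : A) (hg : g ^ n = 1)
    (h1 : g - 1 ∈ IsLocalRing.maximalIdeal A) : g = 1 := by
  have hgeom : (g - 1) * ∑ i ∈ Finset.range n, g ^ i = 0 := by rw [mul_geom_sum, hg, sub_self]
  have hmem : (∑ i ∈ Finset.range n, g ^ i) - (n : A) ∈ IsLocalRing.maximalIdeal A := by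
    have e : (∑ i ∈ Finset.range n, g ^ i) - (n : A) = ∑ i ∈ Finset.range n, (g ^ i - 1) := by
      rw [Finset.sum_sub_distrib]; simp
    rw [e]
    refine Ideal.sum_mem _ fun i _ => ?_
    rw [← mul_geom_sum]
    exact Ideal.mul_mem_right _ _ h1
  have hs : IsUnit (∑ i ∈ Finset.range n, g ^ i) := by
    by_contra hns
    have hsm : (∑ i ∈ Finset.range n, g ^ i) ∈ IsLocalRing.maximalIdeal A :=
      (IsLocalRing.mem_maximalIdeal _).mpr hns
    have h2 : ((n : ℕ) : A) ∈ IsLocalRing.maximalIdeal A := by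
      have := Ideal.sub_mem _ hsm hmem
      simpa using this
    exact (IsLocalRing.mem_maximalIdeal _).mp h2 hn
  exact sub_eq_zero.mp (hs.mul_left_eq_zero.mp hgeom)

/-- coercion `μ_n(A) → A` as a monoid hom -/
noncomputable def uHom (n : ℕ) : ↥(rootsOfUnity n A) →* A :=
  (Units.coeHom A).comp (rootsOfUnity n A).subtype

theorem uHom_apply (n : ℕ) (g : ↥(rootsOfUnity n A)) : uHom n g = ((g : Aˣ) : A) := rfl

theorem uHom_pow (n : ℕ) (g : ↥(rootsOfUnity n A)) : (uHom n g) ^ n = 1 := by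
  have h2 := (mem_rootsOfUnity n (g : Aˣ)).mp g.2
  have h3 := congrArg Units.val h2
  simpa [uHom_apply] using h3

end L1

section Points
/-- geometric points of a finite etale algebra -/
theorem exists_points {A : Type u} [CommRing A] (Ω : Type u) [Field Ω] [IsAlgClosed Ω] [Algebra A Ω]
    (B : Type u) [CommRing B] [Algebra A B] [Module.Finite A B] [Algebra.Etale A B] :
    ∃ (S : Type u) (_ : Fintype S) (χs : S → (B →ₐ[A] Ω)),
      Function.Injective χs ∧ Fintype.card S = Module.finrank Ω (Ω ⊗[A] B) := by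
  classical
  haveI : Algebra.Etale Ω (Ω ⊗[A] B) := inferInstance
  haveI : Module.Finite Ω (Ω ⊗[A] B) := inferInstance
  haveI : IsArtinianRing (Ω ⊗[A] B) := IsArtinianRing.of_finite Ω (Ω ⊗[A] B)
  haveI : Finite (PrimeSpectrum (Ω ⊗[A] B)) := inferInstance
  letI : Fintype (PrimeSpectrum (Ω ⊗[A] B)) := Fintype.ofFinite _
  let E : (Ω ⊗[A] B) ≃ₐ[Ω] (PrimeSpectrum (Ω ⊗[A] B) → Ω) :=
    Algebra.FormallyEtale.equivPiOfIsSepClosed Ω (Ω ⊗[A] B)
  let χs : PrimeSpectrum (Ω ⊗[A] B) → (B →ₐ[A] Ω) := fun s =>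
    ((Pi.evalAlgHom Ω (fun _ : PrimeSpectrum (Ω ⊗[A] B) => Ω) s).restrictScalars A).comp
      ((E.toAlgHom.restrictScalars A).comp Algebra.TensorProduct.includeRight)
  refine ⟨PrimeSpectrum (Ω ⊗[A] B), inferInstance, χs, ?_, ?_⟩
  · intro s s' h
    by_contra hne
    have hF : (Pi.evalAlgHom Ω (fun _ : PrimeSpectrum (Ω ⊗[A] B) => Ω) s).comp E.toAlgHom =
        (Pi.evalAlgHom Ω (fun _ : PrimeSpectrum (Ω ⊗[A] B) => Ω) s').comp E.toAlgHom := by
      apply Algebra.TensorProduct.ext'
      intro c b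
      have e1 : (c ⊗ₜ[A] b : Ω ⊗[A] B) = c • ((1 : Ω) ⊗ₜ[A] b) := by
        rw [TensorProduct.smul_tmul', smul_eq_mul, mul_one]
      rw [e1, map_smul, map_smul]
      congr 1
      exact congrArg (fun f : B →ₐ[A] Ω => f b) h
    have h1 : E (E.symm (Pi.single s 1)) s = E (E.symm (Pi.single s 1)) s' :=
      congrArg (fun f : (Ω ⊗[A] B) →ₐ[Ω] Ω => f (E.symm (Pi.single s 1))) hF
    rw [AlgEquiv.apply_symm_apply, Pi.single_eq_same, Pi.single_eq_of_ne (Ne.symm hne)] at h1
    exact one_ne_zero h1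
  · have h2 : Module.finrank Ω (Ω ⊗[A] B) = Module.finrank Ω (PrimeSpectrum (Ω ⊗[A] B) → Ω) :=
      LinearEquiv.finrank_eq E.toLinearEquiv
    rw [h2, Module.finrank_fintype_fun_eq_card]

end Points


section Core
variable {A : Type u} [CommRing A] [IsLocalRing A]

theorem kummer_core_aux (Ω : Type u) [Field Ω] [IsAlgClosed Ω] [Algebra A Ω]
    [Algebra (IsLocalRing.ResidueField A) Ω] [IsScalarTower A (IsLocalRing.ResidueField A) Ω]
    (n : ℕ) (hn1 : 1 ≤ n) (hn : IsUnit ((n : ℕ) : A)) (ζ₀ : A) (hζ₀ : IsPrimitiveRoot ζ₀ n)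
    (B : Type u) [CommRing B] [Algebra A B] [Module.Finite A B] [Algebra.Etale A B]
    (σ : ↥(rootsOfUnity n A) → (B →ₐ[A] B))
    (hσmul : ∀ g h, σ (g * h) = (σ h).comp (σ g))
    (hsurj : Function.Surjective (PrimeSpectrum.comap (algebraMap A B)))
    (htors : ∀ (χ χ' : B →+* Ω),
      χ.comp (algebraMap A B) = χ'.comp (algebraMap A B) →
      ∃! g : ↥(rootsOfUnity n A), χ.comp (σ g).toRingHom = χ') :
    ∃ (a : Aˣ) (t : B), t ^ n = algebraMap A B a ∧ (∀ g, σ g t = uHom n g • t) ∧
      Function.Bijective (Finsupp.linearCombination A (fun i : Fin n => t ^ (i : ℕ))) := by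
  classical
  haveI : NeZero n := ⟨by omega⟩
  have hkinj : Function.Injective (algebraMap (IsLocalRing.ResidueField A) Ω) :=
    (algebraMap (IsLocalRing.ResidueField A) Ω).injective
  have hker : ∀ x : A, algebraMap A Ω x = 0 ↔ x ∈ IsLocalRing.maximalIdeal A := by
    intro x
    rw [IsScalarTower.algebraMap_apply A (IsLocalRing.ResidueField A) Ω,
      map_eq_zero_iff _ hkinj, IsLocalRing.ResidueField.algebraMap_eq]
    exact IsLocalRing.residue_eq_zero_iff x
  have hunit : ∀ x : A, algebraMap A Ω x ≠ 0 → IsUnit x := by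
    intro x hx
    by_contra hnu
    exact hx ((hker x).mpr ((IsLocalRing.mem_maximalIdeal x).mpr hnu))
  -- the group injects into μ_n(Ω)
  have hGinj : Function.Injective (restrictRootsOfUnity (algebraMap A Ω) n) := by
    rw [injective_iff_map_eq_one]
    intro g hg
    have h1 : algebraMap A Ω (uHom n g) = 1 := by
      have := congrArg (fun z : ↥(rootsOfUnity n Ω) => ((z : Ωˣ) : Ω)) hg
      simpa [uHom_apply] using this
    have h2 : uHom n g - 1 ∈ IsLocalRing.maximalIdeal A := by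
      rw [← hker, map_sub, h1, map_one, sub_self]
    have h3 : uHom n g = 1 := eq_one_of_pow_eq_one n hn _ (uHom_pow n g) h2
    apply Subtype.ext
    apply Units.ext
    simpa [uHom_apply] using h3
  haveI : Finite ↥(rootsOfUnity n A) := Finite.of_injective _ hGinj
  have hGcard : Nat.card ↥(rootsOfUnity n A) ≤ n :=
    (Nat.card_le_card_of_injective _ hGinj).trans (card_rootsOfUnity Ω n)
  letI : Fintype ↥(rootsOfUnity n A) := Fintype.ofFinite _
  -- freeness and ranks
  haveI : Module.Flat A B := inferInstance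
  haveI : Module.Free A B := Module.free_of_flat_of_isLocalRing
  haveI : Nontrivial B := by
    obtain ⟨x, -⟩ := hsurj (IsLocalRing.closedPoint A)
    by_contra hnt
    rw [not_nontrivial_iff_subsingleton] at hnt
    refine x.isPrime.ne_top ((Ideal.eq_top_iff_one _).mpr ?_)
    rw [← Subsingleton.elim (0 : B) 1]
    exact zero_mem _
  have hd : 0 < Module.finrank A B := (Module.finrank_pos_iff_of_free A B).mpr inferInstance
  obtain ⟨S, hSfin, χs, hχs_inj, hcardS'⟩ := exists_points (A := A) Ω B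
  have hcardS : Fintype.card S = Module.finrank A B := by
    rw [hcardS']; exact Module.finrank_baseChange
  have hSne : Nonempty S := by
    rw [← Fintype.card_pos_iff, hcardS]; exact hd
  obtain ⟨s₀⟩ := hSne
  let χ₀ : B →ₐ[A] Ω := χs s₀
  have hex : ∀ s : S, ∃ g : ↥(rootsOfUnity n A),
      (χ₀ : B →+* Ω).comp (σ g).toRingHom = (χs s : B →+* Ω) := by
    intro s
    have hcomp : (χ₀ : B →+* Ω).comp (algebraMap A B) =
        (χs s : B →+* Ω).comp (algebraMap A B) := by
      rw [AlgHom.comp_algebraMap, AlgHom.comp_algebraMap]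
    exact (htors _ _ hcomp).exists
  choose γ hγ using hex
  have hγ_inj : Function.Injective γ := by
    intro s s' h
    apply hχs_inj
    have e1 := hγ s
    have e2 := hγ s'
    rw [h] at e1
    exact AlgHom.coe_ringHom_injective (e1.symm.trans e2)
  have hd_le : Module.finrank A B ≤ n := by
    rw [← hcardS]
    calc Fintype.card S ≤ Fintype.card ↥(rootsOfUnity n A) :=
          Fintype.card_le_of_injective γ hγ_inj
      _ = Nat.card ↥(rootsOfUnity n A) := (Nat.card_eq_fintype_card).symm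
      _ ≤ n := hGcard
  -- the characters χ₀ ∘ σ_g
  let χg : ↥(rootsOfUnity n A) → (B →ₐ[A] Ω) := fun g => χ₀.comp (σ g)
  have hχg_inj : Function.Injective χg := by
    intro g h hgh
    have hcomp : (χ₀ : B →+* Ω).comp (algebraMap A B) =
        (χg h : B →+* Ω).comp (algebraMap A B) := by
      rw [AlgHom.comp_algebraMap, AlgHom.comp_algebraMap]
    obtain ⟨g0, -, huniq⟩ := htors _ _ hcomp
    have e1 : g = g0 := huniq g (by rw [← hgh]; rfl)
    have e2 : h = g0 := huniq h rfl
    rw [e1, e2]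
  have hli : LinearIndependent Ω (fun g : ↥(rootsOfUnity n A) => ((χg g : B →* Ω) : B → Ω)) :=
    (linearIndependent_monoidHom B Ω).comp (fun g : ↥(rootsOfUnity n A) => (χg g : B →* Ω))
      (fun g h hgh => hχg_inj (AlgHom.ext fun x => DFunLike.congr_fun hgh x))
  have hb : ∃ b : B, ∑ g : ↥(rootsOfUnity n A), algebraMap A Ω (uHom n g⁻¹) * χg g b ≠ 0 := by
    by_contra hno
    push Not at hno
    have hzero : ∑ g : ↥(rootsOfUnity n A), (algebraMap A Ω (uHom n g⁻¹)) •
        ((χg g : B →* Ω) : B → Ω) = 0 := by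
      funext x
      rw [Finset.sum_apply]
      exact hno x
    have h1 := Fintype.linearIndependent_iff.mp hli _ hzero 1
    simp at h1
  obtain ⟨b, hb⟩ := hb
  let t : B := ∑ g : ↥(rootsOfUnity n A), uHom n g⁻¹ • σ g b
  have ht : ∀ h : ↥(rootsOfUnity n A), σ h t = uHom n h • t := by
    intro h
    show σ h (∑ g : ↥(rootsOfUnity n A), uHom n g⁻¹ • σ g b) =
      uHom n h • ∑ g : ↥(rootsOfUnity n A), uHom n g⁻¹ • σ g b
    rw [map_sum, Finset.smul_sum]
    refine Fintype.sum_equiv (Equiv.mulRight h) _ _ (fun g => ?_)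
    show σ h (uHom n g⁻¹ • σ g b) = uHom n h • (uHom n (g * h)⁻¹ • σ (g * h) b)
    rw [map_smul, hσmul g h, AlgHom.comp_apply, smul_smul, ← map_mul]
    congr 2
    rw [mul_inv_rev, mul_inv_cancel_left]
  have hτeq : χ₀ t = ∑ g : ↥(rootsOfUnity n A), algebraMap A Ω (uHom n g⁻¹) * χg g b := by
    show χ₀ (∑ g : ↥(rootsOfUnity n A), uHom n g⁻¹ • σ g b) = _
    rw [map_sum]
    refine Finset.sum_congr rfl (fun g _ => ?_)
    rw [map_smul, Algebra.smul_def]
    rfl
  have hτ : χ₀ t ≠ 0 := by rw [hτeq]; exact hb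
  have hχt : ∀ g : ↥(rootsOfUnity n A), χg g t = algebraMap A Ω (uHom n g) * χ₀ t := by
    intro g
    show χ₀ (σ g t) = _
    rw [ht g, map_smul, Algebra.smul_def]
  -- the generator ζ₀ as an element of the group
  let z : ↥(rootsOfUnity n A) :=
    ⟨(hζ₀.isUnit (NeZero.ne n)).unit, (mem_rootsOfUnity n _).mpr
      (Units.ext (by simp [hζ₀.pow_eq_one]))⟩
  have hz : uHom n z = ζ₀ := rfl
  -- linear independence mod the maximal ideal
  let v : Fin n → B := fun i => t ^ (i : ℕ)
  have hwli : LinearIndependent (IsLocalRing.ResidueField A)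
      (TensorProduct.mk A (IsLocalRing.ResidueField A) B 1 ∘ v) := by
    rw [Fintype.linearIndependent_iff]
    intro c hc i
    let f : Fin n → Ω := fun j => algebraMap A Ω (uHom n (z ^ (j : ℕ))) * χ₀ t
    have hf : Function.Injective f := by
      intro j j' hjj
      have h1 : algebraMap A Ω (uHom n (z ^ (j : ℕ))) = algebraMap A Ω (uHom n (z ^ (j' : ℕ))) :=
        mul_right_cancel₀ hτ hjj
      have h2 : restrictRootsOfUnity (algebraMap A Ω) n (z ^ (j : ℕ)) =
          restrictRootsOfUnity (algebraMap A Ω) n (z ^ (j' : ℕ)) :=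
        Subtype.ext (Units.ext h1)
      have h3 := congrArg (uHom n) (hGinj h2)
      rw [map_pow, map_pow, hz] at h3
      exact Fin.ext (hζ₀.pow_inj j.2 j'.2 h3)
    have hM : (Matrix.vandermonde f).det ≠ 0 := Matrix.det_vandermonde_ne_zero_iff.mpr hf
    have hv : Matrix.mulVec (Matrix.vandermonde f)
        (fun i => algebraMap (IsLocalRing.ResidueField A) Ω (c i)) = 0 := by
      funext j
      have h1 := congrArg (LinearMap.liftBaseChange (IsLocalRing.ResidueField A)
        (χg (z ^ (j : ℕ))).toLinearMap) hc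
      rw [map_sum, map_zero] at h1
      show ∑ i, Matrix.vandermonde f j i *
        algebraMap (IsLocalRing.ResidueField A) Ω (c i) = 0
      rw [← h1]
      refine Finset.sum_congr rfl (fun i _ => ?_)
      rw [map_smul, Function.comp_apply, TensorProduct.mk_apply,
        LinearMap.liftBaseChange_tmul, one_smul, AlgHom.toLinearMap_apply, map_pow, hχt,
        Algebra.smul_def, mul_comm, Matrix.vandermonde_apply]
    have h0 := Matrix.eq_zero_of_mulVec_eq_zero hM hv
    have hi := congrFun h0 i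
    exact (map_eq_zero_iff _ hkinj).mp hi
  have hfr : Module.finrank (IsLocalRing.ResidueField A) ((IsLocalRing.ResidueField A) ⊗[A] B) =
      Module.finrank A B := Module.finrank_baseChange
  have hn_le : n ≤ Module.finrank A B := by
    rw [← hfr]
    have := hwli.fintype_card_le_finrank
    simpa using this
  have hdn : Module.finrank A B = n := le_antisymm hd_le hn_le
  have hspan : Submodule.span (IsLocalRing.ResidueField A)
      (Set.range (TensorProduct.mk A (IsLocalRing.ResidueField A) B 1 ∘ v)) = ⊤ :=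
    hwli.span_eq_top_of_card_eq_finrank' (by rw [Fintype.card_fin, hfr, hdn])
  have hbij_k : Function.Bijective (Finsupp.linearCombination (IsLocalRing.ResidueField A)
      (TensorProduct.mk A (IsLocalRing.ResidueField A) B 1 ∘ v)) := by
    refine ⟨hwli, ?_⟩
    rw [← LinearMap.range_eq_top, Finsupp.range_linearCombination]
    exact hspan
  have hbij : Function.Bijective (Finsupp.linearCombination A v) :=
    Module.IsLocalRing.linearCombination_bijective_of_flat v hbij_k
  have hspanA : Submodule.span A (Set.range v) = ⊤ := by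
    rw [← Finsupp.range_linearCombination, LinearMap.range_eq_top]; exact hbij.2
  have B1 : ∀ x : B, ∃ α : Fin n → A, ∑ i, α i • v i = x := fun x =>
    (Submodule.mem_span_range_iff_exists_fun A).mp (hspanA ▸ Submodule.mem_top)
  have B2 := Fintype.linearIndependent_iff.mp (show LinearIndependent A v from hbij.1)
  obtain ⟨α, hα⟩ := B1 (t ^ n)
  have hzt : σ z (t ^ n) = t ^ n := by rw [map_pow, ht z, smul_pow, uHom_pow, one_smul]
  have hsum : ∑ i, (α i - α i * ζ₀ ^ (i : ℕ)) • v i = 0 := by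
    have h1 : σ z (∑ i, α i • v i) = ∑ i, (α i * ζ₀ ^ (i : ℕ)) • v i := by
      rw [map_sum]
      refine Finset.sum_congr rfl (fun i _ => ?_)
      show σ z (α i • t ^ (i : ℕ)) = (α i * ζ₀ ^ (i : ℕ)) • t ^ (i : ℕ)
      rw [map_smul, map_pow, ht z, smul_pow, smul_smul, hz]
    rw [hα, hzt] at h1
    simp only [sub_smul, Finset.sum_sub_distrib]
    rw [hα, ← h1, sub_self]
  have hαi := B2 _ hsum
  have hunit_i : ∀ i : Fin n, (i : ℕ) ≠ 0 → IsUnit (ζ₀ ^ (i : ℕ) - 1) := by
    intro i hi0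
    by_contra hnu
    have hm : ζ₀ ^ (i : ℕ) - 1 ∈ IsLocalRing.maximalIdeal A :=
      (IsLocalRing.mem_maximalIdeal _).mpr hnu
    have h1 : ζ₀ ^ (i : ℕ) = 1 := eq_one_of_pow_eq_one n hn _
      (by rw [← pow_mul, mul_comm, pow_mul, hζ₀.pow_eq_one, one_pow]) hm
    have h2 := hζ₀.dvd_of_pow_eq_one _ h1
    exact hi0 (Nat.eq_zero_of_dvd_of_lt h2 i.2)
  have hα0 : ∀ i : Fin n, (i : ℕ) ≠ 0 → α i = 0 := by
    intro i hi0
    have h1 : α i * (ζ₀ ^ (i : ℕ) - 1) = 0 := by
      have := hαi i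
      linear_combination -this
    exact (hunit_i i hi0).mul_left_eq_zero.mp h1
  let i0 : Fin n := ⟨0, hn1⟩
  have htn : t ^ n = algebraMap A B (α i0) := by
    rw [← hα, Finset.sum_eq_single i0]
    · show α i0 • t ^ 0 = _
      rw [pow_zero, Algebra.algebraMap_eq_smul_one]
    · intro i _ hi
      have : (i : ℕ) ≠ 0 := fun h => hi (Fin.ext h)
      rw [hα0 i this, zero_smul]
    · intro h
      exact absurd (Finset.mem_univ _) h
  have ha_unit : IsUnit (α i0) := by
    apply hunit
    have : algebraMap A Ω (α i0) = (χ₀ t) ^ n := by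
      rw [← AlgHom.commutes χ₀, ← htn, map_pow]
    rw [this]
    exact pow_ne_zero _ hτ
  exact ⟨ha_unit.unit, t, by rw [htn, IsUnit.unit_spec], ht, hbij⟩

theorem kummer_core
    (n : ℕ) (hn1 : 1 ≤ n) (hn : IsUnit ((n : ℕ) : A)) (ζ₀ : A) (hζ₀ : IsPrimitiveRoot ζ₀ n)
    (B : Type u) [CommRing B] [Algebra A B] [Module.Finite A B] [Algebra.Etale A B]
    (σ : ↥(rootsOfUnity n A) → (B →ₐ[A] B))
    (hσmul : ∀ g h, σ (g * h) = (σ h).comp (σ g))
    (hsurj : Function.Surjective (PrimeSpectrum.comap (algebraMap A B)))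
    (htors : ∀ (Ω : Type u) [Field Ω] [IsAlgClosed Ω] (χ χ' : B →+* Ω),
      χ.comp (algebraMap A B) = χ'.comp (algebraMap A B) →
      ∃! g : ↥(rootsOfUnity n A), χ.comp (σ g).toRingHom = χ') :
    ∃ (a : Aˣ) (t : B), t ^ n = algebraMap A B a ∧ (∀ g, σ g t = uHom n g • t) ∧
      Function.Bijective (Finsupp.linearCombination A (fun i : Fin n => t ^ (i : ℕ))) :=
  kummer_core_aux (AlgebraicClosure (IsLocalRing.ResidueField A)) n hn1 hn ζ₀ hζ₀ B σ hσmul hsurj
    (htors (AlgebraicClosure (IsLocalRing.ResidueField A)))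

end Core


section Equiv
variable {A : Type u} [CommRing A]

theorem kummer_equiv (n : ℕ) (hn1 : 1 ≤ n) (B : Type u) [CommRing B] [Algebra A B]
    (σ : ↥(rootsOfUnity n A) → (B →ₐ[A] B)) (a : A) (t : B)
    (htn : t ^ n = algebraMap A B a) (ht : ∀ g, σ g t = ((g : Aˣ) : A) • t)
    (hbij : Function.Bijective (Finsupp.linearCombination A (fun i : Fin n => t ^ (i : ℕ)))) :
    ∃ e' : SGA1t.kummer A (fun _ : Unit => a) (fun _ => n) ≃ₐ[A] B,
      ∀ (g : ↥(rootsOfUnity n A)) x, σ g (e' x) =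
        e' (SGA1t.kummerTwist A (fun _ : Unit => a) (fun _ => n) (fun _ => g) x) := by
  classical
  let I : Ideal (MvPolynomial Unit A) := Ideal.span (Set.range fun i : Unit =>
    (MvPolynomial.X i : MvPolynomial Unit A) ^ n - MvPolynomial.C a)
  let ev : MvPolynomial Unit A →ₐ[A] B := MvPolynomial.aeval (fun _ => t)
  have hI : ∀ x ∈ I, ev x = 0 := by
    intro x hx
    have hle : I ≤ RingHom.ker ev.toRingHom := by
      rw [Ideal.span_le]
      rintro _ ⟨i, rfl⟩
      show ev (MvPolynomial.X i ^ n - MvPolynomial.C a) = 0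
      rw [map_sub, map_pow, MvPolynomial.aeval_X, MvPolynomial.aeval_C, htn, sub_self]
    exact hle hx
  let Φ : (MvPolynomial Unit A ⧸ I) →ₐ[A] B := Ideal.Quotient.liftₐ I ev hI
  have hΦmk : ∀ p, Φ (Ideal.Quotient.mk I p) = ev p := fun p => rfl
  let T : MvPolynomial Unit A ⧸ I := Ideal.Quotient.mk I (MvPolynomial.X ())
  have hT : T ^ n = algebraMap A (MvPolynomial Unit A ⧸ I) a := by
    show (Ideal.Quotient.mk I (MvPolynomial.X ())) ^ n = _
    have h2 : algebraMap A (MvPolynomial Unit A ⧸ I) a = Ideal.Quotient.mk I (MvPolynomial.C a) := rfl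
    rw [← map_pow, ← sub_eq_zero, h2, ← map_sub, Ideal.Quotient.eq_zero_iff_mem]
    exact Ideal.subset_span ⟨(), rfl⟩
  have hΦT : Φ T = t := by
    show ev (MvPolynomial.X ()) = t
    exact MvPolynomial.aeval_X _ _
  let Sp : Submodule A (MvPolynomial Unit A ⧸ I) :=
    Submodule.span A (Set.range fun i : Fin n => T ^ (i : ℕ))
  have h1 : (1 : MvPolynomial Unit A ⧸ I) ∈ Sp := Submodule.subset_span ⟨⟨0, hn1⟩, pow_zero T⟩
  have hmul : ∀ x ∈ Sp, T * x ∈ Sp := by
    intro x hx
    induction hx using Submodule.span_induction with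
    | mem y hy =>
      obtain ⟨i, rfl⟩ := hy
      show T * T ^ (i : ℕ) ∈ Sp
      rw [← pow_succ']
      by_cases hi : (i : ℕ) + 1 < n
      · exact Submodule.subset_span ⟨⟨(i : ℕ) + 1, hi⟩, rfl⟩
      · have hin : (i : ℕ) + 1 = n := by have := i.2; omega
        rw [hin, hT, Algebra.algebraMap_eq_smul_one]
        exact Sp.smul_mem _ h1
    | zero => rw [mul_zero]; exact Sp.zero_mem
    | add y z _ _ hy hz => rw [mul_add]; exact Sp.add_mem hy hz
    | smul c y _ hy => rw [mul_smul_comm]; exact Sp.smul_mem _ hy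
  have hall : ∀ p : MvPolynomial Unit A, Ideal.Quotient.mk I p ∈ Sp := by
    intro p
    induction p using MvPolynomial.induction_on with
    | C c =>
      have h2 : Ideal.Quotient.mk I (MvPolynomial.C c) = c • (1 : MvPolynomial Unit A ⧸ I) := by
        rw [← Algebra.algebraMap_eq_smul_one]; rfl
      rw [h2]
      exact Sp.smul_mem _ h1
    | add p q hp hq => rw [map_add]; exact Sp.add_mem hp hq
    | mul_X p i hp => rw [map_mul, mul_comm]; exact hmul _ hp
  have hrep : ∀ x : MvPolynomial Unit A ⧸ I, ∃ α : Fin n → A, ∑ i, α i • T ^ (i : ℕ) = x := by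
    intro x
    obtain ⟨p, rfl⟩ := Ideal.Quotient.mk_surjective x
    exact (Submodule.mem_span_range_iff_exists_fun A).mp (hall p)
  have hΦsum : ∀ α : Fin n → A, Φ (∑ i, α i • T ^ (i : ℕ)) = ∑ i, α i • t ^ (i : ℕ) := by
    intro α
    rw [map_sum]
    refine Finset.sum_congr rfl (fun i _ => ?_)
    rw [map_smul, map_pow, hΦT]
  have hspanB : Submodule.span A (Set.range fun i : Fin n => t ^ (i : ℕ)) = ⊤ := by
    rw [← Finsupp.range_linearCombination, LinearMap.range_eq_top]; exact hbij.2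
  have B2 := Fintype.linearIndependent_iff.mp
    (show LinearIndependent A (fun i : Fin n => t ^ (i : ℕ)) from hbij.1)
  have hΦbij : Function.Bijective Φ := by
    constructor
    · rw [injective_iff_map_eq_zero]
      intro x hx
      obtain ⟨α, rfl⟩ := hrep x
      rw [hΦsum] at hx
      have h0 := B2 α hx
      refine Finset.sum_eq_zero (fun i _ => ?_)
      rw [h0 i, zero_smul]
    · intro y
      obtain ⟨α, hα⟩ := (Submodule.mem_span_range_iff_exists_fun A).mp
        (hspanB ▸ (Submodule.mem_top : y ∈ (⊤ : Submodule A B)))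
      exact ⟨∑ i, α i • T ^ (i : ℕ), by rw [hΦsum, hα]⟩
  refine ⟨AlgEquiv.ofBijective Φ hΦbij, ?_⟩
  intro g x
  obtain ⟨p, rfl⟩ := Ideal.Quotient.mk_surjective x
  have htw : SGA1t.kummerTwist A (fun _ : Unit => a) (fun _ => n) (fun _ => g)
      (Ideal.Quotient.mk I p) = Ideal.Quotient.mk I (MvPolynomial.aeval (R := A)
        (fun i => MvPolynomial.C (((g : Aˣ) : A)) * MvPolynomial.X i) p) := rfl
  show σ g (Φ (Ideal.Quotient.mk I p)) = Φ (SGA1t.kummerTwist A (fun _ : Unit => a) (fun _ => n)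
    (fun _ => g) (Ideal.Quotient.mk I p))
  rw [htw, hΦmk, hΦmk]
  have hAlg : (σ g).comp ev = ev.comp (MvPolynomial.aeval (R := A)
      (fun i => MvPolynomial.C (((g : Aˣ) : A)) * MvPolynomial.X i)) := by
    apply MvPolynomial.algHom_ext
    intro i
    show σ g (ev (MvPolynomial.X i)) = ev (MvPolynomial.aeval
      (fun i => MvPolynomial.C (((g : Aˣ) : A)) * MvPolynomial.X i) (MvPolynomial.X i))
    rw [MvPolynomial.aeval_X, MvPolynomial.aeval_X, map_mul, MvPolynomial.aeval_C,
      MvPolynomial.aeval_X, ht g, Algebra.smul_def]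
  exact congrArg (fun f : MvPolynomial Unit A →ₐ[A] B => f p) hAlg

end Equiv

end Groth.Agent.H75.KummerCore
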