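import Groth.Agent.H59.LefConn.Defs
import Groth.Agent.H8.UnitHom
import Groth.Agent.H68.ClopenIdem
import Groth.Agent.H63.Pi0Conn

/-!
# (T1) for S2946: `T` is connected if the support of `𝓙` is and `Γ(T, O) → lim Γ(Y_n, O)` is
injective
-/

set_option autoImplicit false
set_option linter.style.haveILetI false
universe u
open CategoryTheory CategoryTheory.Limits AlgebraicGeometry
open Groth.Agent.H59.LefConn

namespace Groth.Agent.H75.LefConn_T1

variable {T : Scheme.{u}} (𝓙 : T.IdealSheafData)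

theorem range_ι (n : ℕ) :
    Set.range (𝓙 ^ (n + 1)).subschemeι = (𝓙.support : Set T) := by
  rw [Scheme.IdealSheafData.range_subschemeι]
  rfl

theorem connectedSpace_of_support (hinj : SecInj 𝓙)
    (hY : ConnectedSpace (𝓙.support : Set T)) : ConnectedSpace T := by
  classical
  rw [connectedSpace_iff_clopen]
  refine ⟨?_, fun W hW => ?_⟩
  · obtain ⟨y⟩ := hY.toNonempty
    exact ⟨y.1⟩
  obtain ⟨e, he, hbe⟩ := Groth.Agent.H68.ClopenIdem.exists_idempotent_of_isClopen W hW
  have hW' : IsClopen (Subtype.val ⁻¹' W : Set (𝓙.support : Set T)) :=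
    hW.preimage continuous_subtype_val
  have hmem : ∀ (n : ℕ) (x : ↥(𝓙 ^ (n + 1)).subscheme),
      (𝓙 ^ (n + 1)).subschemeι x ∈ (𝓙.support : Set T) := by
    intro n x
    rw [← range_ι 𝓙 n]
    exact ⟨x, rfl⟩
  have hpre : ∀ n : ℕ,
      ((𝓙 ^ (n + 1)).subscheme.basicOpen ((𝓙 ^ (n + 1)).subschemeι.appTop.hom e) : Set _) =
        (𝓙 ^ (n + 1)).subschemeι ⁻¹' W := by
    intro n
    have h1 := Scheme.preimage_basicOpen_top (𝓙 ^ (n + 1)).subschemeι e
    rw [← hbe, ← h1]
    rfl
  rcases (connectedSpace_iff_clopen.mp hY).2 _ hW' with h0 | h1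
  · left
    have hen : ∀ n : ℕ, (𝓙 ^ (n + 1)).subschemeι.appTop.hom e = 0 := by
      intro n
      refine Groth.Agent.H68.ClopenIdem.eq_of_basicOpen_eq
        (he.map (𝓙 ^ (n + 1)).subschemeι.appTop.hom) IsIdempotentElem.zero ?_
      apply TopologicalSpace.Opens.ext
      rw [hpre n, Scheme.basicOpen_zero]
      ext x
      simp only [Set.mem_preimage, TopologicalSpace.Opens.coe_bot, Set.mem_empty_iff_false,
        iff_false]
      intro hx
      have hx' : (⟨_, hmem n x⟩ : (𝓙.support : Set T)) ∈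
          (Subtype.val ⁻¹' W : Set (𝓙.support : Set T)) := hx
      rw [h0] at hx'
      exact hx'
    have h0e : e = 0 := hinj e 0 fun n => by rw [hen n, map_zero]
    rw [← hbe, h0e, Scheme.basicOpen_zero]
    rfl
  · right
    have hen : ∀ n : ℕ, (𝓙 ^ (n + 1)).subschemeι.appTop.hom e = 1 := by
      intro n
      refine Groth.Agent.H68.ClopenIdem.eq_of_basicOpen_eq
        (he.map (𝓙 ^ (n + 1)).subschemeι.appTop.hom) IsIdempotentElem.one ?_
      apply TopologicalSpace.Opens.ext
      rw [hpre n, Scheme.basicOpen_one]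
      ext x
      simp only [Set.mem_preimage, TopologicalSpace.Opens.coe_top, Set.mem_univ, iff_true]
      have hx' : (⟨_, hmem n x⟩ : (𝓙.support : Set T)) ∈
          (Subtype.val ⁻¹' W : Set (𝓙.support : Set T)) := by
        rw [h1]
        trivial
      exact hx'
    have h1e : e = 1 := hinj e 1 fun n => by rw [hen n, map_one]
    rw [← hbe, h1e, Scheme.basicOpen_one]
    rfl

end Groth.Agent.H75.LefConn_T1
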