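import Mathlib
import Groth.Prelude
import Groth.Agent.H82.HHLES
import Groth.Agent.H22.SerreH1
import Groth.Agent.H75.Mumford_HL

/-!
# (HL2) for the S19605 squad: a long exact resolution `0 → A 1 → … → A (n+2) → 0` with
`H^{i+n+1-l}(A l) = 0` for `1 ≤ l ≤ n+1` has `H^i(A (n+2)) = 0`
-/

set_option autoImplicit false
set_option linter.style.haveILetI false
universe u
open CategoryTheory CategoryTheory.Limits AlgebraicGeometry Opposite TopologicalSpace

namespace Groth.Agent.H75.Mumford_HL2

open CategoryTheory.Abelian Groth.Agent.H75.Mumford_HL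

variable {X : Scheme.{u}}

theorem subsingleton_HH_of_iso {M N : X.Modules} (e : M ≅ N) (p : ℕ)
    (h : Subsingleton (Coh.HH X M p)) : Subsingleton (Coh.HH X N p) := by
  have key : ∀ x : Coh.HH X N p, x = 0 := by
    intro x
    have h1 : Sheaf.H.map ((SheafOfModules.toSheaf _).map e.hom) p
        (Sheaf.H.map ((SheafOfModules.toSheaf _).map e.inv) p x) = x := by
      have hab : (SheafOfModules.toSheaf X.ringCatSheaf).map e.inv ≫
          (SheafOfModules.toSheaf X.ringCatSheaf).map e.hom = 𝟙 _ :=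
        ((SheafOfModules.toSheaf X.ringCatSheaf).mapIso e).inv_hom_id
      rw [← Sheaf.H.map_comp_apply, hab, Sheaf.H.map_id_apply]
    have h2 : Sheaf.H.map ((SheafOfModules.toSheaf _).map e.inv) p x = (0 : Coh.HH X M p) :=
      Subsingleton.elim _ _
    rw [← h1, h2, map_zero]
  exact ⟨fun x y => (key x).trans (key y).symm⟩

/-- (HL2) -/
theorem HL2 (n i : ℕ) (A : ℕ → X.Modules) (d : ∀ k, A k ⟶ A (k + 1))
    (hd : ∀ k, d k ≫ d (k + 1) = 0)
    (hex : ∀ k, (ShortComplex.mk (d k) (d (k + 1)) (hd k)).Exact)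
    (h0 : IsZero (A 0)) (hN : IsZero (A (n + 3)))
    (hvan : ∀ l, 1 ≤ l → l ≤ n + 1 → Subsingleton (Coh.HH X (A l) (i + n + 1 - l))) :
    Subsingleton (Coh.HH X (A (n + 2)) i) := by
  have claim : ∀ k : ℕ, 1 ≤ k → ∀ j : ℕ, i ≤ j → j + k = i + n + 2 →
      Subsingleton (Coh.HH X (kernel (d k)) j) := by
    intro k hk
    induction k, hk using Nat.le_induction with
    | base =>
      intro j _ _
      have hmono : Mono (d 1) :=
        ((ShortComplex.mk (d 0) (d 1) (hd 0)).exact_iff_mono (h0.eq_of_src _ _)).mp (hex 0)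
      exact subsingleton_HH_of_isZero (isZero_kernel_of_mono (d 1)) j
    | succ k hk ih =>
      intro j hj1 hj
      have hS := SS_shortExact A d hd hex k
      have hkn : k ≤ n + 1 := by omega
      have hj' : i + n + 1 - k = j := by omega
      have h₂ : Subsingleton (Coh.HH X (A k) j) := hj' ▸ hvan k hk hkn
      have h₁ : Subsingleton (Coh.HH X (kernel (d k)) (j + 1)) := ih (j + 1) (by omega) (by omega)
      exact Groth.Agent.H82.HHLES.subsingleton_right (SS A d hd k) hS j h₂ h₁
  have hK : Subsingleton (Coh.HH X (kernel (d (n + 2))) i) :=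
    claim (n + 2) (by omega) i le_rfl (by omega)
  haveI : IsIso (kernel.ι (d (n + 2))) :=
    isIso_kernel_ι_of_eq_zero _ (hN.eq_of_tgt _ _)
  exact subsingleton_HH_of_iso (asIso (kernel.ι (d (n + 2)))) i hK

end Groth.Agent.H75.Mumford_HL2
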