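import Groth.Agent.H87.TameFlatDefs2
set_option autoImplicit false
universe u
open IsLocalRing TensorProduct Groth.Agent.H87.TameFlat

namespace Groth.Agent.H75.NormQuotJq

/-- norm of `1 ⊗ y` in a base change of a finite free algebra. -/
theorem norm_one_tmul {k k' F : Type*} [CommRing k] [CommRing k'] [CommRing F] [Algebra k k']
    [Algebra k F] [Module.Free k F] [Module.Finite k F] (y : F) :
    Algebra.norm k' ((1 : k') ⊗ₜ[k] y) = algebraMap k k' (Algebra.norm k y) := by
  rw [Algebra.norm_apply, ← Algebra.baseChange_lmul, LinearMap.det_baseChange, Algebra.norm_apply]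

theorem norm_quot_Jq (A A' B : Type u) [CommRing A] [CommRing A'] [CommRing B] [Algebra A A'] [Algebra A B] [IsLocalRing A] [IsLocalRing A'] [IsLocalHom (algebraMap A A')] [Module.Finite A B] [hloc : ∀ q : MaximalSpectrum B, IsLocalHom (algebraMap A (Localization.AtPrime q.asIdeal))] (q : MaximalSpectrum B) (b : B) : @Algebra.norm (ResidueField A') ((A' ⊗[A] B) ⧸ Jq A A' B q) _ _ (quotAlg (Jq A A' B q) (le_Jq A A' B q)) (Ideal.Quotient.mk (Jq A A' B q) (inc A A' B b)) = ResidueField.map (algebraMap A A') (Algebra.norm (ResidueField A) (residue (Localization.AtPrime q.asIdeal) (algebraMap B (Localization.AtPrime q.asIdeal) b))) := by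
  classical
  haveI := q.isMaximal
  haveI := hloc q
  letI : Algebra (ResidueField A') ((A' ⊗[A] B) ⧸ Jq A A' B q) :=
    quotAlg (Jq A A' B q) (le_Jq A A' B q)
  -- the two surjections
  let f : A' →ₐ[A'] ResidueField A' := IsScalarTower.toAlgHom A' A' (ResidueField A')
  let g : B →ₐ[A] ResidueField (Localization.AtPrime q.asIdeal) :=
    IsScalarTower.toAlgHom A B (ResidueField (Localization.AtPrime q.asIdeal))
  have hf : Function.Surjective f := residue_surjective
  have hg : Function.Surjective g := by
    intro y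
    let e := IsLocalization.AtPrime.equivQuotMaximalIdeal q.asIdeal
      (Localization.AtPrime q.asIdeal)
    obtain ⟨b, hb⟩ := Ideal.Quotient.mk_surjective (e.symm y)
    refine ⟨b, ?_⟩
    have : e (Ideal.Quotient.mk _ b) = y := by rw [hb, RingEquiv.apply_symm_apply]
    rw [← this]
    rfl
  have hkerf : RingHom.ker f = maximalIdeal A' := ker_residue (R := A')
  have hkerg : RingHom.ker g = q.asIdeal := by
    ext x
    rw [RingHom.mem_ker]
    show residue (Localization.AtPrime q.asIdeal)
      (algebraMap B (Localization.AtPrime q.asIdeal) x) = 0 ↔ _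
    rw [residue_eq_zero_iff,
      IsLocalization.AtPrime.to_map_mem_maximal_iff (Localization.AtPrime q.asIdeal) q.asIdeal]
  let Ψ : A' ⊗[A] B →ₐ[A'] ResidueField A' ⊗[A] ResidueField (Localization.AtPrime q.asIdeal) :=
    Algebra.TensorProduct.map f g
  have hΨsurj : Function.Surjective Ψ := Algebra.TensorProduct.map_surjective f g hf hg
  have hΨker : RingHom.ker Ψ = Jq A A' B q := by
    rw [Algebra.TensorProduct.map_ker f g hf hg, hkerf, hkerg, sup_comm]
    rfl
  -- first iso
  let Φ₁ : ((A' ⊗[A] B) ⧸ Jq A A' B q) ≃ₐ[A']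
      ResidueField A' ⊗[A] ResidueField (Localization.AtPrime q.asIdeal) :=
    (Ideal.quotientEquivAlgOfEq A' hΨker.symm).trans
      (Ideal.quotientKerAlgEquivOfSurjective hΨsurj)
  have hΦ₁ : ∀ x, Φ₁ (Ideal.Quotient.mk _ x) = Ψ x := fun x => rfl
  -- second iso
  haveI : TensorProduct.CompatibleSMul A (ResidueField A) (ResidueField A')
      (ResidueField (Localization.AtPrime q.asIdeal)) :=
    TensorProduct.CompatibleSMul.of_algebraMap_surjective _ _ residue_surjective
  let Φ₂ : ResidueField A' ⊗[A] ResidueField (Localization.AtPrime q.asIdeal) ≃ₐ[ResidueField A']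
      ResidueField A' ⊗[ResidueField A] ResidueField (Localization.AtPrime q.asIdeal) :=
    Algebra.TensorProduct.equivOfCompatibleSMul (ResidueField A) A (ResidueField A')
      (ResidueField A') (ResidueField (Localization.AtPrime q.asIdeal))
  let Φ : ((A' ⊗[A] B) ⧸ Jq A A' B q) ≃+*
      ResidueField A' ⊗[ResidueField A] ResidueField (Localization.AtPrime q.asIdeal) :=
    Φ₁.toRingEquiv.trans Φ₂.toRingEquiv
  have hΦ : ∀ a' b, Φ (Ideal.Quotient.mk _ (a' ⊗ₜ[A] b)) =
      (residue A' a') ⊗ₜ[ResidueField A] (residue (Localization.AtPrime q.asIdeal)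
        (algebraMap B (Localization.AtPrime q.asIdeal) b)) := fun a' b => rfl
  have he : RingHom.comp (algebraMap (ResidueField A')
        (ResidueField A' ⊗[ResidueField A] ResidueField (Localization.AtPrime q.asIdeal)))
        ((RingEquiv.refl (ResidueField A') : ResidueField A' ≃+* ResidueField A') :
          ResidueField A' →+* ResidueField A') =
      RingHom.comp (Φ : _ →+* _) (algebraMap (ResidueField A') ((A' ⊗[A] B) ⧸ Jq A A' B q)) := by
    ext x
    obtain ⟨a', rfl⟩ := residue_surjective x
    have h1 : algebraMap (ResidueField A') ((A' ⊗[A] B) ⧸ Jq A A' B q) (residue A' a') =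
        Ideal.Quotient.mk _ (a' ⊗ₜ[A] (1 : B)) := rfl
    simp only [RingHom.comp_apply, RingHom.coe_coe, RingEquiv.refl_apply]
    rw [h1, hΦ, Algebra.TensorProduct.algebraMap_apply]
    simp
  haveI : Module.Finite A (ResidueField (Localization.AtPrime q.asIdeal)) :=
    Module.Finite.of_surjective g.toLinearMap hg
  haveI : Module.Finite (ResidueField A) (ResidueField (Localization.AtPrime q.asIdeal)) :=
    Module.Finite.of_restrictScalars_finite A _ _
  rw [Algebra.norm_eq_of_equiv_equiv (RingEquiv.refl (ResidueField A')) Φ he]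
  rw [inc_apply, hΦ, map_one, norm_one_tmul]
  show algebraMap (ResidueField A) (ResidueField A') _ = _
  generalize Algebra.norm (ResidueField A) (residue (Localization.AtPrime q.asIdeal)
    (algebraMap B (Localization.AtPrime q.asIdeal) b)) = z
  obtain ⟨a, rfl⟩ := residue_surjective z
  rfl

end Groth.Agent.H75.NormQuotJq
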