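import Mathlib.RingTheory.RootsOfUnity.PrimitiveRoots
import Mathlib.FieldTheory.Separable
import Mathlib.Algebra.Polynomial.Splits

/-! A field over which `X ^ d - 1` splits, with `d` invertible, has a primitive `d`-th root of
unity. -/

namespace Groth.Agent.H75

open Polynomial

lemma exists_isPrimitiveRoot_of_splits (K : Type*) [Field K] (d : ℕ) (hd : 0 < d)
    (hdK : (d : K) ≠ 0) (hs : (X ^ d - 1 : K[X]).Splits) : ∃ ζ : K, IsPrimitiveRoot ζ d := by
  classical
  haveI : NeZero d := ⟨hd.ne'⟩
  rw [← card_rootsOfUnity_eq_iff_exists_isPrimitiveRoot]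
  have hsep : (X ^ d - 1 : K[X]).Separable := X_pow_sub_one_separable_iff.mpr hdK
  have hroots : nthRoots d (1 : K) = (X ^ d - 1 : K[X]).roots := by
    rw [nthRoots, map_one]
  have hcard : Multiset.card (nthRoots d (1 : K)) = d := by
    rw [hroots, ← hs.natDegree_eq_card_roots]
    have : (X ^ d - 1 : K[X]) = X ^ d - C 1 := by rw [map_one]
    rw [this, natDegree_X_pow_sub_C]
  have hnodup : (nthRoots d (1 : K)).Nodup := by rw [hroots]; exact nodup_roots hsep
  calc Nat.card (rootsOfUnity d K) = Nat.card {x // x ∈ nthRoots d (1 : K)} :=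
        Nat.card_congr (rootsOfUnityEquivNthRoots K d)
    _ = Fintype.card {x // x ∈ nthRoots d (1 : K)} := Nat.card_eq_fintype_card
    _ = (nthRoots d (1 : K)).toFinset.card :=
        Fintype.card_of_subtype _ (fun x => Multiset.mem_toFinset)
    _ = Multiset.card (nthRoots d (1 : K)) := Multiset.toFinset_card_of_nodup hnodup
    _ = d := hcard

end Groth.Agent.H75
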