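import Mathlib
set_option autoImplicit false
universe u v
namespace Groth.Agent.H75.PureSummand

open DirectSum

/-- (D) a pure submodule of a finite-length module over a DVR is a direct summand. -/
theorem exists_isCompl_of_pure {W : Type u} [CommRing W] [IsDomain W] [IsDiscreteValuationRing W]
    (ϖ : W) (hϖ : Irreducible ϖ) {N : Type v} [AddCommGroup N] [Module W N]
    (hN : IsFiniteLength W N) (N' : Submodule W N)
    (hpure : ∀ (j : ℕ) (x : N), x ∈ N' → (∃ y : N, x = ϖ ^ j • y) → ∃ y' ∈ N', x = ϖ ^ j • y') :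
    ∃ Q : Submodule W N, IsCompl N' Q := by
  classical
  obtain ⟨hNoeth, hArt⟩ := isFiniteLength_iff_isNoetherian_isArtinian.mp hN
  haveI := hNoeth
  haveI := hArt
  -- general purity
  have hpure' : ∀ (r : W), r ≠ 0 → ∀ x ∈ N', (∃ y : N, x = r • y) → ∃ y' ∈ N', x = r • y' := by
    rintro r hr x hx ⟨y, hy⟩
    obtain ⟨j, u, rfl⟩ := IsDiscreteValuationRing.eq_unit_mul_pow_irreducible hr hϖ
    obtain ⟨y', hy', hxy'⟩ := hpure j x hx ⟨(u : W) • y, by rw [hy, smul_smul, mul_comm]⟩
    refine ⟨((u⁻¹ : Wˣ) : W) • y', N'.smul_mem _ hy', ?_⟩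
    rw [hxy', smul_smul, mul_comm (u : W), mul_assoc, Units.mul_inv, mul_one]
  -- the quotient is torsion
  have hT : Module.IsTorsion W (N ⧸ N') := by
    intro x
    by_contra hx
    have hinj : Function.Injective (LinearMap.toSpanSingleton W (N ⧸ N') x) := by
      rw [← LinearMap.ker_eq_bot, LinearMap.ker_eq_bot']
      intro r hr
      by_contra hr0
      exact hx ⟨⟨r, mem_nonZeroDivisors_of_ne_zero hr0⟩, by simpa using hr⟩
    haveI : IsArtinianRing W := isArtinian_of_injective _ hinj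
    exact IsDiscreteValuationRing.not_isField W (IsArtinianRing.isField_of_isDomain W)
  obtain ⟨ι, _, p, hp, e, ⟨E⟩⟩ := Module.equiv_directSum_of_isTorsion hT
  -- generators
  have hgen : ∀ i : ι, ∃ g : N, N'.mkQ g = E.symm (DirectSum.lof W ι
      (fun i => W ⧸ W ∙ p i ^ e i) i (Submodule.Quotient.mk 1)) ∧ p i ^ e i • g = 0 := by
    intro i
    obtain ⟨g, hg⟩ := N'.mkQ_surjective (E.symm (DirectSum.lof W ι
      (fun i => W ⧸ W ∙ p i ^ e i) i (Submodule.Quotient.mk 1)))
    have hne : p i ^ e i ≠ 0 := pow_ne_zero _ (hp i).ne_zero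
    have hmem : p i ^ e i • g ∈ N' := by
      rw [← Submodule.Quotient.mk_eq_zero, Submodule.Quotient.mk_smul, ← Submodule.mkQ_apply, hg,
        ← map_smul, ← map_smul, ← Submodule.Quotient.mk_smul, smul_eq_mul, mul_one,
        (Submodule.Quotient.mk_eq_zero _).mpr (Submodule.mem_span_singleton_self _), map_zero,
        map_zero]
    obtain ⟨y', hy', hxy'⟩ := hpure' _ hne _ hmem ⟨g, rfl⟩
    refine ⟨g - y', ?_, ?_⟩
    · rw [map_sub, hg, (Submodule.mkQ_apply ..).trans
        ((Submodule.Quotient.mk_eq_zero _).mpr hy'), sub_zero]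
    · rw [smul_sub, hxy', sub_self]
  choose g hg hg0 using hgen
  let s : ∀ i, (W ⧸ W ∙ p i ^ e i) →ₗ[W] N := fun i =>
    Submodule.liftQ _ (LinearMap.toSpanSingleton W N (g i)) (by
      rw [Submodule.span_le, Set.singleton_subset_iff]
      simp [LinearMap.mem_ker, hg0 i])
  let S : (N ⧸ N') →ₗ[W] N := (DirectSum.toModule W ι N s) ∘ₗ E.toLinearMap
  have h1 : N'.mkQ ∘ₗ (DirectSum.toModule W ι N s) = E.symm.toLinearMap := by
    apply DirectSum.linearMap_ext
    intro i
    apply Submodule.linearMap_qext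
    apply LinearMap.ext_ring
    have hsi : s i (Submodule.Quotient.mk 1) = g i := by
      simp only [s]
      rw [Submodule.liftQ_apply, LinearMap.toSpanSingleton_apply, one_smul]
    show N'.mkQ (DirectSum.toModule W ι N s (DirectSum.lof W ι
      (fun i => W ⧸ W ∙ p i ^ e i) i (Submodule.Quotient.mk 1))) =
      E.symm (DirectSum.lof W ι (fun i => W ⧸ W ∙ p i ^ e i) i (Submodule.Quotient.mk 1))
    rw [DirectSum.toModule_lof, ← hg i, hsi]
  have hsec : ∀ c : N ⧸ N', N'.mkQ (S c) = c := by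
    intro c
    have := LinearMap.congr_fun h1 (E c)
    simpa [S] using this
  refine ⟨LinearMap.range S, ?_, ?_⟩
  · rw [Submodule.disjoint_def]
    rintro x hx ⟨c, rfl⟩
    have hc : c = 0 := by
      rw [← hsec c, Submodule.mkQ_apply, Submodule.Quotient.mk_eq_zero]
      exact hx
    rw [hc, map_zero]
  · rw [Submodule.codisjoint_iff_exists_add_eq]
    intro z
    refine ⟨z - S (N'.mkQ z), S (N'.mkQ z), ?_, ⟨_, rfl⟩, by abel⟩
    rw [← Submodule.Quotient.mk_eq_zero, ← Submodule.mkQ_apply, map_sub, hsec, sub_self]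

end Groth.Agent.H75.PureSummand
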