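import Mathlib

/-!
# (GEN) for the S10809 squad: generating sections generate locally by finite combinations

If `s : I → N.sections` generate the sheaf of modules `N` (the morphism `free I ⟶ N` is an
epimorphism), every section of `N` is locally a finite combination of the `s i`.
-/

set_option autoImplicit false
set_option linter.style.haveILetI false

universe u v₁ u₁

open CategoryTheory Opposite Limits

namespace Groth.Agent.H75.QCBC_GEN

variable {C : Type u₁} [Category.{v₁} C]

section Pre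

variable {R₀ : Cᵒᵖ ⥤ RingCat.{u}} (J : GrothendieckTopology C) (M : PresheafOfModules.{u} R₀)
  {I : Type u} (s : I → M.sections)

/-- `x` is locally a finite combination of the `s i`. -/
def IsLocComb (X : Cᵒᵖ) (x : M.obj X) : Prop :=
  ∃ S ∈ J X.unop, ∀ ⦃Y : C⦄ (f : Y ⟶ X.unop), S f →
    ∃ c : I →₀ R₀.obj (op Y), M.map f.op x = c.sum fun i r => r • (s i).eval (op Y)

/-- The sub-presheaf of modules of sections which are locally finite combinations of the `s i`. -/
def G : M.Submodule where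
  obj X :=
    { carrier := {x | IsLocComb J M s X x}
      add_mem' := by
        rintro x y ⟨S₁, hS₁, h₁⟩ ⟨S₂, hS₂, h₂⟩
        refine ⟨S₁ ⊓ S₂, J.intersection_covering hS₁ hS₂, fun Y f hf => ?_⟩
        obtain ⟨c₁, hc₁⟩ := h₁ f hf.1
        obtain ⟨c₂, hc₂⟩ := h₂ f hf.2
        refine ⟨c₁ + c₂, ?_⟩
        rw [map_add, hc₁, hc₂]
        exact (Finsupp.sum_add_index' (h := fun i r => r • (s i).eval (op Y))
          (fun i => zero_smul _ _) (fun i a b => add_smul _ _ _)).symm
      zero_mem' := ⟨⊤, J.top_mem _, fun Y f _ =>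
        ⟨0, by rw [map_zero, Finsupp.sum_zero_index]; rfl⟩⟩
      smul_mem' := by
        rintro r x ⟨S, hS, h⟩
        refine ⟨S, hS, fun Y f hf => ?_⟩
        obtain ⟨c, hc⟩ := h f hf
        refine ⟨R₀.map f.op r • c, ?_⟩
        have key : ∀ (a : R₀.obj (op Y)) (c : I →₀ R₀.obj (op Y)),
            a • (c.sum fun i r => r • (s i).eval (op Y)) =
              (a • c).sum fun i r => r • (s i).eval (op Y) := by
          intro a c
          rw [Finsupp.smul_sum,
            Finsupp.sum_smul_index' (h := fun i r => r • (s i).eval (op Y))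
              (fun i => zero_smul _ _)]
          simp only [smul_eq_mul, mul_smul]
        rw [M.map_smul, hc]
        exact key _ c }
  map {X Y} f := by
    rintro x ⟨S, hS, h⟩
    refine ⟨S.pullback f.unop, J.pullback_stable f.unop hS, fun Z g hg => ?_⟩
    obtain ⟨c, hc⟩ := h (g ≫ f.unop) hg
    refine ⟨c, ?_⟩
    rw [← hc]
    show M.map g.op (M.map f x) = M.map (g ≫ f.unop).op x
    rw [← M.map_comp_apply]
    rfl

theorem mem_G_of_locally (X : Cᵒᵖ) (x : M.obj X) (S : Sieve X.unop) (hS : S ∈ J X.unop)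
    (h : ∀ ⦃Y : C⦄ (f : Y ⟶ X.unop), S f → M.map f.op x ∈ (G J M s).obj (op Y)) :
    x ∈ (G J M s).obj X := by
  choose T hT hc using h
  refine ⟨Sieve.bind S (fun Y f hf => T f hf), J.bind_covering hS (fun Y f hf => hT f hf), ?_⟩
  rintro Z g ⟨Y, g', f, hf, hg', rfl⟩
  obtain ⟨c, hc'⟩ := hc f hf g' hg'
  refine ⟨c, ?_⟩
  rw [← hc']
  show M.map (g' ≫ f).op x = M.map g'.op (M.map f.op x)
  rw [← M.map_comp_apply]
  rfl

/-- The sub-presheaf `G` of a sheaf is a sheaf (the condition defining it is local). -/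
theorem isSheaf_G (hM : Presheaf.IsSheaf J M.presheaf) :
    Presheaf.IsSheaf J (G J M s).toPresheafOfModules.presheaf := by
  intro E X S hS x hx
  have hsh := hM E S hS
  let P := (G J M s).toPresheafOfModules.presheaf
  let ι : P ⟶ M.presheaf := (PresheafOfModules.toPresheaf R₀).map (G J M s).ι
  have hx' := hx.map (Functor.whiskerRight ι (coyoneda.obj (op E)))
  let xx : ∀ ⦃Y : C⦄ (f : Y ⟶ X), S f → (E ⟶ P.obj (op Y)) := fun Y f hf => x f hf
  obtain ⟨t', ht'⟩ : ∃ t' : E ⟶ M.presheaf.obj (op X), ∀ ⦃Y : C⦄ (f : Y ⟶ X) (hf : S f),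
      t' ≫ M.presheaf.map f.op = xx f hf ≫ ι.app (op Y) :=
    ⟨hsh.amalgamate _ hx', fun Y f hf => hsh.valid_glue hx' f hf⟩
  have hval : ∀ ⦃Y : C⦄ (f : Y ⟶ X) (hf : S f) (e : E),
      M.map f.op (t' e) = ((xx f hf) e).1 :=
    fun Y f hf e => congr($(ht' f hf) e)
  have hmem : ∀ e : E, (t' e : M.obj (op X)) ∈ (G J M s).obj (op X) := by
    intro e
    refine mem_G_of_locally J M s (op X) _ S hS fun Y f hf => ?_
    rw [hval f hf e]
    exact ((xx f hf) e).2
  refine ⟨AddCommGrpCat.ofHom (AddMonoidHom.codRestrict t'.hom ((G J M s).obj (op X)) hmem),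
    ?_, ?_⟩
  · intro Y f hf
    apply AddCommGrpCat.hom_ext
    ext e
    apply Subtype.ext
    exact hval f hf e
  · intro t₂ ht₂
    let t₂' : E ⟶ P.obj (op X) := t₂
    have h1 : t₂' ≫ ι.app (op X) = t' := by
      refine hsh.isSeparatedFor.ext fun Y f hf => ?_
      refine Eq.trans ?_ (ht' f hf).symm
      apply AddCommGrpCat.hom_ext
      ext e
      have h2 : t₂' ≫ P.map f.op = xx f hf := ht₂ f hf
      exact congr(($h2 e).1)
    apply AddCommGrpCat.hom_ext
    ext e
    apply Subtype.ext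
    exact congr($h1 e)

end Pre

variable {J : GrothendieckTopology C} {R : Sheaf J RingCat.{u}}

/-- The sheaf of modules of sections of `N` which are locally finite combinations of the `s i`. -/
noncomputable def 𝒢 (N : SheafOfModules.{u} R) {I : Type u} (s : I → N.sections) :
    SheafOfModules.{u} R :=
  ⟨(G J N.val s).toPresheafOfModules, isSheaf_G J N.val s N.isSheaf⟩

/-- The inclusion `𝒢 N s ⟶ N`. -/
noncomputable def ι𝒢 (N : SheafOfModules.{u} R) {I : Type u} (s : I → N.sections) :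
    𝒢 N s ⟶ N :=
  ⟨(G J N.val s).ι⟩

instance (N : SheafOfModules.{u} R) {I : Type u} (s : I → N.sections) : Mono (ι𝒢 N s) := by
  haveI : Mono ((SheafOfModules.forget R).map (ι𝒢 N s)) :=
    (inferInstance : Mono (G J N.val s).ι)
  exact (SheafOfModules.forget R).mono_of_mono_map this

/-- The sections `s i` as sections of `𝒢 N s`. -/
noncomputable def lift𝒢 (N : SheafOfModules.{u} R) {I : Type u} (s : I → N.sections) (i : I) :
    (𝒢 N s).sections :=
  PresheafOfModules.sectionsMk
    (fun X => (⟨(s i).eval X, ⟨⊤, J.top_mem _, fun Y f _ => ⟨Finsupp.single i 1, by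
      have h1 : ((Finsupp.single i (1 : R.obj.obj (op Y))).sum
          fun i r => r • (s i).eval (op Y)) = (s i).eval (op Y) := by
        rw [Finsupp.sum_single_index (h := fun i r => r • (s i).eval (op Y)) (zero_smul _ _),
          one_smul]
      exact (PresheafOfModules.sections_property (s i) f.op).trans h1.symm⟩⟩⟩ :
        (G J N.val s).obj X))
    (fun X Y f => Subtype.ext (PresheafOfModules.sections_property (s i) f))

theorem exists_locally_finite_combination [HasSheafify J AddCommGrpCat.{u}]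
    [J.WEqualsLocallyBijective AddCommGrpCat.{u}] [J.HasSheafCompose (forget AddCommGrpCat.{u})]
    [Balanced (Sheaf J AddCommGrpCat.{u})] (N : SheafOfModules.{u} R) {I : Type u}
    (s : I → N.sections) [Epi (N.freeHomEquiv.symm s)] (X : C) (x : N.val.obj (op X)) :
    ∃ S ∈ J X, ∀ ⦃Y : C⦄ (f : Y ⟶ X), S f → ∃ c : I →₀ R.obj.obj (op Y),
      N.val.map f.op x = c.sum fun i r => r • (s i).eval (op Y) := by
  have hfac : (𝒢 N s).freeHomEquiv.symm (lift𝒢 N s) ≫ ι𝒢 N s = N.freeHomEquiv.symm s := by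
    rw [SheafOfModules.freeHomEquiv_symm_comp]
    congr 1
  haveI : Epi (ι𝒢 N s) := by
    haveI : Epi ((𝒢 N s).freeHomEquiv.symm (lift𝒢 N s) ≫ ι𝒢 N s) := by
      rw [hfac]; infer_instance
    exact epi_of_epi ((𝒢 N s).freeHomEquiv.symm (lift𝒢 N s)) (ι𝒢 N s)
  haveI : IsIso (ι𝒢 N s) := isIso_of_mono_of_epi (ι𝒢 N s)
  have h1 : inv (ι𝒢 N s) ≫ ι𝒢 N s = 𝟙 N := IsIso.inv_hom_id (ι𝒢 N s)
  have h2 : ((ι𝒢 N s).val.app (op X)) ((inv (ι𝒢 N s)).val.app (op X) x) = x :=
    congr(($h1).val.app (op X) x)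
  have hx : x ∈ (G J N.val s).obj (op X) := by
    rw [← h2]
    exact ((inv (ι𝒢 N s)).val.app (op X) x).2
  exact hx

end Groth.Agent.H75.QCBC_GEN
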