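import Mathlib

/-!
# (Dcore) for the S3220 squad: flat descent of "generated by one nonzerodivisor", locally at a prime

Elementary proof through the equational criterion of flatness.
-/

set_option autoImplicit false

universe u

open CategoryTheory CategoryTheory.Limits AlgebraicGeometry TopologicalSpace

namespace Groth.Agent.H75.RelDiv_Dcore

theorem exists_away_principal_nzd {A B : Type u} [CommRing A] [CommRing B] [IsNoetherianRing A]
    [Algebra A B] [Module.Flat A B] (I : Ideal A) (b : B) (hb : b ∈ nonZeroDivisors B)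
    (hI : I.map (algebraMap A B) = Ideal.span {b}) (𝔮 : Ideal B) [𝔮.IsPrime] :
    ∃ g : A, g ∉ 𝔮.comap (algebraMap A B) ∧ ∃ a' : Localization.Away g,
      a' ∈ nonZeroDivisors (Localization.Away g) ∧
      I.map (algebraMap A (Localization.Away g)) = Ideal.span {a'} := by
  classical
  have hbr : ∀ z : B, z * b = 0 → z = 0 := mem_nonZeroDivisors_iff_right.mp hb
  have hc : ∀ x ∈ I, ∃ c : B, c * b = algebraMap A B x := by
    intro x hx
    have hmem : algebraMap A B x ∈ Ideal.span {b} := hI ▸ Ideal.mem_map_of_mem _ hx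
    exact Ideal.mem_span_singleton'.mp hmem
  obtain ⟨s, hs⟩ := IsNoetherian.noetherian I
  have hsI : ∀ x ∈ s, x ∈ I := fun x hx => hs ▸ Ideal.subset_span hx
  -- some generator has coefficient outside `𝔮`
  obtain ⟨a, has, c, hca, hcq⟩ : ∃ a ∈ s, ∃ c : B, c * b = algebraMap A B a ∧ c ∉ 𝔮 := by
    by_contra hcon
    push Not at hcon
    have hle : I.map (algebraMap A B) ≤ 𝔮 * Ideal.span {b} := by
      rw [← hs, Ideal.map_span, Ideal.span_le]
      rintro _ ⟨x, hx, rfl⟩
      obtain ⟨c, hc'⟩ := hc x (hsI x hx)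
      rw [SetLike.mem_coe, ← hc']
      exact Ideal.mul_mem_mul (hcon x hx c hc') (Ideal.mem_span_singleton_self b)
    have hbm : b ∈ 𝔮 * Ideal.span {b} := hle (hI ▸ Ideal.mem_span_singleton_self b)
    obtain ⟨q, hq, hqb⟩ := Ideal.mem_mul_span_singleton.mp hbm
    have h0 : (q - 1) * b = 0 := by rw [sub_mul, hqb, one_mul, sub_self]
    have hq1 : q = 1 := sub_eq_zero.mp (hbr _ h0)
    exact (‹𝔮.IsPrime›.ne_top) ((Ideal.eq_top_iff_one _).mpr (hq1 ▸ hq))
  have haI : a ∈ I := hsI a has
  have hsum : ∀ (k : ℕ) (α : Fin k → A) (y : Fin k → B),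
      (∀ j, α j ∈ 𝔮.comap (algebraMap A B)) → ∑ j, α j • y j ∈ 𝔮 := by
    intro k α y hα
    refine Ideal.sum_mem _ fun j _ => ?_
    rw [Algebra.smul_def]
    exact Ideal.mul_mem_right _ _ (hα j)
  -- every element of `I` is a multiple of `a` up to a denominator outside `p`
  have h4 : ∀ x ∈ I, ∃ g : A, g ∉ 𝔮.comap (algebraMap A B) ∧ g * x ∈ Ideal.span {a} := by
    intro x hx
    obtain ⟨cx, hcx⟩ := hc x hx
    have hrel : ∑ i : Fin 2, (![x, -a] i) • (![c, cx] i) = (0 : B) := by
      rw [Fin.sum_univ_two]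
      show x • c + (-a) • cx = 0
      rw [Algebra.smul_def, Algebra.smul_def, map_neg, ← hcx, ← hca]
      ring
    obtain ⟨k, α, y, hxy, hαf⟩ := Module.Flat.isTrivialRelation_of_sum_smul_eq_zero
      (R := A) (M := B) (f := ![x, -a]) (x := ![c, cx]) hrel
    by_contra hcon
    push Not at hcon
    apply hcq
    have h0 : c = ∑ j, α 0 j • y j := hxy 0
    rw [h0]
    refine hsum k (α 0) y fun j => ?_
    by_contra hj
    apply hcon (α 0 j) hj
    have h1 := hαf j
    rw [Fin.sum_univ_two] at h1
    have h2 : x * α 0 j + (-a) * α 1 j = 0 := h1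
    rw [Ideal.mem_span_singleton']
    exact ⟨α 1 j, by linear_combination (-1 : A) * h2⟩
  -- every annihilator of `a` is killed by an element outside `p`
  have h5 : ∀ z : A, z * a = 0 → ∃ h : A, h ∉ 𝔮.comap (algebraMap A B) ∧ h * z = 0 := by
    intro z hz
    have hzc : algebraMap A B z * c = 0 := by
      apply hbr
      rw [mul_assoc, hca, ← map_mul, hz, map_zero]
    have hrel : ∑ i : Fin 1, ((fun _ => z : Fin 1 → A) i) • ((fun _ => c : Fin 1 → B) i) =
        (0 : B) := by
      rw [Fin.sum_univ_one]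
      show z • c = 0
      rw [Algebra.smul_def, hzc]
    obtain ⟨k, α, y, hxy, hαf⟩ := Module.Flat.isTrivialRelation_of_sum_smul_eq_zero
      (R := A) (M := B) (f := (fun _ => z : Fin 1 → A)) (x := (fun _ => c : Fin 1 → B)) hrel
    by_contra hcon
    push Not at hcon
    apply hcq
    have h0 : c = ∑ j, α 0 j • y j := hxy 0
    rw [h0]
    refine hsum k (α 0) y fun j => ?_
    by_contra hj
    apply hcon (α 0 j) hj
    have h1 := hαf j
    rw [Fin.sum_univ_one] at h1
    have h2 : z * α 0 j = 0 := h1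
    rw [mul_comm]
    exact h2
  -- the annihilator ideal of `a`
  let K : Ideal A :=
    { carrier := {z | z * a = 0}
      add_mem' := fun {x y} hx hy => by
        simp only [Set.mem_ofPred_eq] at hx hy ⊢
        rw [add_mul, hx, hy, add_zero]
      zero_mem' := by simp
      smul_mem' := fun r x hx => by
        simp only [Set.mem_ofPred_eq, smul_eq_mul] at hx ⊢
        rw [mul_assoc, hx, mul_zero] }
  obtain ⟨t, ht⟩ := IsNoetherian.noetherian K
  have htK : ∀ z ∈ t, z * a = 0 := fun z hz => by
    have hzK : z ∈ K := ht ▸ Ideal.subset_span hz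
    exact hzK
  choose! gx hgx1 hgx2 using h4
  choose! hz hhz1 hhz2 using h5
  refine ⟨(∏ x ∈ s, gx x) * (∏ z ∈ t, hz z), ?_, ?_⟩
  · intro hmem
    have hpp : (𝔮.comap (algebraMap A B)).IsPrime := inferInstance
    rcases hpp.mem_or_mem hmem with h | h
    · obtain ⟨x, hx, hxp⟩ := (Ideal.IsPrime.prod_mem_iff).mp h
      exact hgx1 x (hsI x hx) hxp
    · obtain ⟨z, hzt, hzp⟩ := (Ideal.IsPrime.prod_mem_iff).mp h
      exact hhz1 z (htK z hzt) hzp
  · set g := (∏ x ∈ s, gx x) * (∏ z ∈ t, hz z) with hg
    have hgu : IsUnit (algebraMap A (Localization.Away g) g) :=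
      IsLocalization.Away.algebraMap_isUnit g
    have hdvd1 : ∀ x ∈ s, gx x ∣ g := fun x hx =>
      (Finset.dvd_prod_of_mem gx hx).mul_right _
    have hdvd2 : ∀ z ∈ t, hz z ∣ g := fun z hzt =>
      (Finset.dvd_prod_of_mem hz hzt).mul_left _
    have hK : ∀ k ∈ K, g * k = 0 := by
      intro k hk
      rw [← ht] at hk
      induction hk using Submodule.span_induction with
      | mem z hzt =>
        obtain ⟨e, he⟩ := hdvd2 z hzt
        rw [he, mul_comm (hz z) e, mul_assoc, hhz2 z (htK z hzt), mul_zero]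
      | zero => exact mul_zero g
      | add x y _ _ hx hy => rw [mul_add, hx, hy, add_zero]
      | smul r x _ hx => rw [smul_eq_mul, mul_left_comm, hx, mul_zero]
    refine ⟨algebraMap A (Localization.Away g) a, ?_, ?_⟩
    · rw [mem_nonZeroDivisors_iff_right]
      intro w hw
      obtain ⟨z, m, rfl⟩ := IsLocalization.exists_mk'_eq (Submonoid.powers g) w
      rw [IsLocalization.mk'_eq_zero_iff]
      have h1 : algebraMap A (Localization.Away g) (z * a) = 0 := by
        rw [map_mul, ← IsLocalization.mk'_spec (Localization.Away g) z m, mul_right_comm, hw,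
          zero_mul]
      obtain ⟨m', hm'⟩ := (IsLocalization.map_eq_zero_iff (Submonoid.powers g)
        (Localization.Away g) (z * a)).mp h1
      have hmem : (m' : A) * z ∈ K := by
        show (m' : A) * z * a = 0
        rw [mul_assoc]
        exact hm'
      refine ⟨⟨g, Submonoid.mem_powers g⟩ * m', ?_⟩
      show g * (m' : A) * z = 0
      rw [mul_assoc]
      exact hK _ hmem
    · apply le_antisymm
      · rw [← hs, Ideal.map_span, Ideal.span_le]
        rintro _ ⟨x, hx, rfl⟩
        obtain ⟨r, hr⟩ := Ideal.mem_span_singleton'.mp (hgx2 x (hsI x hx))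
        have hu : IsUnit (algebraMap A (Localization.Away g) (gx x)) :=
          isUnit_of_dvd_unit (map_dvd (algebraMap A (Localization.Away g)) (hdvd1 x hx)) hgu
        rw [SetLike.mem_coe, ← Ideal.unit_mul_mem_iff_mem _ hu, ← map_mul, ← hr, map_mul]
        exact Ideal.mem_span_singleton'.mpr ⟨_, rfl⟩
      · rw [Ideal.span_singleton_le_iff_mem]
        exact Ideal.mem_map_of_mem _ haI

end Groth.Agent.H75.RelDiv_Dcore
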