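import Mathlib
import Groth.Prelude.Def_W4c2movlemaddchowShuffle

set_option autoImplicit false

namespace Groth.Agent.H75.Shuffle

open Equiv W4c2movlemaddchow

theorem perm_eq_one_of_strictMono {a : ℕ} (ρ : Perm (Fin a)) (h : StrictMono ρ) : ρ = 1 :=
  Equiv.ext fun _ => le_antisymm h.apply_le h.le_apply

theorem sub_block_mono {a N b : ℕ} (e : Fin a → Fin N) (he : Function.Injective e)
    (ν : Perm (Fin N)) (ρ : Perm (Fin a)) (hρ : Monotone (fun x => ν (e (ρ x))))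
    (c : Fin b → Fin a) (hc : Monotone (fun i => ν (e (c i)))) :
    Monotone (fun i => ρ⁻¹ (c i)) := by
  intro i i' hii
  by_contra hlt
  have hlt' : ρ⁻¹ (c i') < ρ⁻¹ (c i) := not_le.mp hlt
  have h1 := hρ hlt'.le
  simp only [Equiv.Perm.inv_def, Equiv.apply_symm_apply] at h1
  have h2 : ν (e (c i)) ≤ ν (e (c i')) := hc hii
  have h3 : ν (e (c i)) = ν (e (c i')) := le_antisymm h2 h1
  have h4 : c i = c i' := he (ν.injective h3)
  rw [h4] at hlt'
  exact lt_irrefl _ hlt'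

theorem bij_abstract {a N b₁ b₂ b₃ : ℕ} (e : Fin a → Fin N) (he : Function.Injective e)
    (E : Perm (Fin a) → Perm (Fin N)) (hmul : ∀ ρ₁ ρ₂, E (ρ₁ * ρ₂) = E ρ₁ * E ρ₂)
    (hE : ∀ ρ x, E ρ (e x) = e (ρ x))
    (c₁ : Fin b₁ → Fin a) (c₂ : Fin b₂ → Fin a) (c₃ : Fin b₃ → Fin N)
    (hfix : ∀ ρ l, E ρ (c₃ l) = c₃ l) :
    Set.BijOn (fun p : Perm (Fin N) × Perm (Fin a) => p.1 * E p.2)
      ({τ | Monotone (fun x => τ (e x)) ∧ Monotone (fun l => τ (c₃ l))} ×ˢ
        {σ | Monotone (fun i => σ (c₁ i)) ∧ Monotone (fun j => σ (c₂ j))})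
      {ν | Monotone (fun i => ν (e (c₁ i))) ∧ Monotone (fun j => ν (e (c₂ j))) ∧
        Monotone (fun l => ν (c₃ l))} := by
  have hone : E 1 = 1 := by
    have h := hmul 1 1
    rw [mul_one] at h
    have h' : E 1 * E 1 = E 1 * 1 := by rw [mul_one]; exact h.symm
    exact mul_left_cancel h'
  have hinv : ∀ ρ, E ρ⁻¹ = (E ρ)⁻¹ := by
    intro ρ
    apply eq_inv_of_mul_eq_one_left
    rw [← hmul, inv_mul_cancel, hone]
  refine ⟨?_, ?_, ?_⟩
  · rintro ⟨τ, σ⟩ hp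
    obtain ⟨⟨hτ1, hτ3⟩, ⟨hσ1, hσ2⟩⟩ := Set.mem_prod.mp hp
    refine ⟨?_, ?_, ?_⟩
    · intro i i' hii
      show (τ * E σ) (e (c₁ i)) ≤ (τ * E σ) (e (c₁ i'))
      rw [Perm.mul_apply, Perm.mul_apply, hE, hE]
      exact hτ1 (hσ1 hii)
    · intro i i' hii
      show (τ * E σ) (e (c₂ i)) ≤ (τ * E σ) (e (c₂ i'))
      rw [Perm.mul_apply, Perm.mul_apply, hE, hE]
      exact hτ1 (hσ2 hii)
    · intro l l' hll
      show (τ * E σ) (c₃ l) ≤ (τ * E σ) (c₃ l')
      rw [Perm.mul_apply, Perm.mul_apply, hfix, hfix]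
      exact hτ3 hll
  · rintro ⟨τ₁, σ₁⟩ hp₁ ⟨τ₂, σ₂⟩ hp₂ h
    obtain ⟨⟨hτ1, -⟩, -⟩ := Set.mem_prod.mp hp₁
    obtain ⟨⟨hτ2, -⟩, -⟩ := Set.mem_prod.mp hp₂
    have h' : τ₁ * E σ₁ = τ₂ * E σ₂ := h
    have hs1 : StrictMono (fun x => τ₁ (e x)) :=
      hτ1.strictMono_of_injective (τ₁.injective.comp he)
    have hs2 : StrictMono (fun x => τ₂ (e x)) :=
      hτ2.strictMono_of_injective (τ₂.injective.comp he)
    have h3 : τ₁ = τ₂ * E (σ₂ * σ₁⁻¹) := by
      rw [hmul, hinv, ← mul_assoc, ← h', mul_assoc, mul_inv_cancel, mul_one]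
    have e1 : ∀ y, τ₁ (e y) = τ₂ (e ((σ₂ * σ₁⁻¹) y)) := by
      intro y
      calc τ₁ (e y) = (τ₂ * E (σ₂ * σ₁⁻¹)) (e y) := by rw [← h3]
        _ = τ₂ (e ((σ₂ * σ₁⁻¹) y)) := by rw [Perm.mul_apply, hE]
    have hρ : StrictMono (σ₂ * σ₁⁻¹ : Perm (Fin a)) := by
      intro x x' hxx
      have h4 : τ₁ (e x) < τ₁ (e x') := hs1 hxx
      rw [e1, e1] at h4
      exact hs2.lt_iff_lt.mp h4
    have h5 := perm_eq_one_of_strictMono _ hρ
    have h6 : σ₂ = σ₁ := by rwa [mul_inv_eq_one] at h5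
    have h7 : τ₁ = τ₂ := by rw [h3, h5, hone, mul_one]
    rw [h7, h6]
  · rintro ν ⟨hν1, hν2, hν3⟩
    obtain ⟨ρ, hρ⟩ : ∃ ρ : Perm (Fin a), Monotone (fun x => ν (e (ρ x))) :=
      ⟨Tuple.sort (fun x => ν (e x)), Tuple.monotone_sort (fun x => ν (e x))⟩
    refine ⟨(ν * E ρ, ρ⁻¹), Set.mem_prod.mpr ⟨⟨?_, ?_⟩, ⟨?_, ?_⟩⟩, ?_⟩
    · intro x x' hxx
      show (ν * E ρ) (e x) ≤ (ν * E ρ) (e x')
      rw [Perm.mul_apply, Perm.mul_apply, hE, hE]
      exact hρ hxx
    · intro l l' hll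
      show (ν * E ρ) (c₃ l) ≤ (ν * E ρ) (c₃ l')
      rw [Perm.mul_apply, Perm.mul_apply, hfix, hfix]
      exact hν3 hll
    · exact sub_block_mono e he ν ρ hρ c₁ hν1
    · exact sub_block_mono e he ν ρ hρ c₂ hν2
    · show ν * E ρ * E ρ⁻¹ = ν
      rw [mul_assoc, ← hmul, mul_inv_cancel, hone, mul_one]

/-! ### extRight -/

theorem extRight_castAdd (a t : ℕ) (σ : Perm (Fin a)) (x : Fin a) :
    extRight a t σ (Fin.castAdd t x) = Fin.castAdd t (σ x) := by
  simp [extRight]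

theorem extRight_natAdd (a t : ℕ) (σ : Perm (Fin a)) (l : Fin t) :
    extRight a t σ (Fin.natAdd a l) = Fin.natAdd a l := by
  simp [extRight]

theorem extRight_mul (a t : ℕ) (σ ρ : Perm (Fin a)) :
    extRight a t (σ * ρ) = extRight a t σ * extRight a t ρ := by
  apply Equiv.ext
  intro x
  refine Fin.addCases (fun i => ?_) (fun j => ?_) x
  · rw [Perm.mul_apply, extRight_castAdd, extRight_castAdd, extRight_castAdd, Perm.mul_apply]
  · rw [Perm.mul_apply, extRight_natAdd, extRight_natAdd, extRight_natAdd]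

theorem sign_extRight (a t : ℕ) (σ : Perm (Fin a)) :
    Perm.sign (extRight a t σ) = Perm.sign σ := by
  unfold extRight
  rw [Perm.sign_permCongr, Perm.sign_sumCongr, Perm.sign_refl, mul_one]

/-! ### extLeft -/

/-- the last block of size `s + t` inside `Fin (r + s + t)` -/
def eL (r s t : ℕ) (j : Fin (s + t)) : Fin (r + s + t) :=
  (finCongr (Nat.add_assoc r s t)).symm (Fin.natAdd r j)

/-- the first block of size `r` inside `Fin (r + s + t)` -/
def cL (r s t : ℕ) (i : Fin r) : Fin (r + s + t) :=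
  (finCongr (Nat.add_assoc r s t)).symm (Fin.castAdd (s + t) i)

theorem eL_injective (r s t : ℕ) : Function.Injective (eL r s t) := by
  intro a b h
  have h1 : (eL r s t a).val = (eL r s t b).val := congrArg Fin.val h
  have h2 : r + a.val = r + b.val := h1
  exact Fin.ext (Nat.add_left_cancel h2)

theorem cL_eq (r s t : ℕ) (i : Fin r) : cL r s t i = Fin.castAdd t (Fin.castAdd s i) :=
  Fin.ext rfl

theorem eL_castAdd (r s t : ℕ) (j : Fin s) :
    eL r s t (Fin.castAdd t j) = Fin.castAdd t (Fin.natAdd r j) :=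
  Fin.ext rfl

theorem eL_natAdd (r s t : ℕ) (l : Fin t) :
    eL r s t (Fin.natAdd s l) = Fin.natAdd (r + s) l :=
  Fin.ext (Nat.add_assoc r s l.val).symm

theorem extLeft_eL (r s t : ℕ) (σ : Perm (Fin (s + t))) (j : Fin (s + t)) :
    extLeft r s t σ (eL r s t j) = eL r s t (σ j) := by
  simp [extLeft, eL]

theorem extLeft_cL (r s t : ℕ) (σ : Perm (Fin (s + t))) (i : Fin r) :
    extLeft r s t σ (cL r s t i) = cL r s t i := by
  simp [extLeft, cL]

theorem extLeft_mul (r s t : ℕ) (σ ρ : Perm (Fin (s + t))) :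
    extLeft r s t (σ * ρ) = extLeft r s t σ * extLeft r s t ρ := by
  apply Equiv.ext
  intro x
  obtain ⟨y, rfl⟩ := (finCongr (Nat.add_assoc r s t)).symm.surjective x
  refine Fin.addCases (fun i => ?_) (fun j => ?_) y
  · show extLeft r s t (σ * ρ) (cL r s t i) = (extLeft r s t σ * extLeft r s t ρ) (cL r s t i)
    rw [Perm.mul_apply, extLeft_cL, extLeft_cL, extLeft_cL]
  · show extLeft r s t (σ * ρ) (eL r s t j) = (extLeft r s t σ * extLeft r s t ρ) (eL r s t j)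
    rw [Perm.mul_apply, extLeft_eL, extLeft_eL, extLeft_eL, Perm.mul_apply]

theorem sign_extLeft (r s t : ℕ) (σ : Perm (Fin (s + t))) :
    Perm.sign (extLeft r s t σ) = Perm.sign σ := by
  unfold extLeft
  rw [Perm.sign_permCongr, Perm.sign_permCongr, Perm.sign_sumCongr, Perm.sign_refl, one_mul]

/-! ### the two bijections -/

theorem bij_right (r s t : ℕ) :
    Set.BijOn
      (fun p : Equiv.Perm (Fin (r + s + t)) × Equiv.Perm (Fin (r + s)) =>
        p.1 * W4c2movlemaddchow.extRight (r + s) t p.2)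
      ({τ | W4c2movlemaddchow.IsShuffle₂ (r + s) t τ} ×ˢ {σ | W4c2movlemaddchow.IsShuffle₂ r s σ})
      {ν | W4c2movlemaddchow.IsShuffle₃ r s t ν} :=
  bij_abstract (Fin.castAdd t : Fin (r + s) → Fin (r + s + t)) (Fin.castAdd_injective _ _)
    (extRight (r + s) t) (extRight_mul _ _) (extRight_castAdd _ _)
    (Fin.castAdd s : Fin r → Fin (r + s)) (Fin.natAdd r : Fin s → Fin (r + s))
    (Fin.natAdd (r + s) : Fin t → Fin (r + s + t)) (extRight_natAdd _ _)

theorem shuffle₂_conj_iff (r s t : ℕ) (τ : Perm (Fin (r + s + t))) :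
    IsShuffle₂ r (s + t) ((finCongr (Nat.add_assoc r s t)).permCongr τ) ↔
      (Monotone (fun x => τ (eL r s t x)) ∧ Monotone (fun l => τ (cL r s t l))) := by
  have hcast : ∀ a b : Fin (r + s + t),
      finCongr (Nat.add_assoc r s t) a ≤ finCongr (Nat.add_assoc r s t) b ↔ a ≤ b :=
    fun a b => Iff.rfl
  constructor
  · rintro ⟨h1, h2⟩
    refine ⟨fun a b hab => ?_, fun a b hab => ?_⟩
    · exact (hcast (τ (eL r s t a)) (τ (eL r s t b))).mp (h2 hab)
    · exact (hcast (τ (cL r s t a)) (τ (cL r s t b))).mp (h1 hab)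
  · rintro ⟨h2, h1⟩
    refine ⟨fun a b hab => ?_, fun a b hab => ?_⟩
    · exact (hcast (τ (cL r s t a)) (τ (cL r s t b))).mpr (h1 hab)
    · exact (hcast (τ (eL r s t a)) (τ (eL r s t b))).mpr (h2 hab)

theorem shuffle₃_iff (r s t : ℕ) (ν : Perm (Fin (r + s + t))) :
    IsShuffle₃ r s t ν ↔
      (Monotone (fun i : Fin s => ν (eL r s t (Fin.castAdd t i))) ∧
        Monotone (fun j : Fin t => ν (eL r s t (Fin.natAdd s j))) ∧
        Monotone (fun l : Fin r => ν (cL r s t l))) := by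
  unfold IsShuffle₃
  simp only [eL_castAdd, eL_natAdd, cL_eq]
  tauto

theorem bij_left (r s t : ℕ) :
    Set.BijOn
      (fun p : Equiv.Perm (Fin (r + s + t)) × Equiv.Perm (Fin (s + t)) =>
        p.1 * W4c2movlemaddchow.extLeft r s t p.2)
      ({τ | W4c2movlemaddchow.IsShuffle₂ r (s + t)
          ((finCongr (Nat.add_assoc r s t)).permCongr τ)} ×ˢ
        {σ | W4c2movlemaddchow.IsShuffle₂ s t σ})
      {ν | W4c2movlemaddchow.IsShuffle₃ r s t ν} := by
  have h := bij_abstract (eL r s t) (eL_injective r s t) (extLeft r s t) (extLeft_mul r s t)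
    (extLeft_eL r s t) (Fin.castAdd t : Fin s → Fin (s + t)) (Fin.natAdd s : Fin t → Fin (s + t))
    (cL r s t) (extLeft_cL r s t)
  have hS : {τ : Perm (Fin (r + s + t)) | W4c2movlemaddchow.IsShuffle₂ r (s + t)
      ((finCongr (Nat.add_assoc r s t)).permCongr τ)} =
      {τ | Monotone (fun x => τ (eL r s t x)) ∧ Monotone (fun l => τ (cL r s t l))} := by
    ext τ
    exact shuffle₂_conj_iff r s t τ
  have hU : {ν : Perm (Fin (r + s + t)) | W4c2movlemaddchow.IsShuffle₃ r s t ν} =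
      {ν | Monotone (fun i : Fin s => ν (eL r s t (Fin.castAdd t i))) ∧
        Monotone (fun j : Fin t => ν (eL r s t (Fin.natAdd s j))) ∧
        Monotone (fun l : Fin r => ν (cL r s t l))} := by
    ext ν
    exact shuffle₃_iff r s t ν
  rw [hS, hU]
  exact h

/-! ### signed sums -/

theorem sum_of_bijOn {a N : ℕ} (E : Perm (Fin a) → Perm (Fin N))
    (P : Perm (Fin N) → Prop) (Q : Perm (Fin a) → Prop) (U : Perm (Fin N) → Prop)
    [DecidablePred P] [DecidablePred Q] [DecidablePred U]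
    (hbij : Set.BijOn (fun p : Perm (Fin N) × Perm (Fin a) => p.1 * E p.2)
      ({τ | P τ} ×ˢ {σ | Q σ}) {ν | U ν})
    (hsign : ∀ σ, Perm.sign (E σ) = Perm.sign σ) :
    (∑ ν ∈ Finset.univ.filter U, MonoidAlgebra.single ν (((Perm.sign ν : ℤˣ) : ℤ)) :
        MonoidAlgebra ℤ (Perm (Fin N))) =
      ∑ τ ∈ Finset.univ.filter P, ∑ σ ∈ Finset.univ.filter Q,
        MonoidAlgebra.single (τ * E σ)
          (((Perm.sign τ : ℤˣ) : ℤ) * ((Perm.sign σ : ℤˣ) : ℤ)) := by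
  rw [← Finset.sum_product']
  symm
  refine Finset.sum_nbij (fun p => p.1 * E p.2) ?_ ?_ ?_ ?_
  · intro p hp
    rw [Finset.mem_product, Finset.mem_filter, Finset.mem_filter] at hp
    rw [Finset.mem_filter]
    exact ⟨Finset.mem_univ _, hbij.mapsTo (Set.mem_prod.mpr ⟨hp.1.2, hp.2.2⟩)⟩
  · intro p hp p' hp' h
    rw [Finset.mem_coe, Finset.mem_product, Finset.mem_filter, Finset.mem_filter] at hp hp'
    exact hbij.injOn (Set.mem_prod.mpr ⟨hp.1.2, hp.2.2⟩) (Set.mem_prod.mpr ⟨hp'.1.2, hp'.2.2⟩) h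
  · intro ν hν
    rw [Finset.mem_coe, Finset.mem_filter] at hν
    obtain ⟨p, hp, hpν⟩ := hbij.surjOn hν.2
    refine ⟨p, ?_, hpν⟩
    rw [Finset.mem_coe, Finset.mem_product, Finset.mem_filter, Finset.mem_filter]
    exact ⟨⟨Finset.mem_univ _, (Set.mem_prod.mp hp).1⟩, ⟨Finset.mem_univ _, (Set.mem_prod.mp hp).2⟩⟩
  · intro p _
    show MonoidAlgebra.single (p.1 * E p.2) _ =
      MonoidAlgebra.single (p.1 * E p.2) (((Perm.sign (p.1 * E p.2) : ℤˣ) : ℤ))
    rw [Perm.sign_mul, hsign, Units.val_mul]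

end Groth.Agent.H75.Shuffle
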