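import Mathlib

/-!
Helper lemmas (helper75): leading coefficient of a polynomial after the translation
`x_i ↦ x_i + g_i t^N`.
-/

set_option autoImplicit false
universe u v

namespace Groth.Agent.H75.Translate

open Polynomial

theorem top_component_ne_zero {σ : Type*} {R : Type*} [CommSemiring R] {a : MvPolynomial σ R}
    (ha : a ≠ 0) : MvPolynomial.homogeneousComponent a.totalDegree a ≠ 0 := by
  classical
  have hs : a.support.Nonempty := MvPolynomial.support_nonempty.mpr ha
  obtain ⟨α, hα, hαd⟩ := Finset.exists_mem_eq_sup a.support hs (fun s => s.sum fun _ e => e)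
  intro h0
  have h1 : MvPolynomial.coeff α (MvPolynomial.homogeneousComponent a.totalDegree a) = 0 := by
    rw [h0, MvPolynomial.coeff_zero]
  have h2 : α.degree = a.totalDegree := by
    rw [Finsupp.degree_apply]
    exact hαd.symm
  rw [MvPolynomial.coeff_homogeneousComponent, if_pos h2] at h1
  exact (MvPolynomial.mem_support_iff.mp hα) h1

theorem natDegree_prod_le_and_coeff {S : Type*} [CommRing S] {ι : Type*} (T : Finset ι)
    (P : ι → S[X]) (n : ι → ℕ) (h : ∀ i ∈ T, (P i).natDegree ≤ n i) :
    (∏ i ∈ T, P i).natDegree ≤ ∑ i ∈ T, n i ∧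
      (∏ i ∈ T, P i).coeff (∑ i ∈ T, n i) = ∏ i ∈ T, (P i).coeff (n i) := by
  classical
  induction T using Finset.induction_on with
  | empty => simp
  | insert a T ha ih =>
    have h1 := h a (Finset.mem_insert_self a T)
    obtain ⟨ih1, ih2⟩ := ih (fun i hi => h i (Finset.mem_insert_of_mem hi))
    rw [Finset.prod_insert ha, Finset.sum_insert ha, Finset.prod_insert ha]
    exact ⟨natDegree_mul_le_of_le h1 ih1, by rw [coeff_mul_add_eq_of_natDegree_le h1 ih1, ih2]⟩

/-- the substitution `x_i ↦ x_i + g_i t^N`. -/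
noncomputable def Psi {k : Type u} [Field k] (r : ℕ) (K : Type v) [Field K] [Algebra k K]
    (g : Fin r → K) (N : ℕ) :
    MvPolynomial (Fin r) k →ₐ[k] Polynomial (MvPolynomial (Fin r) K) :=
  MvPolynomial.aeval (fun i : Fin r =>
    Polynomial.C (MvPolynomial.X i) + Polynomial.C (MvPolynomial.C (g i)) * Polynomial.X ^ N)

section
variable {k : Type u} [Field k] {r : ℕ} {K : Type v} [Field K] [Algebra k K] (g : Fin r → K)

theorem psi_monomial (α : Fin r →₀ ℕ) (c : k) :
    (Psi r K g 1 (MvPolynomial.monomial α c)).natDegree ≤ α.degree ∧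
    (Psi r K g 1 (MvPolynomial.monomial α c)).coeff α.degree =
      MvPolynomial.C (algebraMap k K c * α.prod (fun i n => g i ^ n)) := by
  have hlin : ∀ i : Fin r, (Polynomial.C (MvPolynomial.X i) +
      Polynomial.C (MvPolynomial.C (g i)) * Polynomial.X ^ 1 :
      Polynomial (MvPolynomial (Fin r) K)).natDegree ≤ 1 := by
    intro i
    refine natDegree_add_le_of_degree_le ?_ ?_
    · rw [natDegree_C]; exact Nat.zero_le _
    · rw [pow_one]
      exact (natDegree_C_mul_le _ _).trans natDegree_X_le
  have hc1 : ∀ i : Fin r, (Polynomial.C (MvPolynomial.X i) +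
      Polynomial.C (MvPolynomial.C (g i)) * Polynomial.X ^ 1 :
      Polynomial (MvPolynomial (Fin r) K)).coeff 1 = MvPolynomial.C (g i) := by
    intro i
    simp
  obtain ⟨h1, h2⟩ := natDegree_prod_le_and_coeff α.support
    (fun i => (Polynomial.C (MvPolynomial.X i) +
      Polynomial.C (MvPolynomial.C (g i)) * Polynomial.X ^ 1 :
      Polynomial (MvPolynomial (Fin r) K)) ^ α i) (fun i => α i)
    (fun i _ => by simpa using natDegree_pow_le_of_le (α i) (hlin i))
  have hval : Psi r K g 1 (MvPolynomial.monomial α c) =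
      Polynomial.C (MvPolynomial.C (algebraMap k K c)) *
      ∏ i ∈ α.support, (Polynomial.C (MvPolynomial.X i) +
      Polynomial.C (MvPolynomial.C (g i)) * Polynomial.X ^ 1 :
      Polynomial (MvPolynomial (Fin r) K)) ^ α i := by
    unfold Psi
    rw [MvPolynomial.aeval_monomial, Finsupp.prod, Polynomial.algebraMap_apply,
      MvPolynomial.algebraMap_apply]
  rw [hval, Finsupp.degree_apply]
  refine ⟨le_trans (natDegree_C_mul_le _ _) h1, ?_⟩
  rw [coeff_C_mul, h2, Finsupp.prod, map_mul, map_prod]
  congr 1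
  refine Finset.prod_congr rfl (fun i _ => ?_)
  have h3 := coeff_pow_of_natDegree_le (m := α i) (hlin i)
  rw [mul_one] at h3
  rw [h3, hc1, map_pow]

theorem psi_coeff (a : MvPolynomial (Fin r) k) (e : ℕ) (hae : a.totalDegree ≤ e) :
    (Psi r K g 1 a).natDegree ≤ e ∧
    (Psi r K g 1 a).coeff e =
      MvPolynomial.C (MvPolynomial.aeval g (MvPolynomial.homogeneousComponent e a)) := by
  classical
  have hsum : Psi r K g 1 a =
      ∑ α ∈ a.support, Psi r K g 1 (MvPolynomial.monomial α (MvPolynomial.coeff α a)) := by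
    conv_lhs => rw [a.as_sum]
    rw [map_sum]
  have hmono : ∀ α ∈ a.support,
      (Psi r K g 1 (MvPolynomial.monomial α (MvPolynomial.coeff α a))).natDegree ≤ e ∧
      (Psi r K g 1 (MvPolynomial.monomial α (MvPolynomial.coeff α a))).coeff e =
        if α.degree = e then MvPolynomial.C (algebraMap k K (MvPolynomial.coeff α a) *
          α.prod (fun i n => g i ^ n)) else 0 := by
    intro α hα
    obtain ⟨h1, h2⟩ := psi_monomial g α (MvPolynomial.coeff α a)
    have hle : α.degree ≤ e := by
      refine le_trans ?_ hae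
      have := MvPolynomial.le_totalDegree hα
      rw [Finsupp.degree_apply]
      exact this
    refine ⟨le_trans h1 hle, ?_⟩
    by_cases hαe : α.degree = e
    · rw [if_pos hαe, ← hαe, h2]
    · rw [if_neg hαe]
      exact coeff_eq_zero_of_natDegree_lt (lt_of_le_of_lt h1 (lt_of_le_of_ne hle hαe))
  constructor
  · rw [hsum]
    exact natDegree_sum_le_of_forall_le _ _ (fun α hα => (hmono α hα).1)
  · rw [hsum, finsetSum_coeff, MvPolynomial.homogeneousComponent_apply, map_sum, map_sum,
      Finset.sum_filter]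
    refine Finset.sum_congr rfl (fun α hα => ?_)
    rw [(hmono α hα).2]
    by_cases hαe : α.degree = e
    · rw [if_pos hαe, if_pos hαe, MvPolynomial.aeval_monomial]
    · rw [if_neg hαe, if_neg hαe]

theorem psi_expand (N : ℕ) (a : MvPolynomial (Fin r) k) :
    Psi r K g N a = Polynomial.expand (MvPolynomial (Fin r) K) N (Psi r K g 1 a) := by
  have h : ((Psi r K g N : MvPolynomial (Fin r) k →ₐ[k] Polynomial (MvPolynomial (Fin r) K)) :
      MvPolynomial (Fin r) k →+* Polynomial (MvPolynomial (Fin r) K)) =
      ((Polynomial.expand (MvPolynomial (Fin r) K) N :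
        Polynomial (MvPolynomial (Fin r) K) →ₐ[MvPolynomial (Fin r) K]
          Polynomial (MvPolynomial (Fin r) K)) :
        Polynomial (MvPolynomial (Fin r) K) →+* Polynomial (MvPolynomial (Fin r) K)).comp
      ((Psi r K g 1 : MvPolynomial (Fin r) k →ₐ[k] Polynomial (MvPolynomial (Fin r) K)) :
        MvPolynomial (Fin r) k →+* Polynomial (MvPolynomial (Fin r) K)) := by
    apply MvPolynomial.ringHom_ext
    · intro c
      simp [Psi, Polynomial.algebraMap_apply, MvPolynomial.algebraMap_apply]
    · intro i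
      simp [Psi]
  exact RingHom.congr_fun h a

end

theorem core {k : Type u} [Field k] (r m : ℕ) (f : Polynomial (MvPolynomial (Fin r) k))
    (hf : f ≠ 0) :
    ∃ (h : MvPolynomial (Fin r) k) (d jstar : ℕ), h ≠ 0 ∧
      (∀ j, (f.coeff j).totalDegree ≤ d) ∧
      (∀ j, jstar < j → MvPolynomial.homogeneousComponent d (f.coeff j) = 0) ∧
      ∀ s : ℕ, f.natDegree + 1 ≤ s → ∀ (K : Type v) [Field K] [Algebra k K] (g : Fin r → K),
        MvPolynomial.aeval g h ≠ 0 →
        (Polynomial.eval₂ (Psi r K g (s * (m + 1))).toRingHom Polynomial.X f).natDegree =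
          s * (m + 1) * d + jstar ∧
        (Polynomial.eval₂ (Psi r K g (s * (m + 1))).toRingHom Polynomial.X f).leadingCoeff =
          MvPolynomial.C (MvPolynomial.aeval g h) := by
  classical
  obtain ⟨d, hd⟩ : ∃ d, d = f.support.sup (fun j => (f.coeff j).totalDegree) := ⟨_, rfl⟩
  have hdeg : ∀ j, (f.coeff j).totalDegree ≤ d := by
    intro j
    by_cases hj : j ∈ f.support
    · rw [hd]
      exact Finset.le_sup (f := fun j => (f.coeff j).totalDegree) hj
    · rw [Polynomial.notMem_support_iff.mp hj, MvPolynomial.totalDegree_zero]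
      exact Nat.zero_le _
  have hsupp : f.support.Nonempty := Polynomial.support_nonempty.mpr hf
  obtain ⟨j0, hj0, hj0d⟩ := Finset.exists_mem_eq_sup f.support hsupp
    (fun j => (f.coeff j).totalDegree)
  have hj0ne : MvPolynomial.homogeneousComponent d (f.coeff j0) ≠ 0 := by
    rw [hd, hj0d]
    exact top_component_ne_zero (Polynomial.mem_support_iff.mp hj0)
  have hJ : (f.support.filter
      (fun j => MvPolynomial.homogeneousComponent d (f.coeff j) ≠ 0)).Nonempty :=
    ⟨j0, Finset.mem_filter.mpr ⟨hj0, hj0ne⟩⟩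
  obtain ⟨jstar, hjstar⟩ : ∃ jstar, jstar = (f.support.filter
      (fun j => MvPolynomial.homogeneousComponent d (f.coeff j) ≠ 0)).max' hJ := ⟨_, rfl⟩
  have hjs_mem : jstar ∈ f.support.filter
      (fun j => MvPolynomial.homogeneousComponent d (f.coeff j) ≠ 0) := by
    rw [hjstar]; exact Finset.max'_mem _ hJ
  obtain ⟨hjs1, hjs2⟩ := Finset.mem_filter.mp hjs_mem
  have hgt : ∀ j, jstar < j → MvPolynomial.homogeneousComponent d (f.coeff j) = 0 := by
    intro j hj
    by_contra hne
    have hjsupp : j ∈ f.support := by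
      by_contra hns
      rw [Polynomial.notMem_support_iff.mp hns, map_zero] at hne
      exact hne rfl
    have hjJ : j ∈ f.support.filter
        (fun j => MvPolynomial.homogeneousComponent d (f.coeff j) ≠ 0) :=
      Finset.mem_filter.mpr ⟨hjsupp, hne⟩
    have hle := Finset.le_max' _ j hjJ
    rw [← hjstar] at hle
    omega
  refine ⟨MvPolynomial.homogeneousComponent d (f.coeff jstar), d, jstar, hjs2, hdeg, hgt, ?_⟩
  intro s hs K _ _ g hg
  obtain ⟨N, hN⟩ : ∃ N, N = s * (m + 1) := ⟨_, rfl⟩
  rw [← hN]
  have hsN : s ≤ N := by rw [hN]; exact Nat.le_mul_of_pos_right s (Nat.succ_pos m)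
  have hNf : f.natDegree < N := by omega
  have hN0 : 0 < N := by omega
  have hjlt : ∀ j ∈ f.support, j < N := fun j hj =>
    lt_of_le_of_lt (Polynomial.le_natDegree_of_mem_supp j hj) hNf
  have hcoeff : ∀ n, (Polynomial.eval₂ (Psi r K g N).toRingHom Polynomial.X f).coeff n =
      ∑ j ∈ f.support, if j ≤ n then (if N ∣ (n - j) then
        (Psi r K g 1 (f.coeff j)).coeff ((n - j) / N) else 0) else 0 := by
    intro n
    rw [Polynomial.eval₂_eq_sum, Polynomial.sum_def, Polynomial.finsetSum_coeff]
    refine Finset.sum_congr rfl (fun j _ => ?_)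
    rw [Polynomial.coeff_mul_X_pow']
    by_cases h1 : j ≤ n
    · rw [if_pos h1, if_pos h1]
      change ((Psi r K g N) (f.coeff j)).coeff (n - j) = _
      rw [psi_expand, Polynomial.coeff_expand hN0]
    · rw [if_neg h1, if_neg h1]
  have hK1 : (Polynomial.eval₂ (Psi r K g N).toRingHom Polynomial.X f).coeff (N * d + jstar) =
      MvPolynomial.C (MvPolynomial.aeval g
        (MvPolynomial.homogeneousComponent d (f.coeff jstar))) := by
    rw [hcoeff, Finset.sum_eq_single jstar]
    · rw [if_pos (Nat.le_add_left _ _), Nat.add_sub_cancel, if_pos (dvd_mul_right N d),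
        Nat.mul_div_cancel_left d hN0]
      exact (psi_coeff g (f.coeff jstar) d (hdeg jstar)).2
    · intro j hj hne
      by_cases h1 : j ≤ N * d + jstar
      · rw [if_pos h1]
        by_cases h2 : N ∣ N * d + jstar - j
        · exfalso
          obtain ⟨q, hq⟩ := h2
          have hjN := hjlt j hj
          have hjsN := hjlt jstar hjs1
          have h3 : N * d + jstar = N * q + j := by omega
          have h4 : (N * d + jstar) % N = (N * q + j) % N := by rw [h3]
          rw [Nat.mul_add_mod, Nat.mul_add_mod, Nat.mod_eq_of_lt hjsN,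
            Nat.mod_eq_of_lt hjN] at h4
          exact hne h4.symm
        · rw [if_neg h2]
      · rw [if_neg h1]
    · intro hns
      exact absurd hjs1 hns
  have hK2 : ∀ n, N * d + jstar < n →
      (Polynomial.eval₂ (Psi r K g N).toRingHom Polynomial.X f).coeff n = 0 := by
    intro n hn
    rw [hcoeff]
    apply Finset.sum_eq_zero
    intro j hj
    by_cases h1 : j ≤ n
    · rw [if_pos h1]
      by_cases h2 : N ∣ n - j
      · rw [if_pos h2]
        obtain ⟨q, hq⟩ := h2
        rw [hq, Nat.mul_div_cancel_left q hN0]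
        have hjN := hjlt j hj
        rcases lt_trichotomy q d with hlt | heq | hgt'
        · exfalso
          have h5 : N * q + N ≤ N * d := by
            have := Nat.mul_le_mul_left N (Nat.succ_le_of_lt hlt)
            rwa [Nat.mul_succ] at this
          omega
        · subst heq
          have hjgt : jstar < j := by omega
          rw [(psi_coeff g (f.coeff j) q (hdeg j)).2, hgt j hjgt, map_zero, map_zero]
        · exact coeff_eq_zero_of_natDegree_lt
            (lt_of_le_of_lt (psi_coeff g (f.coeff j) d (hdeg j)).1 hgt')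
      · rw [if_neg h2]
    · rw [if_neg h1]
  have hCne : MvPolynomial.C (σ := Fin r) (MvPolynomial.aeval g
      (MvPolynomial.homogeneousComponent d (f.coeff jstar))) ≠ 0 :=
    (map_ne_zero_iff _ (MvPolynomial.C_injective _ _)).mpr hg
  have hnat : (Polynomial.eval₂ (Psi r K g N).toRingHom Polynomial.X f).natDegree =
      N * d + jstar :=
    Polynomial.natDegree_eq_of_le_of_coeff_ne_zero
      (Polynomial.natDegree_le_iff_coeff_eq_zero.mpr hK2) (by rw [hK1]; exact hCne)
  refine ⟨hnat, ?_⟩
  rw [Polynomial.leadingCoeff, hnat, hK1]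

theorem finite_injective_of_leadingCoeff {K : Type v} [Field K] {r : ℕ}
    (G : Polynomial (MvPolynomial (Fin r) K)) (c : K) (hc : c ≠ 0)
    (hlead : G.leadingCoeff = MvPolynomial.C c) (hpos : 0 < G.natDegree) :
    Module.Finite (MvPolynomial (Fin r) K)
      (Polynomial (MvPolynomial (Fin r) K) ⧸ Ideal.span {G}) ∧
    Function.Injective ((Ideal.Quotient.mk (Ideal.span {G})).comp
      (algebraMap (MvPolynomial (Fin r) K) (Polynomial (MvPolynomial (Fin r) K)))) := by
  have hu : IsUnit (Polynomial.C (MvPolynomial.C c⁻¹) : Polynomial (MvPolynomial (Fin r) K)) := by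
    have h1 : (Polynomial.C (MvPolynomial.C c⁻¹) : Polynomial (MvPolynomial (Fin r) K)) *
        Polynomial.C (MvPolynomial.C c) = 1 := by
      rw [← map_mul, ← map_mul, inv_mul_cancel₀ hc, map_one, map_one]
    have h2 : (Polynomial.C (MvPolynomial.C c) : Polynomial (MvPolynomial (Fin r) K)) *
        Polynomial.C (MvPolynomial.C c⁻¹) = 1 := by
      rw [mul_comm]; exact h1
    exact ⟨⟨_, _, h1, h2⟩, rfl⟩
  have hCne : (MvPolynomial.C c⁻¹ : MvPolynomial (Fin r) K) ≠ 0 :=
    (map_ne_zero_iff _ (MvPolynomial.C_injective _ _)).mpr (inv_ne_zero hc)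
  have hmonic : (Polynomial.C (MvPolynomial.C c⁻¹) * G).Monic := by
    rw [Polynomial.Monic, Polynomial.leadingCoeff_mul, Polynomial.leadingCoeff_C, hlead,
      ← map_mul, inv_mul_cancel₀ hc, map_one]
  have hspan : Ideal.span {G} = Ideal.span {Polynomial.C (MvPolynomial.C c⁻¹) * G} :=
    (Ideal.span_singleton_mul_left_unit hu G).symm
  have hnat : (Polynomial.C (MvPolynomial.C c⁻¹) * G).natDegree = G.natDegree :=
    Polynomial.natDegree_C_mul hCne
  rw [hspan]
  constructor
  · exact hmonic.finite_adjoinRoot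
  · rw [injective_iff_map_eq_zero]
    intro b hb
    rw [RingHom.comp_apply, Ideal.Quotient.eq_zero_iff_mem, Ideal.mem_span_singleton] at hb
    by_contra hb0
    have h1 : (algebraMap (MvPolynomial (Fin r) K) (Polynomial (MvPolynomial (Fin r) K)) b) ≠
        0 := by
      rw [Polynomial.algebraMap_apply, Algebra.algebraMap_self_apply]
      exact (map_ne_zero_iff _ Polynomial.C_injective).mpr hb0
    have h2 := Polynomial.natDegree_le_of_dvd hb h1
    rw [hnat, Polynomial.algebraMap_apply, Polynomial.natDegree_C] at h2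
    omega

end Groth.Agent.H75.Translate
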