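import Mathlib

/-!
# (LIN3) the functional equation from the per-degree identities (helper74, S15456 squad)
-/

set_option autoImplicit false

universe u v

open CategoryTheory CategoryTheory.Limits AlgebraicGeometry

namespace Groth.Agent.H75.WF_LIN3

open Polynomial in
theorem key {K : Type v} [Field K] (c : K) (hc : c ≠ 0) (χ : K[X]) :
    Polynomial.aeval ((RatFunc.X : RatFunc K)⁻¹ * RatFunc.C c⁻¹) χ.reverse =
      ((RatFunc.X : RatFunc K)⁻¹ * RatFunc.C c⁻¹) ^ χ.natDegree *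
        algebraMap K[X] (RatFunc K) (χ.comp (Polynomial.C c * Polynomial.X)) := by
  have hCc : (RatFunc.C c : RatFunc K) ≠ 0 := by
    rw [Ne, map_eq_zero]; exact hc
  have hx : (RatFunc.C c * RatFunc.X : RatFunc K) ≠ 0 := mul_ne_zero hCc RatFunc.X_ne_zero
  letI : Invertible (RatFunc.C c * RatFunc.X : RatFunc K) := invertibleOfNonzero hx
  have h := Polynomial.eval₂_reverse_mul_pow (algebraMap K (RatFunc K))
    (RatFunc.C c * RatFunc.X) χ
  have hinv : ⅟(RatFunc.C c * RatFunc.X : RatFunc K) =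
      (RatFunc.X : RatFunc K)⁻¹ * RatFunc.C c⁻¹ := by
    rw [invOf_eq_inv, mul_inv_rev, map_inv₀]
  have hτx : ((RatFunc.X : RatFunc K)⁻¹ * RatFunc.C c⁻¹) * (RatFunc.C c * RatFunc.X) = 1 := by
    rw [← hinv]; exact invOf_mul_self _
  rw [hinv] at h
  have h2 : Polynomial.eval₂ (algebraMap K (RatFunc K)) (RatFunc.C c * RatFunc.X) χ =
      algebraMap K[X] (RatFunc K) (χ.comp (C c * X)) := by
    have hxx : (RatFunc.C c * RatFunc.X : RatFunc K) =
        algebraMap K[X] (RatFunc K) (C c * X) := by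
      rw [map_mul, RatFunc.algebraMap_C, RatFunc.algebraMap_X]
    rw [hxx, ← Polynomial.aeval_def, Polynomial.aeval_algebraMap_apply, Polynomial.comp_eq_aeval]
  rw [Polynomial.aeval_def, ← h2, ← h, mul_left_comm, ← mul_pow, hτx, one_pow, mul_one]

theorem alt_sum (B : ℕ → ℕ) (n : ℕ) :
    ∑ i ∈ Finset.range (2 * n + 1), (-1 : ℤ) ^ i * (B i : ℤ) =
      ((∑ j ∈ Finset.range (n + 1), B (2 * j) : ℕ) : ℤ) -
        ((∑ j ∈ Finset.range n, B (2 * j + 1) : ℕ) : ℤ) := by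
  induction n with
  | zero => simp
  | succ k ih =>
    have e1 : 2 * (k + 1) + 1 = (2 * k + 1) + 1 + 1 := by ring
    have p1 : (-1 : ℤ) ^ (2 * k + 1) = -1 := Odd.neg_one_pow ⟨k, rfl⟩
    have p2 : (-1 : ℤ) ^ (2 * k + 1 + 1) = 1 := Even.neg_one_pow ⟨k + 1, by ring⟩
    have e2 : 2 * (k + 1) = 2 * k + 1 + 1 := by ring
    have e3 : B (2 * (k + 1)) = B (2 * k + 1 + 1) := by rw [e2]
    rw [e1, Finset.sum_range_succ, Finset.sum_range_succ, ih, p1, p2]
    simp only [Finset.sum_range_succ, Nat.cast_add, e3]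
    ring

theorem sym_sum (f : ℕ → ℤ) (n : ℕ) (hf : ∀ i, i ≤ 2 * n → f (2 * n - i) = f i) :
    ∑ i ∈ Finset.range (2 * n + 1), f i = f n + 2 * ∑ i ∈ Finset.range n, f i := by
  have e : 2 * n + 1 = (n + 1) + n := by ring
  rw [e, Finset.sum_range_add, Finset.sum_range_succ]
  have hr : ∑ j ∈ Finset.range n, f (n + 1 + (n - 1 - j)) =
      ∑ j ∈ Finset.range n, f (n + 1 + j) :=
    Finset.sum_range_reflect (fun x => f (n + 1 + x)) n
  have : ∑ x ∈ Finset.range n, f (n + 1 + x) = ∑ i ∈ Finset.range n, f i := by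
    rw [← hr]
    refine Finset.sum_congr rfl fun i hi => ?_
    have hi' : i < n := Finset.mem_range.mp hi
    have e2 : n + 1 + (n - 1 - i) = 2 * n - i := by omega
    rw [e2]
    exact hf i (by omega)
  rw [this]; ring

theorem assemble {K : Type v} [Field K] (n : ℕ) (q : K) (hq : q ≠ 0) (O Ev : ℕ) (E m : ℤ)
    (Do De : K) (hE : E = (Ev : ℤ) - O) (hm : (n : ℤ) * E = 2 * m)
    (hDo : Do * Do = (q ^ n) ^ O) (hDe : De * De = (q ^ n) ^ Ev)
    (τ : RatFunc K) (hτ : τ = (RatFunc.X : RatFunc K)⁻¹ * RatFunc.C (q ^ n)⁻¹) :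
    ∃ ε : K, (ε = 1 ∨ ε = -1) ∧
      (τ ^ O * RatFunc.C ((-1) ^ O * Do)) / (τ ^ Ev * RatFunc.C ((-1) ^ Ev * De)) =
      RatFunc.C ε * RatFunc.C q ^ m * (RatFunc.X : RatFunc K) ^ E := by
  have hc0 : q ^ n ≠ 0 := pow_ne_zero _ hq
  have hDe0 : De ≠ 0 := by
    intro h; rw [h, mul_zero] at hDe; exact pow_ne_zero _ hc0 hDe.symm
  have hq2 : q ^ m * q ^ m = (q ^ n) ^ Ev / (q ^ n) ^ O := by
    rw [← zpow_add₀ hq, ← two_mul, ← hm, zpow_mul, zpow_natCast, hE, zpow_sub₀ hc0,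
      zpow_natCast, zpow_natCast]
  have hqm : q ^ m ≠ 0 := zpow_ne_zero _ hq
  obtain ⟨η, hηdef⟩ : ∃ η : K, η = Do / De * q ^ m := ⟨_, rfl⟩
  have hη : η * η = 1 := by
    have : η * η = (Do * Do) / (De * De) * (q ^ m * q ^ m) := by rw [hηdef]; ring
    rw [this, hDo, hDe, hq2]
    have h1 : (q ^ n) ^ O ≠ 0 := pow_ne_zero _ hc0
    have h2 : (q ^ n) ^ Ev ≠ 0 := pow_ne_zero _ hc0
    field_simp
  have hηpm : η = 1 ∨ η = -1 := mul_self_eq_one_iff.mp hη
  have hσ : ((-1 : K) ^ O * (-1) ^ Ev = 1) ∨ ((-1 : K) ^ O * (-1) ^ Ev = -1) := by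
    rw [← pow_add]; exact neg_one_pow_eq_or K _
  refine ⟨(-1) ^ O * (-1) ^ Ev * η, ?_, ?_⟩
  · rcases hσ with h | h <;> rcases hηpm with h' | h' <;> rw [h, h'] <;> simp
  · have hX : (RatFunc.X : RatFunc K) ≠ 0 := RatFunc.X_ne_zero
    have hCq : (RatFunc.C q : RatFunc K) ≠ 0 := by rw [Ne, map_eq_zero]; exact hq
    have hτ' : τ = (RatFunc.C q ^ n * RatFunc.X)⁻¹ := by
      rw [hτ, map_inv₀, map_pow, mul_inv_rev]
    obtain ⟨Y, hY⟩ : ∃ Y : RatFunc K, Y = RatFunc.C q ^ n * RatFunc.X := ⟨_, rfl⟩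
    rw [← hY] at hτ'
    have hY0 : Y ≠ 0 := by rw [hY]; exact mul_ne_zero (pow_ne_zero _ hCq) hX
    have hA : τ ^ O / τ ^ Ev = RatFunc.C q ^ (2 * m) * RatFunc.X ^ E := by
      rw [hτ', ← zpow_natCast (Y⁻¹) O, ← zpow_natCast (Y⁻¹) Ev, ← zpow_sub₀ (inv_ne_zero hY0),
        inv_zpow', neg_sub, ← hE, hY, mul_zpow, ← zpow_natCast (RatFunc.C q) n, ← zpow_mul, hm]
    have hB' : RatFunc.C ((-1) ^ O * Do) / RatFunc.C ((-1) ^ Ev * De) =
        RatFunc.C ((-1) ^ O * (-1) ^ Ev * η) * RatFunc.C q ^ (-m) := by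
      rw [← map_div₀, ← map_zpow₀, ← map_mul]
      congr 1
      have hs : ((-1 : K) ^ Ev) * (-1) ^ Ev = 1 := by rw [← mul_pow]; simp
      have hinv : ((-1 : K) ^ Ev)⁻¹ = (-1) ^ Ev := (eq_inv_of_mul_eq_one_left hs).symm
      rw [hηdef, zpow_neg, div_eq_mul_inv, mul_inv, hinv]
      field_simp
    rw [mul_div_mul_comm, hA, hB']
    have h3 : RatFunc.C q ^ (2 * m) * RatFunc.C q ^ (-m) = RatFunc.C q ^ m := by
      rw [← zpow_add₀ hCq]; congr 1; ring
    calc RatFunc.C q ^ (2 * m) * RatFunc.X ^ E *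
          (RatFunc.C ((-1) ^ O * (-1) ^ Ev * η) * RatFunc.C q ^ (-m))
        = RatFunc.C ((-1) ^ O * (-1) ^ Ev * η) *
            (RatFunc.C q ^ (2 * m) * RatFunc.C q ^ (-m)) * RatFunc.X ^ E := by ring
      _ = _ := by rw [h3]

open Polynomial in
theorem main_aux {K : Type v} [Field K] (n : ℕ) (q : K) (hq : q ≠ 0)
    (B : ℕ → ℕ) (d : ℕ → K) (χ : ℕ → Polynomial K)
    (hdeg : ∀ i, (χ i).natDegree = B i)
    (hB : ∀ i, i ≤ 2 * n → B (2 * n - i) = B i)
    (h1 : ∀ i, i ≤ 2 * n → d (2 * n - i) * d i = (q ^ n) ^ B i)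
    (h2 : ∀ i, i ≤ 2 * n → d i • (χ (2 * n - i)).reverse =
      (-1 : Polynomial K) ^ B i * (χ i).comp (Polynomial.C (q ^ n) * Polynomial.X))
    (heven : Even (n * B n))
    (τ : RatFunc K) (hτ : τ = (RatFunc.X : RatFunc K)⁻¹ * RatFunc.C (q ^ n)⁻¹)
    (E : ℤ) (hEdef : E = ∑ i ∈ Finset.range (2 * n + 1), (-1 : ℤ) ^ i * (B i : ℤ)) :
    ∃ ε : K, (ε = 1 ∨ ε = -1) ∧
      Polynomial.aeval τ (∏ i ∈ Finset.range n, (χ (2 * i + 1)).reverse) /
        Polynomial.aeval τ (∏ i ∈ Finset.range (n + 1), (χ (2 * i)).reverse) =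
      RatFunc.C ε * RatFunc.C q ^ ((n : ℤ) * E / 2) * (RatFunc.X : RatFunc K) ^ E *
        (algebraMap (Polynomial K) (RatFunc K) (∏ i ∈ Finset.range n, (χ (2 * i + 1)).reverse) /
         algebraMap (Polynomial K) (RatFunc K)
          (∏ i ∈ Finset.range (n + 1), (χ (2 * i)).reverse)) := by
  classical
  have hc0 : q ^ n ≠ 0 := pow_ne_zero _ hq
  -- the per-degree identity
  have hstar : ∀ i, i ≤ 2 * n → Polynomial.aeval τ (χ i).reverse =
      (τ ^ B i * RatFunc.C ((-1) ^ B i * d i)) *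
        algebraMap K[X] (RatFunc K) (χ (2 * n - i)).reverse := by
    intro i hi
    have hk : Polynomial.aeval τ (χ i).reverse = τ ^ (χ i).natDegree *
        algebraMap K[X] (RatFunc K) ((χ i).comp (C (q ^ n) * X)) := by
      rw [hτ]; exact key (q ^ n) hc0 (χ i)
    rw [hdeg i] at hk
    have h2' : (χ i).comp (C (q ^ n) * X) =
        C ((-1) ^ B i * d i) * (χ (2 * n - i)).reverse := by
      have h := h2 i hi
      have hsq : ((-1 : K[X]) ^ B i) * ((-1 : K[X]) ^ B i) = 1 := by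
        rw [← mul_pow]; simp
      calc (χ i).comp (C (q ^ n) * X)
          = ((-1 : K[X]) ^ B i * (-1 : K[X]) ^ B i) * (χ i).comp (C (q ^ n) * X) := by
            rw [hsq, one_mul]
        _ = (-1 : K[X]) ^ B i * ((-1 : K[X]) ^ B i * (χ i).comp (C (q ^ n) * X)) := by
            rw [mul_assoc]
        _ = (-1 : K[X]) ^ B i * (d i • (χ (2 * n - i)).reverse) := by rw [← h]
        _ = C ((-1) ^ B i * d i) * (χ (2 * n - i)).reverse := by
            rw [Polynomial.smul_eq_C_mul, ← mul_assoc, C_mul, C_pow, C_neg, C_1]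
    rw [hk, h2', map_mul, RatFunc.algebraMap_C, ← mul_assoc]
  -- scalar products
  have hS : ∀ (N : ℕ) (g : ℕ → ℕ),
      ∏ i ∈ Finset.range N, (τ ^ B (g i) * RatFunc.C ((-1) ^ B (g i) * d (g i))) =
        τ ^ (∑ i ∈ Finset.range N, B (g i)) *
          RatFunc.C ((-1) ^ (∑ i ∈ Finset.range N, B (g i)) *
            ∏ i ∈ Finset.range N, d (g i)) := by
    intro N g
    induction N with
    | zero => simp
    | succ k ih =>
      rw [Finset.prod_range_succ, ih, Finset.sum_range_succ, Finset.prod_range_succ]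
      simp only [pow_add, map_mul, map_pow]
      ring
  have hSodd : ∏ i ∈ Finset.range n,
        (τ ^ B (2 * i + 1) * RatFunc.C ((-1) ^ B (2 * i + 1) * d (2 * i + 1))) =
      τ ^ (∑ i ∈ Finset.range n, B (2 * i + 1)) *
        RatFunc.C ((-1) ^ (∑ i ∈ Finset.range n, B (2 * i + 1)) *
          ∏ i ∈ Finset.range n, d (2 * i + 1)) := hS n (fun i => 2 * i + 1)
  have hSev : ∏ i ∈ Finset.range (n + 1),
        (τ ^ B (2 * i) * RatFunc.C ((-1) ^ B (2 * i) * d (2 * i))) =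
      τ ^ (∑ i ∈ Finset.range (n + 1), B (2 * i)) *
        RatFunc.C ((-1) ^ (∑ i ∈ Finset.range (n + 1), B (2 * i)) *
          ∏ i ∈ Finset.range (n + 1), d (2 * i)) := hS (n + 1) (fun i => 2 * i)
  have hnum : Polynomial.aeval τ (∏ i ∈ Finset.range n, (χ (2 * i + 1)).reverse) =
      (τ ^ (∑ i ∈ Finset.range n, B (2 * i + 1)) *
        RatFunc.C ((-1) ^ (∑ i ∈ Finset.range n, B (2 * i + 1)) *
          ∏ i ∈ Finset.range n, d (2 * i + 1))) *
      algebraMap K[X] (RatFunc K) (∏ i ∈ Finset.range n, (χ (2 * i + 1)).reverse) := by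
    rw [map_prod, map_prod, Finset.prod_congr rfl (fun i hi => hstar (2 * i + 1)
      (by have := Finset.mem_range.mp hi; omega)), Finset.prod_mul_distrib, hSodd]
    congr 1
    have hr : ∏ j ∈ Finset.range n, algebraMap K[X] (RatFunc K) (χ (2 * (n - 1 - j) + 1)).reverse =
        ∏ j ∈ Finset.range n, algebraMap K[X] (RatFunc K) (χ (2 * j + 1)).reverse :=
      Finset.prod_range_reflect (fun x => algebraMap K[X] (RatFunc K) (χ (2 * x + 1)).reverse) n
    rw [← hr]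
    refine Finset.prod_congr rfl fun i hi => ?_
    have hi' : i < n := Finset.mem_range.mp hi
    have e : 2 * n - (2 * i + 1) = 2 * (n - 1 - i) + 1 := by omega
    rw [e]
  have hden : Polynomial.aeval τ (∏ i ∈ Finset.range (n + 1), (χ (2 * i)).reverse) =
      (τ ^ (∑ i ∈ Finset.range (n + 1), B (2 * i)) *
        RatFunc.C ((-1) ^ (∑ i ∈ Finset.range (n + 1), B (2 * i)) *
          ∏ i ∈ Finset.range (n + 1), d (2 * i))) *
      algebraMap K[X] (RatFunc K) (∏ i ∈ Finset.range (n + 1), (χ (2 * i)).reverse) := by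
    rw [map_prod, map_prod, Finset.prod_congr rfl (fun i hi => hstar (2 * i)
      (by have := Finset.mem_range.mp hi; omega)), Finset.prod_mul_distrib, hSev]
    congr 1
    have hr : ∏ j ∈ Finset.range (n + 1),
          algebraMap K[X] (RatFunc K) (χ (2 * (n + 1 - 1 - j))).reverse =
        ∏ j ∈ Finset.range (n + 1), algebraMap K[X] (RatFunc K) (χ (2 * j)).reverse :=
      Finset.prod_range_reflect (fun x => algebraMap K[X] (RatFunc K) (χ (2 * x)).reverse) (n + 1)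
    rw [← hr]
    refine Finset.prod_congr rfl fun i hi => ?_
    have hi' : i < n + 1 := Finset.mem_range.mp hi
    have e : 2 * n - 2 * i = 2 * (n + 1 - 1 - i) := by omega
    rw [e]
  -- the relations among the `d`
  have hDo : (∏ i ∈ Finset.range n, d (2 * i + 1)) * (∏ i ∈ Finset.range n, d (2 * i + 1)) =
      (q ^ n) ^ (∑ i ∈ Finset.range n, B (2 * i + 1)) := by
    have hr : ∏ j ∈ Finset.range n, d (2 * (n - 1 - j) + 1) =
        ∏ j ∈ Finset.range n, d (2 * j + 1) :=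
      Finset.prod_range_reflect (fun x => d (2 * x + 1)) n
    calc (∏ i ∈ Finset.range n, d (2 * i + 1)) * (∏ i ∈ Finset.range n, d (2 * i + 1))
        = (∏ j ∈ Finset.range n, d (2 * (n - 1 - j) + 1)) *
            ∏ j ∈ Finset.range n, d (2 * j + 1) := by rw [hr]
      _ = ∏ j ∈ Finset.range n, (d (2 * (n - 1 - j) + 1) * d (2 * j + 1)) := by
          rw [Finset.prod_mul_distrib]
      _ = ∏ j ∈ Finset.range n, (q ^ n) ^ B (2 * j + 1) := by
          refine Finset.prod_congr rfl fun j hj => ?_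
          have hj' : j < n := Finset.mem_range.mp hj
          have e : 2 * (n - 1 - j) + 1 = 2 * n - (2 * j + 1) := by omega
          rw [e]; exact h1 (2 * j + 1) (by omega)
      _ = _ := by rw [Finset.prod_pow_eq_pow_sum]
  have hDe : (∏ i ∈ Finset.range (n + 1), d (2 * i)) * (∏ i ∈ Finset.range (n + 1), d (2 * i)) =
      (q ^ n) ^ (∑ i ∈ Finset.range (n + 1), B (2 * i)) := by
    have hr : ∏ j ∈ Finset.range (n + 1), d (2 * (n + 1 - 1 - j)) =
        ∏ j ∈ Finset.range (n + 1), d (2 * j) :=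
      Finset.prod_range_reflect (fun x => d (2 * x)) (n + 1)
    calc (∏ i ∈ Finset.range (n + 1), d (2 * i)) * (∏ i ∈ Finset.range (n + 1), d (2 * i))
        = (∏ j ∈ Finset.range (n + 1), d (2 * (n + 1 - 1 - j))) *
            ∏ j ∈ Finset.range (n + 1), d (2 * j) := by rw [hr]
      _ = ∏ j ∈ Finset.range (n + 1), (d (2 * (n + 1 - 1 - j)) * d (2 * j)) := by
          rw [Finset.prod_mul_distrib]
      _ = ∏ j ∈ Finset.range (n + 1), (q ^ n) ^ B (2 * j) := by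
          refine Finset.prod_congr rfl fun j hj => ?_
          have hj' : j < n + 1 := Finset.mem_range.mp hj
          have e : 2 * (n + 1 - 1 - j) = 2 * n - (2 * j) := by omega
          rw [e]; exact h1 (2 * j) (by omega)
      _ = _ := by rw [Finset.prod_pow_eq_pow_sum]
  -- parity
  have hE : E = ((∑ j ∈ Finset.range (n + 1), B (2 * j) : ℕ) : ℤ) -
      ((∑ j ∈ Finset.range n, B (2 * j + 1) : ℕ) : ℤ) := by
    rw [hEdef]; exact alt_sum B n
  have hnE : ∃ m : ℤ, (n : ℤ) * E = 2 * m := by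
    have hs := sym_sum (fun i => (-1 : ℤ) ^ i * (B i : ℤ)) n (by
      intro i hi
      show (-1 : ℤ) ^ (2 * n - i) * (B (2 * n - i) : ℤ) = (-1 : ℤ) ^ i * (B i : ℤ)
      rw [hB i hi]
      congr 1
      rw [neg_one_pow_eq_pow_mod_two, neg_one_pow_eq_pow_mod_two (n := i)]
      congr 1
      omega)
    obtain ⟨r, hr⟩ := heven
    have hr' : (n : ℤ) * (B n : ℤ) = r + r := by exact_mod_cast hr
    rcases neg_one_pow_eq_or ℤ n with h | h
    · refine ⟨r + n * ∑ i ∈ Finset.range n, (-1 : ℤ) ^ i * (B i : ℤ), ?_⟩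
      rw [hEdef, hs, h]
      linear_combination hr'
    · refine ⟨-r + n * ∑ i ∈ Finset.range n, (-1 : ℤ) ^ i * (B i : ℤ), ?_⟩
      rw [hEdef, hs, h]
      linear_combination -hr'
  obtain ⟨m, hm⟩ := hnE
  obtain ⟨ε, hε, hG⟩ := assemble n q hq (∑ i ∈ Finset.range n, B (2 * i + 1))
    (∑ i ∈ Finset.range (n + 1), B (2 * i)) E m (∏ i ∈ Finset.range n, d (2 * i + 1))
    (∏ i ∈ Finset.range (n + 1), d (2 * i)) hE hm hDo hDe τ hτ
  refine ⟨ε, hε, ?_⟩
  rw [hnum, hden, mul_div_mul_comm, hG, hm, Int.mul_ediv_cancel_left _ (by norm_num : (2 : ℤ) ≠ 0)]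

/-- (LIN3) the functional equation from the per-degree identities. -/
theorem functional_equation {K : Type v} [Field K] [CharZero K] (n : ℕ) (q : K) (hq : q ≠ 0)
    (B : ℕ → ℕ) (d : ℕ → K) (χ : ℕ → Polynomial K)
    (hχ : ∀ i, (χ i).Monic) (hdeg : ∀ i, (χ i).natDegree = B i)
    (hB : ∀ i, i ≤ 2 * n → B (2 * n - i) = B i)
    (h1 : ∀ i, i ≤ 2 * n → d (2 * n - i) * d i = (q ^ n) ^ B i)
    (h2 : ∀ i, i ≤ 2 * n → d i • (χ (2 * n - i)).reverse =
      (-1 : Polynomial K) ^ B i * (χ i).comp (Polynomial.C (q ^ n) * Polynomial.X))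
    (heven : Even (n * B n)) :
    ∃ ε : K, (ε = 1 ∨ ε = -1) ∧
      Polynomial.aeval ((RatFunc.X : RatFunc K)⁻¹ * RatFunc.C (q ^ n)⁻¹)
          (∏ i ∈ Finset.range n, (χ (2 * i + 1)).reverse) /
        Polynomial.aeval ((RatFunc.X : RatFunc K)⁻¹ * RatFunc.C (q ^ n)⁻¹)
          (∏ i ∈ Finset.range (n + 1), (χ (2 * i)).reverse) =
      RatFunc.C ε * RatFunc.C q ^ ((n : ℤ) * (∑ i ∈ Finset.range (2 * n + 1),
          (-1 : ℤ) ^ i * (B i : ℤ)) / 2) *
        (RatFunc.X : RatFunc K) ^ (∑ i ∈ Finset.range (2 * n + 1), (-1 : ℤ) ^ i * (B i : ℤ)) *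
        (algebraMap (Polynomial K) (RatFunc K) (∏ i ∈ Finset.range n, (χ (2 * i + 1)).reverse) /
         algebraMap (Polynomial K) (RatFunc K)
          (∏ i ∈ Finset.range (n + 1), (χ (2 * i)).reverse)) :=
  main_aux n q hq B d χ hdeg hB h1 h2 heven _ rfl _ rfl

end Groth.Agent.H75.WF_LIN3
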