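import Mathlib
import Groth.Agent.H75.WI_CH

/-! (CI) for helper74's S14483 squad: Chevalley + irreducibility, image version. -/

set_option autoImplicit false
universe u
open CategoryTheory CategoryTheory.Limits AlgebraicGeometry
open Topology TopologicalSpace

namespace Groth.Agent.H75.WJ_CI

variable (k : Type u) [Field k]

/-- (CI) -/
theorem exists_open_inter_subset_image {W X : Scheme.{u}} (p : X ⟶ Spec (CommRingCat.of k))
    (g : W ⟶ X) [LocallyOfFiniteType p] [CompactSpace X] [LocallyOfFiniteType g] [CompactSpace W]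
    (E : Set W) (hE : IsLocallyClosed E) (Y : Set X) (hYc : IsClosed Y) (hYi : IsIrreducible Y)
    (hEY : g.base '' E ⊆ Y) (h : Y ⊆ closure (g.base '' E)) :
    ∃ U : Set X, IsOpen U ∧ (U ∩ Y).Nonempty ∧ U ∩ Y ⊆ g.base '' E := by
  have : IsLocallyNoetherian X := LocallyOfFiniteType.isLocallyNoetherian p
  have : IsNoetherian X := ⟨⟩
  have : IsLocallyNoetherian W := LocallyOfFiniteType.isLocallyNoetherian g
  have : IsNoetherian W := ⟨⟩
  have hopen : ∀ T : Set W, IsOpen T → IsConstructible T := fun T hT =>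
    IsRetrocompact.isConstructible hT (fun V _ _ => NoetherianSpace.isCompact _)
  have hclosed : ∀ T : Set W, IsClosed T → IsConstructible T := by
    intro T hT
    simpa using (hopen _ hT.isOpen_compl).compl
  obtain ⟨U', Z', hU', hZ', rfl⟩ := hE
  have hEc : IsConstructible (U' ∩ Z') := (hopen U' hU').inter (hclosed Z' hZ')
  have hC : IsConstructible (g.base '' (U' ∩ Z')) := g.isConstructible_image hEc
  obtain ⟨η, hη⟩ := QuasiSober.sober hYi hYc
  have hηdef : closure {η} = Y := hη
  obtain ⟨V, hVo, hηV, hV⟩ := Groth.Agent.H75.WI_CH.aux hC η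
  have hηY : η ∈ Y := hηdef ▸ subset_closure (Set.mem_singleton η)
  rcases hV with hV | hV
  · refine ⟨V, hVo, ⟨η, hηV, hηY⟩, ?_⟩
    rw [← hηdef]; exact hV
  · exfalso
    obtain ⟨c, hcV, hcC⟩ := mem_closure_iff.mp (h hηY) V hVo hηV
    exact hV ⟨hcV, hηdef ▸ hEY hcC⟩ hcC

end Groth.Agent.H75.WJ_CI
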