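import Mathlib
import Groth.Agent.H75.IE1
import Groth.Agent.H87.PowEval
import Groth.Agent.H87.LimSystem
import Groth.Agent.H81.WildAS

/-!
# Invariants of a finite group acting on a complete local ring with a coefficient field
(helpers for S15798)
-/

set_option autoImplicit false
universe u v w

namespace Groth.Agent.H75.WQ1

open IsLocalRing

section Approx

variable {k : Type v} [Field k] {A : Type u} [CommRing A] [IsLocalRing A] [Algebra k A]

theorem approx_step (hk : ∀ a : A, ∃ c : k, a - algebraMap k A c ∈ maximalIdeal A)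
    {r : ℕ} (u : Fin r → A) (hu : Ideal.span (Set.range u) = maximalIdeal A) :
    ∀ (N : ℕ) (y : A), y ∈ maximalIdeal A ^ N →
      ∃ Q : MvPolynomial (Fin r) k, y - MvPolynomial.aeval u Q ∈ maximalIdeal A ^ (N + 1) := by
  intro N
  induction N with
  | zero =>
    intro y _
    obtain ⟨c, hc⟩ := hk y
    refine ⟨MvPolynomial.C c, ?_⟩
    rw [MvPolynomial.aeval_C, zero_add, pow_one]
    exact hc
  | succ N ih =>
    intro y hy
    have hy' : y ∈ maximalIdeal A • maximalIdeal A ^ N := by
      rw [Ideal.smul_eq_mul, ← pow_succ']; exact hy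
    refine Submodule.smul_induction_on hy' ?_ ?_
    · intro a ha b hb
      rw [smul_eq_mul]
      rw [← hu] at ha
      obtain ⟨c, rfl⟩ := Ideal.mem_span_range_iff_exists_fun.mp ha
      have hQ : ∀ j, ∃ Q : MvPolynomial (Fin r) k,
          c j * b - MvPolynomial.aeval u Q ∈ maximalIdeal A ^ (N + 1) :=
        fun j => ih (c j * b) (Ideal.mul_mem_left _ _ hb)
      choose Q hQ using hQ
      refine ⟨∑ j, MvPolynomial.X j * Q j, ?_⟩
      have e : (∑ j, c j * u j) * b - MvPolynomial.aeval u (∑ j, MvPolynomial.X j * Q j) =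
          ∑ j, u j * (c j * b - MvPolynomial.aeval u (Q j)) := by
        rw [map_sum, Finset.sum_mul, ← Finset.sum_sub_distrib]
        apply Finset.sum_congr rfl
        intro j _
        rw [map_mul, MvPolynomial.aeval_X]
        ring
      rw [e]
      apply Ideal.sum_mem
      intro j _
      rw [pow_succ' (maximalIdeal A) (N + 1)]
      apply Ideal.mul_mem_mul _ (hQ j)
      rw [← hu]
      exact Ideal.subset_span ⟨j, rfl⟩
    · rintro x y ⟨Q1, h1⟩ ⟨Q2, h2⟩
      refine ⟨Q1 + Q2, ?_⟩
      have e : x + y - MvPolynomial.aeval u (Q1 + Q2) =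
          (x - MvPolynomial.aeval u Q1) + (y - MvPolynomial.aeval u Q2) := by
        rw [map_add]; ring
      rw [e]
      exact add_mem h1 h2

theorem approx_poly (hk : ∀ a : A, ∃ c : k, a - algebraMap k A c ∈ maximalIdeal A)
    {r : ℕ} (u : Fin r → A) (hu : Ideal.span (Set.range u) = maximalIdeal A) :
    ∀ (N : ℕ) (a : A),
      ∃ P : MvPolynomial (Fin r) k, a - MvPolynomial.aeval u P ∈ maximalIdeal A ^ N := by
  intro N
  induction N with
  | zero =>
    intro a
    exact ⟨0, by rw [pow_zero, Ideal.one_eq_top]; exact Submodule.mem_top⟩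
  | succ N ih =>
    intro a
    obtain ⟨P, hP⟩ := ih a
    obtain ⟨Q, hQ⟩ := approx_step hk u hu N _ hP
    refine ⟨P + Q, ?_⟩
    have e : a - MvPolynomial.aeval u (P + Q) =
        (a - MvPolynomial.aeval u P) - MvPolynomial.aeval u Q := by
      rw [map_add]; ring
    rw [e]; exact hQ

end Approx

section Action

variable {A : Type u} [CommRing A] [IsLocalRing A] {G : Type w} [Group G] [MulSemiringAction G A]

theorem smul_mem_max (σ : G) (z : A) (hz : z ∈ maximalIdeal A) : σ • z ∈ maximalIdeal A := by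
  rw [mem_maximalIdeal, mem_nonunits_iff] at hz ⊢
  intro hunit
  apply hz
  have h := hunit.map (MulSemiringAction.toRingHom G A σ⁻¹)
  rwa [MulSemiringAction.toRingHom_apply, inv_smul_smul] at h

theorem smul_mem_pow (σ : G) (N : ℕ) (z : A) (hz : z ∈ maximalIdeal A ^ N) :
    σ • z ∈ maximalIdeal A ^ N := by
  have hle : Ideal.map (MulSemiringAction.toRingHom G A σ) (maximalIdeal A) ≤ maximalIdeal A := by
    rw [Ideal.map_le_iff_le_comap]
    intro y hy
    rw [Ideal.mem_comap, MulSemiringAction.toRingHom_apply]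
    exact smul_mem_max σ y hy
  have h1 : MulSemiringAction.toRingHom G A σ z ∈
      Ideal.map (MulSemiringAction.toRingHom G A σ) (maximalIdeal A ^ N) :=
    Ideal.mem_map_of_mem _ hz
  rw [Ideal.map_pow, MulSemiringAction.toRingHom_apply] at h1
  exact Ideal.pow_right_mono hle N h1

theorem fixed_of_approx [IsHausdorff (maximalIdeal A) A] (x : A)
    (h : ∀ N : ℕ, ∃ y : A, (∀ σ : G, σ • y = y) ∧ x - y ∈ maximalIdeal A ^ N) (σ : G) :
    σ • x = x := by
  rw [← sub_eq_zero]
  apply IsHausdorff.haus (inferInstance : IsHausdorff (maximalIdeal A) A)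
  intro N
  rw [SModEq.zero, smul_eq_mul, Ideal.mul_top]
  obtain ⟨y, hy, hxy⟩ := h N
  have e : σ • x - x = σ • (x - y) - (x - y) := by
    rw [smul_sub, hy σ]; ring
  rw [e]
  exact sub_mem (smul_mem_pow σ N _ hxy) hxy

theorem pow_card_mem [Fintype G] (a : A) (ha : a ∈ maximalIdeal A) :
    a ^ Fintype.card G ∈ Ideal.map (FixedPoints.subring A G).subtype
      (Ideal.comap (FixedPoints.subring A G).subtype (maximalIdeal A)) := by
  classical
  let w : G → A := fun σ => σ • a
  have hw : ∀ (γ : G) (c : G), γ • w c = w (γ • c) := fun γ c => by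
    show γ • (c • a) = (γ • c) • a
    rw [smul_smul, smul_eq_mul]
  obtain ⟨fB, hfB⟩ := IE1.exists_map_eq_of_smul_eq (IE1.fpoly w) (IE1.smul_fpoly w hw)
  have hwm : ∀ c, w c ∈ maximalIdeal A := fun c => smul_mem_max c a ha
  have hres : (IE1.fpoly w).map (IsLocalRing.residue A) = Polynomial.X ^ Fintype.card G := by
    unfold IE1.fpoly
    rw [Polynomial.map_prod]
    have h1 : ∀ c : G, (Polynomial.X - Polynomial.C (w c)).map (IsLocalRing.residue A)
        = Polynomial.X := by
      intro c
      rw [Polynomial.map_sub, Polynomial.map_X, Polynomial.map_C,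
        (IsLocalRing.residue_eq_zero_iff _).mpr (hwm c), map_zero, sub_zero]
    simp_rw [h1]
    rw [Finset.prod_const, Finset.card_univ]
  have hmonic := IE1.fpoly_monic w
  have hdeg : (IE1.fpoly w).natDegree = Fintype.card G := by
    rw [← hmonic.natDegree_map (IsLocalRing.residue A), hres, Polynomial.natDegree_X_pow]
  have hcoeff : ∀ i, i < Fintype.card G → (IE1.fpoly w).coeff i ∈ maximalIdeal A := by
    intro i hi
    rw [← IsLocalRing.residue_eq_zero_iff, ← Polynomial.coeff_map, hres, Polynomial.coeff_X_pow,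
      if_neg (ne_of_lt hi)]
  have heval : (IE1.fpoly w).eval a = 0 := by
    have h := IE1.eval_fpoly w 1
    have h1 : w 1 = a := one_smul G a
    rwa [h1] at h
  have h2 := congrArg (Polynomial.eval a) hmonic.as_sum
  rw [heval, hdeg, Polynomial.eval_add, Polynomial.eval_pow, Polynomial.eval_X,
    Polynomial.eval_finset_sum] at h2
  have h3 : a ^ Fintype.card G = - ∑ i ∈ Finset.range (Fintype.card G),
      Polynomial.eval a (Polynomial.C ((IE1.fpoly w).coeff i) * Polynomial.X ^ i) := by
    linear_combination -h2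
  rw [h3]
  apply neg_mem
  apply Ideal.sum_mem
  intro i hi
  rw [Polynomial.eval_mul, Polynomial.eval_C, Polynomial.eval_pow, Polynomial.eval_X]
  apply Ideal.mul_mem_right
  have hc := hcoeff i (Finset.mem_range.mp hi)
  rw [← hfB, Polynomial.coeff_map] at hc ⊢
  exact Ideal.mem_map_of_mem _ (Ideal.mem_comap.mpr hc)

end Action

section PS

variable {k : Type v} [Field k]

theorem hkC (s : ℕ) (f : MvPowerSeries (Fin s) k) :
    ∃ c : k, f - algebraMap k (MvPowerSeries (Fin s) k) c ∈
      maximalIdeal (MvPowerSeries (Fin s) k) := by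
  refine ⟨MvPowerSeries.constantCoeff f, ?_⟩
  apply Groth.Agent.H81.WildAS.mem_max_of_constantCoeff
  rw [map_sub, MvPowerSeries.algebraMap_apply, MvPowerSeries.constantCoeff_C]
  simp

variable {A : Type u} [CommRing A] [IsLocalRing A] [Algebra k A]

theorem map_max_le {s : ℕ} (b : Fin s → A) (hbm : ∀ j, b j ∈ maximalIdeal A)
    (e : MvPowerSeries (Fin s) k →ₐ[k] A) (heX : ∀ j, e (MvPowerSeries.X j) = b j) :
    Ideal.map e.toRingHom (maximalIdeal (MvPowerSeries (Fin s) k)) ≤ maximalIdeal A := by
  rw [← Groth.Agent.H81.WildAS.hd_R k s, Ideal.map_span, Ideal.span_le]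
  rintro _ ⟨_, ⟨j, rfl⟩, rfl⟩
  show e (MvPowerSeries.X j) ∈ _
  rw [heX]; exact hbm j

theorem eval_fixed [IsHausdorff (maximalIdeal A) A] {G : Type w} [Group G]
    [MulSemiringAction G A]
    (hGk : ∀ (σ : G) (c : k), σ • algebraMap k A c = algebraMap k A c)
    {s : ℕ} (b : Fin s → A) (hbm : ∀ j, b j ∈ maximalIdeal A) (hbG : ∀ (σ : G) j, σ • b j = b j)
    (e : MvPowerSeries (Fin s) k →ₐ[k] A) (heX : ∀ j, e (MvPowerSeries.X j) = b j)
    (f : MvPowerSeries (Fin s) k) (σ : G) : σ • e f = e f := by
  have hinv : ∀ (P : MvPolynomial (Fin s) k) (τ : G),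
      τ • MvPolynomial.aeval b P = MvPolynomial.aeval b P := by
    intro P τ
    induction P using MvPolynomial.induction_on with
    | C c => rw [MvPolynomial.aeval_C]; exact hGk τ c
    | add p q hp hq => rw [map_add, smul_add, hp, hq]
    | mul_X p j hp => rw [map_mul, MvPolynomial.aeval_X, smul_mul', hp, hbG]
  apply fixed_of_approx (e f) _ σ
  intro N
  obtain ⟨P, hP⟩ := approx_poly (k := k) (A := MvPowerSeries (Fin s) k) (hkC s)
    (fun j => MvPowerSeries.X j) (Groth.Agent.H81.WildAS.hd_R k s) N f
  refine ⟨MvPolynomial.aeval b P, hinv P, ?_⟩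
  · have h1 := MvPolynomial.comp_aeval_apply
      (f := fun j => (MvPowerSeries.X j : MvPowerSeries (Fin s) k)) e P
    have hb : (fun i => e (MvPowerSeries.X i : MvPowerSeries (Fin s) k)) = b := funext heX
    rw [hb] at h1
    rw [← h1, ← map_sub]
    have h2 : e.toRingHom (f - MvPolynomial.aeval
        (fun j => (MvPowerSeries.X j : MvPowerSeries (Fin s) k)) P) ∈
        Ideal.map e.toRingHom (maximalIdeal (MvPowerSeries (Fin s) k) ^ N) :=
      Ideal.mem_map_of_mem _ hP
    rw [Ideal.map_pow] at h2
    exact Ideal.pow_right_mono (map_max_le b hbm e heX) N h2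

theorem finite_of_pow_le [IsHausdorff (maximalIdeal A) A]
    (hk : ∀ a : A, ∃ c : k, a - algebraMap k A c ∈ maximalIdeal A)
    {r : ℕ} (u : Fin r → A) (hu : Ideal.span (Set.range u) = maximalIdeal A)
    {s : ℕ} (b : Fin s → A) (hbm : ∀ j, b j ∈ maximalIdeal A)
    (N : ℕ) (hN : maximalIdeal A ^ N ≤ Ideal.span (Set.range b))
    (e : MvPowerSeries (Fin s) k →ₐ[k] A) (heX : ∀ j, e (MvPowerSeries.X j) = b j) :
    ∃ mon : (Fin r → Fin N) → A, ∀ a : A,
      ∃ c : (Fin r → Fin N) → MvPowerSeries (Fin s) k, a = ∑ z, e (c z) * mon z := by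
  classical
  letI alg : Algebra (MvPowerSeries (Fin s) k) A := e.toRingHom.toAlgebra
  have hsmul : ∀ (c : MvPowerSeries (Fin s) k) (a : A), c • a = e c * a := fun c a => rfl
  have hJspan : Ideal.span (Set.range fun j : Fin s =>
      (MvPowerSeries.X j : MvPowerSeries (Fin s) k)) = maximalIdeal (MvPowerSeries (Fin s) k) :=
    Groth.Agent.H81.WildAS.hd_R k s
  have hXJ : ∀ j, (MvPowerSeries.X j : MvPowerSeries (Fin s) k) ∈
      maximalIdeal (MvPowerSeries (Fin s) k) := fun j => by
    rw [← hJspan]; exact Ideal.subset_span ⟨j, rfl⟩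
  have hmapJ := map_max_le b hbm e heX
  haveI : IsHausdorff (maximalIdeal (MvPowerSeries (Fin s) k)) A := by
    refine ⟨fun x hx => ?_⟩
    apply IsHausdorff.haus (inferInstance : IsHausdorff (maximalIdeal A) A) x
    intro i
    rw [SModEq.zero, smul_eq_mul, Ideal.mul_top]
    have hxi := hx i
    rw [SModEq.zero] at hxi
    refine Submodule.smul_induction_on hxi ?_ ?_
    · intro c hc a _
      rw [hsmul]
      apply Ideal.mul_mem_right
      have h1 : e.toRingHom c ∈ Ideal.map e.toRingHom
          (maximalIdeal (MvPowerSeries (Fin s) k) ^ i) := Ideal.mem_map_of_mem _ hc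
      rw [Ideal.map_pow] at h1
      exact Ideal.pow_right_mono hmapJ i h1
    · intro x y hx hy; exact add_mem hx hy
  let mon : (Fin r → Fin N) → A := fun z => ∏ j, u j ^ (z j : ℕ)
  have huM : ∀ j, u j ∈ maximalIdeal A := fun j => by
    rw [← hu]; exact Ideal.subset_span ⟨j, rfl⟩
  have hS2 : ∀ x ∈ Ideal.span (Set.range b),
      x ∈ (maximalIdeal (MvPowerSeries (Fin s) k) • ⊤ :
        Submodule (MvPowerSeries (Fin s) k) A) := by
    intro x hx
    obtain ⟨c, rfl⟩ := Ideal.mem_span_range_iff_exists_fun.mp hx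
    apply Submodule.sum_mem
    intro j _
    have e1 : c j * b j = (MvPowerSeries.X j : MvPowerSeries (Fin s) k) • c j := by
      rw [hsmul, heX, mul_comm]
    rw [e1]
    exact Submodule.smul_mem_smul (hXJ j) Submodule.mem_top
  have hterm : ∀ (c : k) (α : Fin r →₀ ℕ), algebraMap k A c * ∏ j, u j ^ α j ∈
      Submodule.span (MvPowerSeries (Fin s) k) (Set.range mon) ⊔
        (maximalIdeal (MvPowerSeries (Fin s) k) • ⊤ :
          Submodule (MvPowerSeries (Fin s) k) A) := by
    intro c α
    by_cases h : ∀ j, α j < N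
    · apply Submodule.mem_sup_left
      have h1 : ∏ j, u j ^ α j = mon (fun j => ⟨α j, h j⟩) := rfl
      have h2 : algebraMap k A c * mon (fun j => ⟨α j, h j⟩) =
          (algebraMap k (MvPowerSeries (Fin s) k) c) • mon (fun j => ⟨α j, h j⟩) := by
        rw [hsmul, AlgHom.commutes]
      rw [h1, h2]
      exact Submodule.smul_mem _ _ (Submodule.subset_span ⟨_, rfl⟩)
    · apply Submodule.mem_sup_right
      apply hS2
      apply hN
      push_neg at h
      obtain ⟨j, hj⟩ := h
      apply Ideal.mul_mem_left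
      apply Ideal.mem_of_dvd _ (Finset.dvd_prod_of_mem (fun j => u j ^ α j) (Finset.mem_univ j))
      exact Ideal.pow_le_pow_right hj (Ideal.pow_mem_pow (huM j) (α j))
  have hspan : Submodule.span (MvPowerSeries (Fin s) k) (Set.range mon) ⊔
      (maximalIdeal (MvPowerSeries (Fin s) k) • ⊤ :
        Submodule (MvPowerSeries (Fin s) k) A) = ⊤ := by
    rw [eq_top_iff]
    intro a _
    obtain ⟨P, hP⟩ := approx_poly hk u hu N a
    have h1 : a = (a - MvPolynomial.aeval u P) + MvPolynomial.aeval u P := by ring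
    rw [h1]
    apply add_mem
    · exact Submodule.mem_sup_right (hS2 _ (hN hP))
    · rw [MvPolynomial.aeval_def, MvPolynomial.eval₂_eq']
      apply Submodule.sum_mem
      intro α _
      exact hterm _ α
  have htop := Groth.Agent.H87.LimSystem.span_eq_top_of_hausdorff
    (maximalIdeal (MvPowerSeries (Fin s) k)) mon hspan
  refine ⟨mon, fun a => ?_⟩
  have ha : a ∈ Submodule.span (MvPowerSeries (Fin s) k) (Set.range mon) := by
    rw [htop]; exact Submodule.mem_top
  obtain ⟨c, hc⟩ := (Submodule.mem_span_range_iff_exists_fun _).mp ha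
  exact ⟨c, hc.symm⟩

end PS

section Normal

theorem isIntegrallyClosed_fixed {A : Type u} [CommRing A] [IsDomain A] [IsIntegrallyClosed A]
    {G : Type w} [Group G] [MulSemiringAction G A] :
    IsIntegrallyClosed (FixedPoints.subring A G) := by
  have hg : Function.Injective
      ((algebraMap A (FractionRing A)).comp (FixedPoints.subring A G).subtype) :=
    (IsFractionRing.injective A (FractionRing A)).comp Subtype.val_injective
  let ψ : FractionRing (FixedPoints.subring A G) →+* FractionRing A := IsFractionRing.lift hg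
  have hψ : ∀ b : FixedPoints.subring A G,
      ψ (algebraMap _ (FractionRing (FixedPoints.subring A G)) b) =
        algebraMap A (FractionRing A) (b : A) :=
    fun b => IsFractionRing.lift_algebraMap hg b
  rw [isIntegrallyClosed_iff (FractionRing (FixedPoints.subring A G))]
  intro x hx
  have hint : IsIntegral A (ψ x) := by
    obtain ⟨p, hpm, hpx⟩ := hx
    refine ⟨p.map (FixedPoints.subring A G).subtype, hpm.map _, ?_⟩
    rw [Polynomial.eval₂_map]
    have h1 := congrArg ψ hpx
    rw [Polynomial.hom_eval₂, map_zero] at h1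
    have h2 : ψ.comp (algebraMap (FixedPoints.subring A G)
        (FractionRing (FixedPoints.subring A G))) =
        (algebraMap A (FractionRing A)).comp (FixedPoints.subring A G).subtype :=
      RingHom.ext hψ
    rw [h2] at h1
    exact h1
  obtain ⟨a, ha⟩ := IsIntegrallyClosed.isIntegral_iff.mp hint
  obtain ⟨b1, b2, hb⟩ := IsLocalization.exists_mk'_eq
    (nonZeroDivisors (FixedPoints.subring A G)) x
  have hspec : x * algebraMap _ (FractionRing (FixedPoints.subring A G))
      (b2 : FixedPoints.subring A G) = algebraMap _ _ b1 := by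
    rw [← hb]; exact IsLocalization.mk'_spec _ b1 b2
  have h3 : a * (((b2 : FixedPoints.subring A G)) : A) = (b1 : A) := by
    apply IsFractionRing.injective A (FractionRing A)
    rw [map_mul, ha, ← hψ, ← hψ, ← map_mul, hspec]
  have hb2 : (((b2 : FixedPoints.subring A G)) : A) ≠ 0 := by
    intro h
    have h0 : (b2 : FixedPoints.subring A G) = 0 := Subtype.ext h
    exact nonZeroDivisors.coe_ne_zero b2 h0
  have hafix : ∀ σ : G, σ • a = a := by
    intro σ
    have h4 : σ • a * (((b2 : FixedPoints.subring A G)) : A) =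
        a * (((b2 : FixedPoints.subring A G)) : A) := by
      have h5 := congrArg (fun y => σ • y) h3
      simp only [smul_mul'] at h5
      rw [(b2 : FixedPoints.subring A G).2 σ, b1.2 σ] at h5
      rw [h5, h3]
    exact mul_right_cancel₀ hb2 h4
  refine ⟨⟨a, hafix⟩, ?_⟩
  rw [← hb, IsLocalization.eq_mk'_iff_mul_eq, ← map_mul]
  congr 1
  exact Subtype.ext h3

end Normal

section Complete

theorem isPrecomplete_of_surjective' {R : Type*} [CommRing R] (I : Ideal R) {M N : Type*}
    [AddCommGroup M] [Module R M] [AddCommGroup N] [Module R N] (f : M →ₗ[R] N)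
    (hf : Function.Surjective f) [IsPrecomplete I M] : IsPrecomplete I N := by
  rw [← AdicCompletion.of_surjective_iff]
  intro y
  obtain ⟨x, rfl⟩ := AdicCompletion.map_surjective I hf y
  obtain ⟨m, rfl⟩ := AdicCompletion.of_surjective I M x
  exact ⟨f m, (AdicCompletion.map_of I f m).symm⟩

end Complete

end Groth.Agent.H75.WQ1
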