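import Mathlib
import Groth.Prelude

/-! (KER) for helper85's S17377 squad. -/

set_option autoImplicit false
universe u
open CategoryTheory CategoryTheory.Limits AlgebraicGeometry

namespace Groth.Agent.H75.WeilSplit_KER

/-- (KER) -/
theorem ker_comp_ideal_eq_of_preimage_subset_range {E P Y : Scheme.{u}} (j : E ⟶ P)
    [IsOpenImmersion j] (q : P ⟶ Y) [QuasiCompact q] [QuasiCompact (j ≫ q)] (U : Y.affineOpens)
    (hU : ((q ⁻¹ᵁ U.1 : P.Opens) : Set P) ⊆ Set.range j) :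
    (j ≫ q).ker.ideal U = q.ker.ideal U := by
  rw [Scheme.Hom.ker_apply, Scheme.Hom.ker_apply]
  have hle : (q ⁻¹ᵁ U.1 : P.Opens) ≤ j.opensRange := hU
  haveI : IsIso (j.app (q ⁻¹ᵁ U.1)) := Scheme.Hom.isIso_app j _ hle
  have hinj : Function.Injective (j.app (q ⁻¹ᵁ U.1)).hom :=
    ((ConcreteCategory.isIso_iff_bijective (j.app (q ⁻¹ᵁ U.1))).mp inferInstance).1
  ext x
  simp only [RingHom.mem_ker]
  have hcomp : ((j ≫ q).app U.1).hom x = (j.app (q ⁻¹ᵁ U.1)).hom ((q.app U.1).hom x) := rfl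
  rw [hcomp]
  exact map_eq_zero_iff _ hinj

end Groth.Agent.H75.WeilSplit_KER
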